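import Groth.Agent.H06EGA14.EquidimStalk
import Groth.Agent.H13CInt.FibreDim
import Groth.Agent.H8Props.FibreStalk

/-!
# Criteria for equidimensionality at a point (EGA IV 13.3.6, 14.2.4, 14.3.8)
-/

set_option autoImplicit false
set_option linter.style.haveILetI false
set_option backward.isDefEq.respectTransparency false
universe u

open CategoryTheory CategoryTheory.Limits AlgebraicGeometry TopologicalSpace Topology

namespace Groth.Agent.H06EGA14

open H8Props.FieldDim

/-- Equidimensionality from the components through the point. -/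
theorem isEquidimAt_of_forall_component {X Y : Scheme.{u}} [IsLocallyNoetherian Y] (f : X ⟶ Y)
    [LocallyOfFiniteType f] (x : X) (e : ℕ) (hfd : FlatMor.fibreDimAt f x ≤ (e : ℕ))
    (hall : ∀ ζ : X, ζ ⤳ x → (∀ w, w ⤳ ζ → w = ζ) →
      (∀ w, w ⤳ f ζ → w = f ζ) ∧ FlatMor.fibreDimAt f ζ = (e : ℕ)) :
    EGA43.IsEquidimAt f x := by
  haveI : IsLocallyNoetherian X := LocallyOfFiniteType.isLocallyNoetherian f
  let U₀ : X.Opens := ⟨{z | FlatMor.fibreDimAt f z ≤ (e : ℕ)}, H7Flat.isOpen_fibreDimAt_le' f _⟩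
  obtain ⟨U, hxU, hUle, hU⟩ := H06Equidim.exists_nhd_components_mem x U₀ hfd
  refine ⟨e, U, hxU, fun Z hZ => ?_, fun z Z hZ =>
    H06Equidim.dim_component_fibre_of_fibreDimAt (U.ι ≫ f) e (fun w => ?_) _ Z hZ⟩
  · obtain ⟨η, rfl, hη⟩ := H8Props.FieldDim.mem_irreducibleComponents_iff (Z := U.toScheme) hZ
    have hηX : ∀ ζ, ζ ⤳ U.ι η → ζ = U.ι η := fun ζ hζ => by
      rw [← hη ⟨ζ, hζ.mem_open U.2 η.2⟩ (U.ι.isEmbedding.isInducing.specializes_iff.mp hζ)]
      rfl
    have hsp := hU _ η.2 hηX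
    exact ⟨closure {f (U.ι η)}, H06Equidim.closure_singleton_mem_irreducibleComponents _ (hall _ hsp hηX).1,
      (hsp.map f.continuous).mem_closure, H06Equidim.closure_image_closure_singleton (U.ι ≫ f) η⟩
  · rw [H06Equidim.fibreDimAt_opens_ι]
    obtain ⟨η, hη, hT⟩ := exists_component_generization (U.ι w)
    have hηmax' := H06Equidim.eq_of_specializes_of_component hT
    refine le_antisymm (hUle w.2) ?_
    rw [← (hall η (hU η (hη.mem_open U.2 w.2) hηmax') hηmax').2]
    exact fibreDimAt_le_of_specializes f hη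

/-- An equidimensional local ring of large dimension forces all components to dominate with full
generic fibre dimension. -/
theorem forall_component_of_dim {X Y : Scheme.{u}} [IsLocallyNoetherian Y] (f : X ⟶ Y)
    [LocallyOfFiniteType f] (x : X) (hX : EGA4.IsEquidim (X.presheaf.stalk x)) (d t e : ℕ)
    (hd : ringKrullDim (Y.presheaf.stalk (f x)) = d) (ht : cdim (f.asFiber x) = t)
    (hfd : FlatMor.fibreDimAt f x = (e : ℕ))
    (hdim : ((d + e : ℕ) : WithBot ℕ∞) ≤ ringKrullDim (X.presheaf.stalk x) + (t : ℕ)) :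
    ∀ ζ : X, ζ ⤳ x → (∀ w, w ⤳ ζ → w = ζ) →
      (∀ w, w ⤳ f ζ → w = f ζ) ∧ FlatMor.fibreDimAt f ζ = (e : ℕ) := by
  haveI : IsLocallyNoetherian X := LocallyOfFiniteType.isLocallyNoetherian f
  intro ζ hζ hζmax
  obtain ⟨q, rfl⟩ : ζ ∈ Set.range (X.fromSpecStalk x) := by
    rw [Scheme.range_fromSpecStalk]; exact hζ
  obtain ⟨c, hc, -⟩ := H06Equidim.exists_trdeg_asFiber f (X.fromSpecStalk x q)
  have hce : c ≤ e := by
    have h1 : cdim (f.asFiber (X.fromSpecStalk x q)) ≤ (e : WithBot ℕ∞) :=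
      (H06Equidim.cdim_asFiber_le_fibreDimAt f _).trans
        ((fibreDimAt_le_of_specializes f hζ).trans hfd.le)
    rw [hc] at h1
    exact_mod_cast h1
  set A := Y.presheaf.stalk (f x)
  set q₀ : PrimeSpectrum A := PrimeSpectrum.comap (f.stalkMap x).hom q
  haveI := q₀.2
  obtain ⟨d₀, hd₀⟩ := H05EGA4.exists_nat_dim_quotient_eq q₀.asIdeal
  have h2 := quotient_dim_add_le f x q d₀ t c hd₀ ht hc.le
  have hqmin : q.asIdeal ∈ minimalPrimes (X.presheaf.stalk x) := by
    refine ⟨⟨q.2, bot_le⟩, fun J hJ hJle => ?_⟩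
    have h1 := hζmax (X.fromSpecStalk x ⟨J, hJ.1⟩) (((PrimeSpectrum.le_iff_specializes
      (⟨J, hJ.1⟩ : PrimeSpectrum (X.presheaf.stalk x)) q).mp hJle).map (X.fromSpecStalk x).continuous)
    exact (congrArg PrimeSpectrum.asIdeal ((X.fromSpecStalk x).isEmbedding.injective h1)).ge
  rw [hX _ hqmin] at h2
  have h3 : d + e ≤ d₀ + c := by exact_mod_cast hdim.trans h2
  have hdd : d₀ ≤ d := by
    have := (ringKrullDim_quotient_le q₀.asIdeal).trans hd.le
    rw [hd₀] at this
    exact_mod_cast this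
  have hq₀min : q₀.asIdeal ∈ minimalPrimes A := by
    rw [← Ideal.height_eq_zero_iff]
    have h4 := H05EGA4.height_add_dim_quotient_le q₀.asIdeal
    rw [hd₀, hd] at h4
    obtain ⟨m, hm⟩ := H05EGA4.exists_nat_height_eq q₀.asIdeal
    rw [hm] at h4 ⊢
    have h5 : m + d₀ ≤ d := by exact_mod_cast h4
    exact_mod_cast (show m = 0 by omega)
  refine ⟨?_, ?_⟩
  · have hnat : Y.fromSpecStalk (f x) q₀ = f (X.fromSpecStalk x q) :=
      congrArg (fun φ : Spec (X.presheaf.stalk x) ⟶ Y => φ q) (Scheme.SpecMap_stalkMap_fromSpecStalk f)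
    rw [← hnat]
    exact fromSpecStalk_maximal (f x) q₀ hq₀min
  · rw [← H06Equidim.cdim_asFiber_eq_fibreDimAt f _ hζmax, hc, show c = e by omega]

/-- The local ring of a point of an irreducible scheme is equidimensional. -/
theorem isEquidim_stalk_of_irreducibleSpace {X : Scheme.{u}} [IrreducibleSpace X] (x : X) :
    EGA4.IsEquidim (X.presheaf.stalk x) := by
  have huniq : ∀ p ∈ minimalPrimes (X.presheaf.stalk x), ∀ q ∈ minimalPrimes (X.presheaf.stalk x), p = q := by
    intro p hp q hq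
    have h1 := fromSpecStalk_maximal x ⟨p, hp.1.1⟩ hp (genericPoint X) (genericPoint_specializes _)
    have h2 := fromSpecStalk_maximal x ⟨q, hq.1.1⟩ hq (genericPoint X) (genericPoint_specializes _)
    exact congrArg PrimeSpectrum.asIdeal ((X.fromSpecStalk x).isEmbedding.injective (h1.symm.trans h2))
  intro p hp
  refine le_antisymm (ringKrullDim_quotient_le p) ?_
  rw [← ringKrullDim_eq_of_ringEquiv (RingEquiv.quotientBot (X.presheaf.stalk x))]
  exact H05EGA4.ringKrullDim_quotient_le_of_minimalPrimes ⊥ fun q hq => by rw [huniq q hq p hp]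

/-- If `f` is open at the maximal points of the fibre through `x` then
`dim O_{X,x} = dim O_{Y,y} + dim O_{X_y,x}`. -/
theorem ringKrullDim_stalk_eq_of_isOpenAt {X Y : Scheme.{u}} [IsLocallyNoetherian X] [IsLocallyNoetherian Y]
    (f : X ⟶ Y) (x : X)
    (h : ∀ z : ↥(f.fiber (f x)), f.asFiber x ∈ closure {z} →
      (∀ z' : ↥(f.fiber (f x)), z ∈ closure {z'} → z' = z) →
      EGA43.IsOpenAt f.base (f.fiberι (f x) z)) :
    ringKrullDim (X.presheaf.stalk x) =
      ringKrullDim (Y.presheaf.stalk (f x)) + ringKrullDim ((f.fiber (f x)).presheaf.stalk (f.asFiber x)) := by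
  rw [← ringKrullDim_eq_of_ringEquiv (H8Props.FibreStalk.asFiberStalkEquiv f x)]
  letI := (f.stalkMap x).hom.toAlgebra
  haveI : IsLocalHom (algebraMap (Y.presheaf.stalk (f x)) (X.presheaf.stalk x)) :=
    inferInstanceAs (IsLocalHom (f.stalkMap x).hom)
  refine le_antisymm (H13CInt.ringKrullDim_le_add (Y.presheaf.stalk (f x)) (X.presheaf.stalk x)) ?_
  set A := Y.presheaf.stalk (f x)
  set C := X.presheaf.stalk x
  set φ := (f.stalkMap x).hom
  set J := (IsLocalRing.maximalIdeal A).map φ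
  have hnat : ∀ q, Y.fromSpecStalk (f x) (PrimeSpectrum.comap φ q) = f (X.fromSpecStalk x q) := fun q =>
    congrArg (fun φ : Spec (X.presheaf.stalk x) ⟶ Y => φ q) (Scheme.SpecMap_stalkMap_fromSpecStalk f)
  have hover : ∀ q : PrimeSpectrum C, f (X.fromSpecStalk x q) = f x → J ≤ q.asIdeal := fun q hq => by
    rw [Ideal.map_le_iff_le_comap]
    exact (congrArg PrimeSpectrum.asIdeal ((Y.fromSpecStalk (f x)).isEmbedding.injective
      ((hnat q).trans (hq.trans Scheme.fromSpecStalk_closedPoint.symm)))).ge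
  have hlift : ∀ P ∈ J.minimalPrimes, ∀ (q₁ : PrimeSpectrum C), q₁.asIdeal = P →
      ∀ p' : PrimeSpectrum A, ∃ q', q' ≤ q₁ ∧ PrimeSpectrum.comap φ q' = p' := by
    intro P hP q₁ hq₁ p'
    have hc : PrimeSpectrum.comap φ q₁ = IsLocalRing.closedPoint A := by
      refine PrimeSpectrum.ext ((IsLocalRing.maximalIdeal.isMaximal A).eq_of_le
        (PrimeSpectrum.comap φ q₁).2.ne_top ?_).symm
      exact Ideal.map_le_iff_le_comap.mp (hq₁ ▸ hP.1.2)
    have hgξ : f (X.fromSpecStalk x q₁) = f x := by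
      rw [← hnat, hc]
      exact Scheme.fromSpecStalk_closedPoint
    have hspx : X.fromSpecStalk x q₁ ⤳ x := by
      have : X.fromSpecStalk x q₁ ∈ Set.range (X.fromSpecStalk x) := ⟨q₁, rfl⟩
      rwa [Scheme.range_fromSpecStalk] at this
    obtain ⟨z, hz⟩ : X.fromSpecStalk x q₁ ∈ Set.range (f.fiberι (f x)) := by rw [f.range_fiberι]; exact hgξ
    have hopen : EGA43.IsOpenAt f.base (X.fromSpecStalk x q₁) := by
      rw [← hz]
      refine h z ?_ fun z' hz' => ?_
      · refine specializes_iff_mem_closure.mp ((f.fiberι (f x)).isEmbedding.isInducing.specializes_iff.mp ?_)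
        rw [f.fiberι_asFiber, hz]; exact hspx
      · have h1 : f.fiberι (f x) z' ⤳ X.fromSpecStalk x q₁ :=
          hz ▸ (specializes_iff_mem_closure.mpr hz').map (f.fiberι (f x)).continuous
        obtain ⟨q, hq⟩ : f.fiberι (f x) z' ∈ Set.range (X.fromSpecStalk x) := by
          rw [Scheme.range_fromSpecStalk]; exact h1.trans hspx
        have h2 : q.asIdeal ≤ q₁.asIdeal := (PrimeSpectrum.le_iff_specializes q q₁).mpr
          ((X.fromSpecStalk x).isEmbedding.isInducing.specializes_iff.mp (by rw [hq]; exact h1))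
        have h3 : J ≤ q.asIdeal := hover q (by rw [hq]; exact (f.range_fiberι (f x)).subset (Set.mem_range_self z'))
        have h4 : q = q₁ := PrimeSpectrum.ext (le_antisymm h2
          (by rw [hq₁] at h2 ⊢; exact hP.2 ⟨q.2, h3⟩ h2))
        exact (f.fiberι (f x)).isEmbedding.injective (by rw [← hq, h4, hz])
    have hw : Y.fromSpecStalk (f x) p' ⤳ f (X.fromSpecStalk x q₁) := by
      rw [hgξ]
      have : Y.fromSpecStalk (f x) p' ∈ Set.range (Y.fromSpecStalk (f x)) := ⟨p', rfl⟩
      rwa [Scheme.range_fromSpecStalk] at this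
    obtain ⟨v, hv, hgv⟩ := exists_specializes_of_isOpenAt f _ hopen _ hw
    obtain ⟨q', rfl⟩ : v ∈ Set.range (X.fromSpecStalk x) := by
      rw [Scheme.range_fromSpecStalk]; exact hv.trans hspx
    exact ⟨q', (PrimeSpectrum.le_iff_specializes q' q₁).mpr
      ((X.fromSpecStalk x).isEmbedding.isInducing.specializes_iff.mp hv),
      (Y.fromSpecStalk (f x)).isEmbedding.injective ((hnat q').trans hgv)⟩
  obtain ⟨n, hn⟩ := H22Alg.exists_nat_ringKrullDim' A
  haveI : Nontrivial (C ⧸ J) := Ideal.Quotient.nontrivial_iff.mpr fun htop =>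
    (IsLocalRing.maximalIdeal.isMaximal C).ne_top (top_le_iff.mp (htop.ge.trans (IsLocalRing.map_maximalIdeal_le φ)))
  haveI : IsLocalRing (C ⧸ J) := IsLocalRing.of_surjective' (Ideal.Quotient.mk _) Ideal.Quotient.mk_surjective
  obtain ⟨k, hk⟩ := H22Alg.exists_nat_ringKrullDim' (C ⧸ J)
  rw [hn, hk, ← Nat.cast_add]
  obtain ⟨l, hl⟩ := Order.le_krullDim_iff.mp hn.ge
  obtain ⟨c, hc⟩ := Order.le_krullDim_iff.mp hk.ge
  let π := Ideal.Quotient.mk J
  let c' := c.map (PrimeSpectrum.comap π) fun a b hab => lt_of_le_of_ne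
    (Ideal.comap_mono (show a.asIdeal ≤ b.asIdeal from hab.le))
    fun e => hab.ne (PrimeSpectrum.ext (Ideal.comap_injective_of_surjective π Ideal.Quotient.mk_surjective
      (congrArg PrimeSpectrum.asIdeal e)))
  haveI := c'.head.2
  have hJhd : J ≤ c'.head.asIdeal := fun r hr => by
    show π r ∈ c.head.asIdeal
    rw [show π r = 0 from Ideal.Quotient.eq_zero_iff_mem.mpr hr]
    exact zero_mem _
  obtain ⟨P, hP, hPle⟩ := Ideal.exists_minimalPrimes_le hJhd
  let q₁ : PrimeSpectrum C := ⟨P, hP.1.1⟩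
  have hc₁ : PrimeSpectrum.comap φ q₁ = IsLocalRing.closedPoint A :=
    (PrimeSpectrum.ext ((IsLocalRing.maximalIdeal.isMaximal A).eq_of_le
      (PrimeSpectrum.comap φ q₁).2.ne_top (Ideal.map_le_iff_le_comap.mp hP.1.2))).symm
  have hlast : ∀ p : PrimeSpectrum A, p ≤ IsLocalRing.closedPoint A := fun p =>
    IsLocalRing.le_maximalIdeal p.2.ne_top
  have h1 : HasChain n l.head (PrimeSpectrum.comap φ q₁) := by
    have h0 := hasChain_of_ltSeries n l hl
    rw [hc₁]
    have e := h0.trans (show HasChain 0 l.last (IsLocalRing.closedPoint A) from hlast _)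
    rwa [Nat.add_zero] at e
  obtain ⟨q', -, hq'⟩ := exists_lift_chain φ q₁ (fun p' _ => hlift P hP q₁ rfl p') n l.head h1
  have h2 : HasChain k q₁ c'.last := by
    have e := (show HasChain 0 q₁ c'.head from hPle).trans (hasChain_of_ltSeries k c' hc)
    rwa [Nat.zero_add] at e
  obtain ⟨s, hs, -, -⟩ := (hq'.trans h2).exists_ltSeries
  exact (Nat.cast_le.mpr hs).trans (Order.LTSeries.length_le_krullDim s)

/-- The dimension formula through the fibre, in terms of the fibre dimension. -/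
theorem fibreDimAt_eq_stalk_add {X Y : Scheme.{u}} (f : X ⟶ Y) [LocallyOfFiniteType f] (x : X) (t : ℕ)
    (ht : cdim (f.asFiber x) = t) :
    FlatMor.fibreDimAt f x = ringKrullDim ((f.fiber (f x)).presheaf.stalk (f.asFiber x)) + (t : ℕ) := by
  obtain ⟨t', hfd, htr⟩ := fibreDimAt_eq f x
  obtain ⟨s, hs, hs'⟩ := H06Equidim.exists_trdeg_asFiber f x
  obtain rfl : t' = s := by exact_mod_cast htr.symm.trans hs'
  obtain rfl : t' = t := by exact_mod_cast hs.symm.trans ht
  rw [← ringKrullDim_eq_of_ringEquiv (H8Props.FibreStalk.asFiberStalkEquiv f x)]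
  exact hfd

/-- An equidimensional stalk with the dimension formula gives equidimensionality. -/
theorem isEquidimAt_of_dim_formula {X Y : Scheme.{u}} [IsLocallyNoetherian Y] (f : X ⟶ Y)
    [LocallyOfFiniteType f] (x : X) (hX : EGA4.IsEquidim (X.presheaf.stalk x))
    (h : ringKrullDim (X.presheaf.stalk x) =
        ringKrullDim (Y.presheaf.stalk (f x)) + ringKrullDim ((f.fiber (f x)).presheaf.stalk (f.asFiber x))) :
    EGA43.IsEquidimAt f x := by
  obtain ⟨d, hd⟩ := H22Alg.exists_nat_ringKrullDim' (Y.presheaf.stalk (f x))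
  obtain ⟨t, ht, -⟩ := H06Equidim.exists_trdeg_asFiber f x
  obtain ⟨e, hfd⟩ := H22Alg.exists_nat_fibreDimAt f x
  refine isEquidimAt_of_forall_component f x e hfd.le (forall_component_of_dim f x hX d t e hd ht hfd ?_)
  rw [h, add_assoc, ← fibreDimAt_eq_stalk_add f x t ht, hfd, hd, ← Nat.cast_add]

end Groth.Agent.H06EGA14
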