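import Groth.Agent.H22Alg.DimFormula
import Groth.Agent.H22Alg.DimFunLft
import Groth.Agent.H06EGA14.EquidimCriteria

/-!
# The dimension formula at points over universally catenary local rings (EGA IV 5.6, 13.3.6)
-/

set_option autoImplicit false
set_option linter.style.haveILetI false
set_option backward.isDefEq.respectTransparency false
universe u

open CategoryTheory CategoryTheory.Limits AlgebraicGeometry TopologicalSpace Topology

namespace Groth.Agent.H06EGA14

open H8Props.FieldDim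
open Groth.Agent.H7Flat (evKer evKer_fromSpec)

theorem isUniversallyCatenary_of_surjective {A B : Type u} [CommRing A] [CommRing B] (φ : A →+* B)
    (hφ : Function.Surjective φ) (h : CAlg.IsUniversallyCatenary A) : CAlg.IsUniversallyCatenary B := by
  haveI := h.1
  refine ⟨isNoetherianRing_of_surjective A B φ hφ, fun C _ _ hC => ?_⟩
  letI : Algebra A B := φ.toAlgebra
  letI : Algebra A C := Algebra.compHom C φ
  haveI : IsScalarTower A B C := IsScalarTower.of_algebraMap_eq fun _ => rfl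
  haveI : Algebra.FiniteType A B := Algebra.FiniteType.of_surjective (Algebra.ofId A B) hφ
  exact h.2 C (Algebra.FiniteType.trans (S := B) inferInstance hC)

theorem isAlgebraic_of_fractions {A B : Type u} [CommRing A] [CommRing B] [Algebra A B] [Nontrivial A]
    (h : ∀ z : B, ∃ a b : A, algebraMap A B b ≠ 0 ∧ z * algebraMap A B b = algebraMap A B a) :
    Algebra.IsAlgebraic A B := by
  refine ⟨fun z => ?_⟩
  obtain ⟨a, b, hb, hab⟩ := h z
  refine ⟨Polynomial.C b * Polynomial.X - Polynomial.C a, fun h0 => hb ?_, ?_⟩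
  · have h1 := congrArg (fun P => P.coeff 1) h0
    simp only [Polynomial.coeff_sub, Polynomial.coeff_C_mul, Polynomial.coeff_X_one, mul_one, Polynomial.coeff_C,
      one_ne_zero, if_false, sub_zero, Polynomial.coeff_zero] at h1
    rw [h1, map_zero]
  · simp only [map_sub, map_mul, Polynomial.aeval_C, Polynomial.aeval_X]
    rw [← hab, mul_comm, sub_self]

/-- The dimension formula when the localization at `p` is universally catenary. -/
theorem dim_formula_of_catenary_localization (R : Type u) [CommRing R] [IsDomain R] (S : Type u) [CommRing S]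
    [IsDomain S] [Algebra R S] [FaithfulSMul R S] [Algebra.FiniteType R S] (p : Ideal R) [p.IsPrime]
    (hR : CAlg.IsUniversallyCatenary (Localization.AtPrime p)) (q : Ideal S) [q.IsPrime] [q.LiesOver p] :
    (q.height : Cardinal.{u}) + Algebra.trdeg (R ⧸ p) (S ⧸ q) =
      (p.height : Cardinal.{u}) + Algebra.trdeg R S := by
  let M := Algebra.algebraMapSubmonoid S p.primeCompl
  let R' := Localization.AtPrime p
  let S' := Localization M
  have hqM : Disjoint (M : Set S) (q : Set S) := by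
    rw [Set.disjoint_left]
    rintro _ ⟨r, hr, rfl⟩ hrq
    exact hr (by rw [Ideal.LiesOver.over (p := p) (P := q)]; exact hrq)
  have hM0 : M ≤ nonZeroDivisors S := by
    rintro _ ⟨r, hr, rfl⟩
    exact mem_nonZeroDivisors_of_ne_zero fun h => hr (by
      rw [(map_eq_zero_iff _ (FaithfulSMul.algebraMap_injective R S)).mp h]; exact zero_mem p)
  haveI : IsDomain S' := IsLocalization.isDomain_localization hM0
  haveI : IsLocalization (p.primeCompl.map (algebraMap R S)) S' := inferInstanceAs (IsLocalization M (Localization M))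
  haveI : IsDomain R' := inferInstance
  letI : Algebra R' S' := (IsLocalization.map S' (algebraMap R S)
    (show p.primeCompl ≤ M.comap (algebraMap R S) from fun r hr => ⟨r, hr, rfl⟩)).toAlgebra
  haveI : IsScalarTower R R' S' := IsScalarTower.of_algebraMap_eq fun r => by
    rw [IsScalarTower.algebraMap_apply R S S']
    exact (IsLocalization.map_eq _ r).symm
  haveI : Algebra.FiniteType R' S' := RingHom.finiteType_algebraMap.mp
    (RingHom.finiteType_localizationPreserves (algebraMap R S) p.primeCompl R' S'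
      (RingHom.finiteType_algebraMap.mpr inferInstance))
  haveI : FaithfulSMul R' S' := (faithfulSMul_iff_algebraMap_injective _ _).2
    (IsLocalization.map_injective_of_injective p.primeCompl R' S' (FaithfulSMul.algebraMap_injective R S))
  let q' : Ideal S' := q.map (algebraMap S S')
  let p' : Ideal R' := IsLocalRing.maximalIdeal R'
  haveI hq'p : q'.IsPrime := IsLocalization.isPrime_of_isPrime_disjoint M S' q inferInstance hqM
  have hq'c : q'.comap (algebraMap S S') = q := IsLocalization.under_map_of_isPrime_disjoint M S' inferInstance hqM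
  have hp'c : p'.comap (algebraMap R R') = p := IsLocalization.AtPrime.under_maximalIdeal R' p
  haveI : q'.LiesOver p' := ⟨by
    refine ((IsLocalRing.maximalIdeal.isMaximal R').eq_of_le (Ideal.IsPrime.ne_top inferInstance) fun z hz => ?_)
    obtain ⟨⟨a, s⟩, hz'⟩ := IsLocalization.surj p.primeCompl z
    have ha : a ∈ p := by
      rw [← hp'c]
      show algebraMap R R' a ∈ p'
      rw [← hz']
      exact Ideal.mul_mem_right _ _ hz
    have h1 : algebraMap R S a ∈ q := by
      rw [Ideal.LiesOver.over (p := p) (P := q)] at ha; exact ha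
    have h2 : algebraMap R' S' z * algebraMap S S' (algebraMap R S s.1) ∈ q' := by
      rw [← IsScalarTower.algebraMap_apply R S S', IsScalarTower.algebraMap_apply R R' S', ← map_mul, hz',
        ← IsScalarTower.algebraMap_apply R R' S', IsScalarTower.algebraMap_apply R S S']
      exact Ideal.mem_map_of_mem _ h1
    refine (hq'p.mem_or_mem h2).resolve_right fun h => ?_
    have h3 : algebraMap R S s.1 ∈ q := hq'c ▸ h
    exact s.2 (show (s.1 : R) ∈ p from (Ideal.LiesOver.over (p := p) (P := q)).ge h3)⟩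
  have h := H22Alg.DimFormula.eq_of_isUniversallyCatenary R' hR S' p' q'
  have hhp : p'.height = p.height := by
    conv_rhs => rw [← hp'c]
    exact (IsLocalization.height_under p.primeCompl p').symm
  have hhq : q'.height = q.height := by
    conv_rhs => rw [← hq'c]
    exact (IsLocalization.height_under M q').symm
  have htr : Algebra.trdeg R' S' = Algebra.trdeg R S := by
    haveI : Algebra.IsAlgebraic R R' := isAlgebraic_of_fractions fun z => by
      obtain ⟨⟨a, s⟩, hz⟩ := IsLocalization.surj p.primeCompl z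
      exact ⟨a, s.1, (IsLocalization.map_units R' s).ne_zero, hz⟩
    haveI : Algebra.IsAlgebraic S S' := isAlgebraic_of_fractions fun z => by
      obtain ⟨⟨a, s⟩, hz⟩ := IsLocalization.surj M z
      exact ⟨a, s.1, (IsLocalization.map_units S' s).ne_zero, hz⟩
    haveI : FaithfulSMul R R' := (faithfulSMul_iff_algebraMap_injective _ _).2
      (IsLocalization.injective R' p.primeCompl_le_nonZeroDivisors)
    haveI : FaithfulSMul S S' := (faithfulSMul_iff_algebraMap_injective _ _).2 (IsLocalization.injective S' hM0)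
    have h1 := trdeg_add_eq R R' (A := S')
    have h2 := trdeg_add_eq R S (A := S')
    rw [trdeg_eq_zero (R := R) (A := R'), zero_add] at h1
    rw [trdeg_eq_zero (R := S) (A := S'), add_zero] at h2
    rw [h1, h2]
  have htr' : Algebra.trdeg (R' ⧸ p') (S' ⧸ q') = Algebra.trdeg (R ⧸ p) (S ⧸ q) := by
    letI : Algebra (R ⧸ p) (R' ⧸ p') := (Ideal.quotientMap p' (algebraMap R R') hp'c.ge).toAlgebra
    letI : Algebra (S ⧸ q) (S' ⧸ q') := (Ideal.quotientMap q' (algebraMap S S') hq'c.ge).toAlgebra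
    letI : Algebra (R ⧸ p) (S' ⧸ q') := ((algebraMap (R' ⧸ p') (S' ⧸ q')).comp (algebraMap (R ⧸ p) (R' ⧸ p'))).toAlgebra
    haveI : IsScalarTower (R ⧸ p) (R' ⧸ p') (S' ⧸ q') := IsScalarTower.of_algebraMap_eq fun _ => rfl
    haveI : IsScalarTower (R ⧸ p) (S ⧸ q) (S' ⧸ q') := IsScalarTower.of_algebraMap_eq fun r => by
      obtain ⟨r, rfl⟩ := Ideal.Quotient.mk_surjective r
      show Ideal.Quotient.mk q' (algebraMap R' S' (algebraMap R R' r)) =
        Ideal.Quotient.mk q' (algebraMap S S' (algebraMap R S r))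
      rw [← IsScalarTower.algebraMap_apply R R' S', ← IsScalarTower.algebraMap_apply R S S']
    haveI : FaithfulSMul (R ⧸ p) (R' ⧸ p') := (faithfulSMul_iff_algebraMap_injective _ _).2
      (Ideal.quotientMap_injective' hp'c.le)
    haveI : FaithfulSMul (S ⧸ q) (S' ⧸ q') := (faithfulSMul_iff_algebraMap_injective _ _).2
      (Ideal.quotientMap_injective' hq'c.le)
    haveI : FaithfulSMul (R' ⧸ p') (S' ⧸ q') := (faithfulSMul_iff_algebraMap_injective _ _).2
      ((injective_iff_map_eq_zero _).2 fun r hr => by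
        obtain ⟨r, rfl⟩ := Ideal.Quotient.mk_surjective r
        rw [Ideal.Quotient.eq_zero_iff_mem, Ideal.LiesOver.over (p := p') (P := q')]
        exact (Ideal.Quotient.eq_zero_iff_mem (I := q')).1 hr)
    haveI : FaithfulSMul (R ⧸ p) (S ⧸ q) := (faithfulSMul_iff_algebraMap_injective _ _).2
      ((injective_iff_map_eq_zero _).2 fun r hr => by
        obtain ⟨r, rfl⟩ := Ideal.Quotient.mk_surjective r
        rw [Ideal.Quotient.eq_zero_iff_mem, Ideal.LiesOver.over (p := p) (P := q)]
        exact (Ideal.Quotient.eq_zero_iff_mem (I := q)).1 hr)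
    haveI : Algebra.IsAlgebraic (R ⧸ p) (R' ⧸ p') := isAlgebraic_of_fractions fun z => by
      obtain ⟨z, rfl⟩ := Ideal.Quotient.mk_surjective z
      obtain ⟨⟨a, s⟩, hz⟩ := IsLocalization.surj p.primeCompl z
      refine ⟨Ideal.Quotient.mk p a, Ideal.Quotient.mk p s.1, ?_, ?_⟩
      · show Ideal.Quotient.mk p' (algebraMap R R' s.1) ≠ 0
        rw [Ne, Ideal.Quotient.eq_zero_iff_mem]
        exact fun h => s.2 (hp'c.le h)
      · show Ideal.Quotient.mk p' z * Ideal.Quotient.mk p' (algebraMap R R' s.1) = Ideal.Quotient.mk p' (algebraMap R R' a)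
        rw [← map_mul, hz]
    haveI : Algebra.IsAlgebraic (S ⧸ q) (S' ⧸ q') := isAlgebraic_of_fractions fun z => by
      obtain ⟨z, rfl⟩ := Ideal.Quotient.mk_surjective z
      obtain ⟨⟨a, s⟩, hz⟩ := IsLocalization.surj M z
      refine ⟨Ideal.Quotient.mk q a, Ideal.Quotient.mk q s.1, ?_, ?_⟩
      · show Ideal.Quotient.mk q' (algebraMap S S' s.1) ≠ 0
        rw [Ne, Ideal.Quotient.eq_zero_iff_mem]
        exact fun h => Set.disjoint_left.mp hqM s.2 (hq'c.le h)
      · show Ideal.Quotient.mk q' z * Ideal.Quotient.mk q' (algebraMap S S' s.1) = Ideal.Quotient.mk q' (algebraMap S S' a)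
        rw [← map_mul, hz]
    have h1 := trdeg_add_eq (R ⧸ p) (R' ⧸ p') (A := S' ⧸ q')
    have h2 := trdeg_add_eq (R ⧸ p) (S ⧸ q) (A := S' ⧸ q')
    rw [trdeg_eq_zero (R := R ⧸ p) (A := R' ⧸ p'), zero_add] at h1
    rw [trdeg_eq_zero (R := S ⧸ q) (A := S' ⧸ q'), add_zero] at h2
    rw [h1, h2]
  rw [hhp, hhq, htr, htr'] at h
  exact h

/-- The dimension formula at a point of an integral scheme over an integral base with universally
catenary local ring. -/
theorem stalk_dim_add_eq {Z Y : Scheme.{u}} [IsIntegral Z] [IsIntegral Y] [IsLocallyNoetherian Y] (g : Z ⟶ Y)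
    [LocallyOfFiniteType g] (hgen : g (genericPoint Z) = genericPoint Y) (x : Z)
    (hcat : CAlg.IsUniversallyCatenary (Y.presheaf.stalk (g x))) (d t e : ℕ)
    (hd : ringKrullDim (Y.presheaf.stalk (g x)) = d) (ht : cdim (g.asFiber x) = t)
    (he : cdim (g.asFiber (genericPoint Z)) = (e : WithBot ℕ∞)) :
    ringKrullDim (Z.presheaf.stalk x) + (t : ℕ) = (d + e : ℕ) := by
  obtain ⟨(W : Y.Opens), (hW : IsAffineOpen W), hxW, -⟩ := Opens.isBasis_iff_nbhd.mp Y.isBasis_affineOpens
    (show g x ∈ (⊤ : Y.Opens) from trivial)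
  obtain ⟨(V : Z.Opens), (hV : IsAffineOpen V), hxV, hVW⟩ := Opens.isBasis_iff_nbhd.mp Z.isBasis_affineOpens
    (show x ∈ g ⁻¹ᵁ W from hxW)
  obtain ⟨q, rfl⟩ : x ∈ Set.range hV.fromSpec := by rw [hV.range_fromSpec]; exact hxV
  haveI : Nonempty W := ⟨⟨_, hxW⟩⟩
  haveI : Nonempty V := ⟨⟨_, hxV⟩⟩
  let φ := (g.appLE W V hVW).hom
  letI := φ.toAlgebra
  haveI : Algebra.FiniteType Γ(Y, W) Γ(Z, V) := g.finiteType_appLE hW hV hVW
  have hsq : ∀ Q, hW.fromSpec (PrimeSpectrum.comap φ Q) = g (hV.fromSpec Q) := fun Q =>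
    congrArg (fun φ : Spec Γ(Z, V) ⟶ Y => φ Q) (IsAffineOpen.SpecMap_appLE_fromSpec g hW hV hVW)
  let q₀ : PrimeSpectrum Γ(Z, V) := ⟨⊥, Ideal.isPrime_bot⟩
  let p₀ : PrimeSpectrum Γ(Y, W) := ⟨⊥, Ideal.isPrime_bot⟩
  have hq₀ : hV.fromSpec q₀ = genericPoint Z := by
    obtain ⟨r, hr⟩ : genericPoint Z ∈ Set.range hV.fromSpec := by
      rw [hV.range_fromSpec]; exact (genericPoint_specializes _).mem_open V.2 hxV
    refine (Specializes.antisymm ?_ (genericPoint_specializes _)).eq
    rw [← hr]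
    exact ((PrimeSpectrum.le_iff_specializes q₀ r).mp (bot_le (a := r.asIdeal))).map hV.fromSpec.continuous
  have hp₀ : hW.fromSpec p₀ = genericPoint Y := by
    obtain ⟨r, hr⟩ : genericPoint Y ∈ Set.range hW.fromSpec := by
      rw [hW.range_fromSpec]; exact (genericPoint_specializes _).mem_open W.2 hxW
    refine (Specializes.antisymm ?_ (genericPoint_specializes _)).eq
    rw [← hr]
    exact ((PrimeSpectrum.le_iff_specializes p₀ r).mp (bot_le (a := r.asIdeal))).map hW.fromSpec.continuous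
  have hbot : (⊥ : Ideal Γ(Z, V)).comap φ = (⊥ : Ideal Γ(Y, W)) := congrArg PrimeSpectrum.asIdeal
    (hW.fromSpec.isEmbedding.injective (((hsq q₀).trans ((congrArg g hq₀).trans hgen)).trans hp₀.symm))
  haveI : FaithfulSMul Γ(Y, W) Γ(Z, V) := (faithfulSMul_iff_algebraMap_injective _ _).2
    ((RingHom.injective_iff_ker_eq_bot φ).mpr hbot)
  haveI := q.2
  let p := q.asIdeal.comap φ
  haveI : q.asIdeal.LiesOver p := ⟨rfl⟩
  have hpW : hW.fromSpec (PrimeSpectrum.comap φ q) ∈ W := by rw [hsq]; exact hxW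
  have hcat' : CAlg.IsUniversallyCatenary (Y.presheaf.stalk (hW.fromSpec (PrimeSpectrum.comap φ q))) := by
    rw [hsq]; exact hcat
  letI := TopCat.Presheaf.algebra_section_stalk Y.presheaf ⟨hW.fromSpec (PrimeSpectrum.comap φ q), hpW⟩
  haveI : IsLocalization.AtPrime (Y.presheaf.stalk (hW.fromSpec (PrimeSpectrum.comap φ q))) p :=
    hW.isLocalization_stalk' (PrimeSpectrum.comap φ q) hpW
  let ψ := IsLocalization.algEquiv p.primeCompl (Y.presheaf.stalk (hW.fromSpec (PrimeSpectrum.comap φ q)))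
    (Localization.AtPrime p)
  have h := dim_formula_of_catenary_localization Γ(Y, W) Γ(Z, V) p
    (isUniversallyCatenary_of_surjective ψ.toRingEquiv.toRingHom ψ.surjective hcat') q.asIdeal
  obtain ⟨t', ht', hta⟩ := exists_trdeg_quotient g hW hV hVW q p rfl
  obtain rfl : t' = t := by exact_mod_cast ht'.symm.trans ht
  obtain ⟨e', he', hea⟩ := exists_trdeg_quotient g hW hV hVW q₀ (⊥ : Ideal Γ(Y, W)) hbot.symm
  rw [hq₀] at he'
  obtain rfl : e' = e := by exact_mod_cast he'.symm.trans he
  haveI : (⊥ : Ideal Γ(Z, V)).LiesOver (⊥ : Ideal Γ(Y, W)) := ⟨hbot.symm⟩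
  have hea' : Algebra.trdeg Γ(Y, W) Γ(Z, V) = (e' : Cardinal.{u}) := by
    rw [← hea]
    exact (H22Alg.DimFunLft.trdeg_congr (RingEquiv.quotientBot Γ(Y, W)) (RingEquiv.quotientBot Γ(Z, V)) fun r => by
      obtain ⟨r, rfl⟩ := Ideal.Quotient.mk_surjective r
      rfl).symm
  rw [hta, hea'] at h
  haveI : IsLocallyNoetherian Z := LocallyOfFiniteType.isLocallyNoetherian g
  obtain ⟨n, hn⟩ := H22Alg.exists_nat_ringKrullDim' (Z.presheaf.stalk (hV.fromSpec q))
  have hqV : hV.fromSpec q ∈ V := hxV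
  letI := TopCat.Presheaf.algebra_section_stalk Z.presheaf ⟨hV.fromSpec q, hqV⟩
  haveI : IsLocalization.AtPrime (Z.presheaf.stalk (hV.fromSpec q)) q.asIdeal := hV.isLocalization_stalk' q hqV
  have e1 : (q.asIdeal.height : WithBot ℕ∞) = (n : ℕ) :=
    (IsLocalization.AtPrime.ringKrullDim_eq_height q.asIdeal _).symm.trans hn
  have e2 : (p.height : WithBot ℕ∞) = (d : ℕ) := by
    rw [← hd, ← hsq]
    exact (IsLocalization.AtPrime.ringKrullDim_eq_height p _).symm
  rw [show q.asIdeal.height = (n : ℕ∞) by exact_mod_cast e1, show p.height = (d : ℕ∞) by exact_mod_cast e2] at h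
  rw [hn]
  have h' : n + t' = d + e' := by exact_mod_cast h
  exact_mod_cast h'

/-- The dimension formula for a component through a point. -/
theorem quotient_dim_add_eq_of_catenary {X Y : Scheme.{u}} [IsLocallyNoetherian Y] (f : X ⟶ Y)
    [LocallyOfFiniteType f] (x : X) (hcat : CAlg.IsUniversallyCatenary (Y.presheaf.stalk (f x)))
    (p : PrimeSpectrum (X.presheaf.stalk x)) (d₀ t e : ℕ)
    (hd : ringKrullDim (Y.presheaf.stalk (f x) ⧸ p.asIdeal.comap (f.stalkMap x).hom) = d₀)
    (ht : cdim (f.asFiber x) = t) (he : cdim (f.asFiber (X.fromSpecStalk x p)) = (e : WithBot ℕ∞)) :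
    ringKrullDim (X.presheaf.stalk x ⧸ p.asIdeal) + (t : ℕ) = (d₀ + e : ℕ) := by
  set η := X.fromSpecStalk x p
  let p₀ : PrimeSpectrum (Y.presheaf.stalk (f x)) := PrimeSpectrum.comap (f.stalkMap x).hom p
  have hp₀ : Y.fromSpecStalk (f x) p₀ = f η :=
    congrArg (fun φ : Spec (X.presheaf.stalk x) ⟶ Y => φ p) (Scheme.SpecMap_stalkMap_fromSpecStalk f)
  obtain ⟨Z, i, x', hi, hZ, hr, hix, hdimZ⟩ := exists_integral_closure x p
  obtain ⟨Y₀, j, y', hj, hY₀, hrj, hjy, hdimY⟩ := exists_integral_closure (f x) p₀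
  haveI := hi; haveI := hZ; haveI := hj; haveI := hY₀
  obtain ⟨g, hg⟩ := H17.exists_lift_immersion_of_range_subset (i ≫ f) j (by
    rintro _ ⟨a, rfl⟩
    rw [hrj, hp₀, Scheme.Hom.comp_apply]
    have ha : i a ∈ closure {η} := hr ▸ Set.mem_range_self a
    exact ((specializes_iff_mem_closure.mpr ha).map f.continuous).mem_closure)
  haveI : IsLocallyNoetherian Y₀ := LocallyOfFiniteType.isLocallyNoetherian j
  haveI : LocallyOfFiniteType g :=
    haveI : LocallyOfFiniteType (g ≫ j) := by rw [hg]; infer_instance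
    locallyOfFiniteType_of_comp g j
  have hcd : ∀ a, cdim (g.asFiber a) = cdim (f.asFiber (i a)) := fun a => by
    have h1 : cdim ((g ≫ j).asFiber a) = cdim (g.asFiber a) := by
      haveI : LocallyQuasiFinite j := inferInstance
      rw [H06Equidim.cdim_asFiber_comp, cdim_asFiber_lqf j (g a), add_zero]
    rw [← h1, hg, cdim_asFiber_comp_closedImmersion]
  have hgen' : ∀ {A B : Scheme.{u}} [IsIntegral A] (k : A ⟶ B) (b : B), Set.range k = closure {b} →
      k (genericPoint A) = b := fun {A B} _ k b hk => by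
    obtain ⟨a, ha⟩ : b ∈ Set.range k := hk ▸ subset_closure rfl
    have h1 : k (genericPoint A) ⤳ b := ha ▸ (genericPoint_specializes a).map k.continuous
    exact (h1.antisymm (specializes_iff_mem_closure.mpr (hk ▸ Set.mem_range_self _))).eq
  have hgen : i (genericPoint Z) = η := hgen' i η hr
  have hgg : g (genericPoint Z) = genericPoint Y₀ := j.isEmbedding.injective (by
    rw [hgen' j _ hrj, hp₀, ← Scheme.Hom.comp_apply, hg, Scheme.Hom.comp_apply, hgen])
  have hgx : g x' = y' := j.isEmbedding.injective (by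
    rw [← Scheme.Hom.comp_apply, hg, Scheme.Hom.comp_apply, hix, hjy])
  have hcat0 : CAlg.IsUniversallyCatenary (Y₀.presheaf.stalk y') := by
    refine isUniversallyCatenary_of_surjective (j.stalkMap y').hom (j.stalkMap_surjective y') ?_
    rw [hjy]; exact hcat
  have h2 := stalk_dim_add_eq g hgg x' (hgx ▸ hcat0) d₀ t e (by rw [hgx, hdimY]; exact hd)
    (by rw [hcd, hix, ht]) (by rw [hcd, hgen]; exact he)
  rwa [hdimZ] at h2

/-- An equidimensional morphism: the formula on every component. -/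
theorem quotient_dim_of_isEquidimAt {X Y : Scheme.{u}} [IsLocallyNoetherian Y] (f : X ⟶ Y)
    [LocallyOfFiniteType f] (x : X) (h : EGA43.IsEquidimAt f x)
    (hcat : CAlg.IsUniversallyCatenary (Y.presheaf.stalk (f x))) (t e : ℕ)
    (ht : cdim (f.asFiber x) = t) (hfd : FlatMor.fibreDimAt f x = (e : ℕ))
    (p : Ideal (X.presheaf.stalk x)) (hp : p ∈ minimalPrimes (X.presheaf.stalk x)) :
    p.comap (f.stalkMap x).hom ∈ minimalPrimes (Y.presheaf.stalk (f x)) ∧
      ringKrullDim (X.presheaf.stalk x ⧸ p) + (t : ℕ) =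
        ringKrullDim (Y.presheaf.stalk (f x) ⧸ p.comap (f.stalkMap x).hom) + (e : ℕ) := by
  haveI : IsLocallyNoetherian X := LocallyOfFiniteType.isLocallyNoetherian f
  obtain ⟨e', U, hxU, hcomp, hfib⟩ := h
  have hdimU : ∀ z : U.toScheme, FlatMor.fibreDimAt f (U.ι z) = e' := fun z =>
    (H06Equidim.fibreDimAt_opens_ι f U z).symm.trans
      (H06Equidim.fibreDimAt_eq_of_dim_component_fibre (U.ι ≫ f) e' hfib z)
  obtain rfl : e' = e := by exact_mod_cast (hdimU ⟨x, hxU⟩).symm.trans hfd
  let P : PrimeSpectrum (X.presheaf.stalk x) := ⟨p, hp.1.1⟩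
  let p₀ : PrimeSpectrum (Y.presheaf.stalk (f x)) := PrimeSpectrum.comap (f.stalkMap x).hom P
  haveI := p₀.2
  have hmaxX := fromSpecStalk_maximal x P hp
  have hηU : X.fromSpecStalk x P ∈ U := by
    have h1 : X.fromSpecStalk x P ∈ Set.range (X.fromSpecStalk x) := ⟨P, rfl⟩
    rw [Scheme.range_fromSpecStalk] at h1
    exact (show X.fromSpecStalk x P ⤳ x from h1).mem_open U.2 hxU
  have hmaxU : ∀ ζ : U.toScheme, ζ ⤳ ⟨_, hηU⟩ → ζ = ⟨_, hηU⟩ := fun ζ hζ =>
    U.ι.isEmbedding.injective (hmaxX _ (hζ.map U.ι.continuous))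
  obtain ⟨W', hW', -, hW'eq⟩ := hcomp _
    (H06Equidim.closure_singleton_mem_irreducibleComponents (Z := U.toScheme) ⟨_, hηU⟩ hmaxU)
  have hmaxY := H06Equidim.eq_of_specializes_of_component
    (((H06Equidim.closure_image_closure_singleton (U.ι ≫ f) ⟨_, hηU⟩).symm.trans hW'eq :
      closure {f (X.fromSpecStalk x P)} = W') ▸ hW')
  have hp₀ : Y.fromSpecStalk (f x) p₀ = f (X.fromSpecStalk x P) :=
    congrArg (fun φ : Spec (X.presheaf.stalk x) ⟶ Y => φ P) (Scheme.SpecMap_stalkMap_fromSpecStalk f)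
  refine ⟨⟨⟨p₀.2, bot_le⟩, fun J hJ hJle => ?_⟩, ?_⟩
  · have h1 := hmaxY (Y.fromSpecStalk (f x) ⟨J, hJ.1⟩) (hp₀ ▸ ((PrimeSpectrum.le_iff_specializes
      (⟨J, hJ.1⟩ : PrimeSpectrum (Y.presheaf.stalk (f x))) p₀).mp hJle).map (Y.fromSpecStalk (f x)).continuous)
    exact (congrArg PrimeSpectrum.asIdeal ((Y.fromSpecStalk (f x)).isEmbedding.injective (h1.trans hp₀.symm))).ge
  · obtain ⟨d₀, hd₀⟩ := H05EGA4.exists_nat_dim_quotient_eq p₀.asIdeal
    have := quotient_dim_add_eq_of_catenary f x hcat P d₀ t e' hd₀ ht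
      ((H06Equidim.cdim_asFiber_eq_fibreDimAt f _ hmaxX).trans (hdimU ⟨_, hηU⟩))
    rw [show ringKrullDim (Y.presheaf.stalk (f x) ⧸ p.comap (f.stalkMap x).hom) = (d₀ : ℕ) from hd₀]
    exact_mod_cast this

end Groth.Agent.H06EGA14
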