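import Mathlib
import Groth.Prelude.Def_CAlg2

/-!
# Geometrically unibranch local rings: invariance under isomorphisms
-/

set_option autoImplicit false
set_option linter.style.haveILetI false
universe u

namespace Groth.Agent.H06EGA14

theorem isGeomUnibranch_of_ringEquiv {A B : Type u} [CommRing A] [CommRing B] [IsLocalRing A]
    [IsLocalRing B] (e : A ≃+* B) (h : CAlg2.IsGeomUnibranch A) : CAlg2.IsGeomUnibranch B := by
  have hnil : nilradical B = (nilradical A).map (e : A →+* B) := by
    ext b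
    rw [Ideal.mem_map_iff_of_surjective (e : A →+* B) e.surjective, mem_nilradical]
    exact ⟨fun hb => ⟨e.symm b, mem_nilradical.mpr (hb.map e.symm), e.apply_symm_apply b⟩,
      fun ⟨a, ha, hab⟩ => hab ▸ (mem_nilradical.mp ha).map e⟩
  let e₁ : CAlg2.red A ≃+* CAlg2.red B := Ideal.quotientEquiv _ _ e hnil
  obtain ⟨⟨_, _⟩, hpi⟩ := h
  haveI hdom : IsDomain (CAlg2.red B) := e₁.symm.toMulEquiv.isDomain _
  let φ : FractionRing (CAlg2.red A) ≃+* FractionRing (CAlg2.red B) :=
    IsFractionRing.ringEquivOfRingEquiv e₁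
  have hφ : ∀ a, φ (algebraMap _ _ a) = algebraMap _ _ (e₁ a) := fun a =>
    IsFractionRing.ringEquivOfRingEquiv_algebraMap e₁ a
  have hmap : ∀ x : FractionRing (CAlg2.red A),
      IsIntegral (CAlg2.red A) x → IsIntegral (CAlg2.red B) (φ x) := by
    rintro x ⟨f, hf, hfx⟩
    refine ⟨f.map e₁.toRingHom, hf.map _, ?_⟩
    rw [Polynomial.eval₂_map,
      show (algebraMap (CAlg2.red B) _).comp e₁.toRingHom = φ.toRingHom.comp (algebraMap (CAlg2.red A) _) from
        RingHom.ext fun a => (hφ a).symm]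
    exact (Polynomial.hom_eval₂ _ _ _ _).symm.trans (by rw [hfx]; exact map_zero φ)
  have hinv : ∀ y : FractionRing (CAlg2.red B),
      IsIntegral (CAlg2.red B) y → IsIntegral (CAlg2.red A) (φ.symm y) := by
    rintro y ⟨f, hf, hfy⟩
    refine ⟨f.map e₁.symm.toRingHom, hf.map _, ?_⟩
    rw [Polynomial.eval₂_map,
      show (algebraMap (CAlg2.red A) _).comp e₁.symm.toRingHom = φ.symm.toRingHom.comp (algebraMap (CAlg2.red B) _) from
        RingHom.ext fun b => φ.injective ((hφ _).trans
          ((congrArg _ (e₁.apply_symm_apply b)).trans (φ.apply_symm_apply _).symm))]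
    exact (Polynomial.hom_eval₂ _ _ _ _).symm.trans (by rw [hfy]; exact map_zero φ.symm)
  let N : CAlg2.normRed A ≃+* CAlg2.normRed B :=
    { toFun := fun x => ⟨φ x.1, hmap x.1 x.2⟩
      invFun := fun y => ⟨φ.symm y.1, hinv y.1 y.2⟩
      left_inv := fun x => Subtype.ext (φ.symm_apply_apply x.1)
      right_inv := fun y => Subtype.ext (φ.apply_symm_apply y.1)
      map_mul' := fun x y => Subtype.ext (map_mul φ x.1 y.1)
      map_add' := fun x y => Subtype.ext (map_add φ x.1 y.1) }
  refine ⟨⟨hdom, ?_⟩, ?_⟩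
  · haveI : Nontrivial (CAlg2.normRed B) := N.symm.toEquiv.nontrivial
    exact IsLocalRing.of_surjective' N.toRingHom N.surjective
  · intro m' hm'
    let _g : CAlg2.normRed B →+* CAlg2.normRed B ⧸ m' := Ideal.Quotient.mk m'
    intro y
    obtain ⟨y, rfl⟩ := Ideal.Quotient.mk_surjective y
    let m := m'.comap N.toRingHom
    haveI : m.IsMaximal := Ideal.comap_isMaximal_of_surjective _ N.surjective
    let κe : CAlg2.normRed A ⧸ m ≃+* CAlg2.normRed B ⧸ m' :=
      Ideal.quotientEquiv m m' N (Ideal.map_comap_of_surjective _ N.surjective m').symm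
    obtain ⟨n, a, ha⟩ := hpi m (Ideal.Quotient.mk m (N.symm y))
    refine ⟨n, e a, ?_⟩
    have hq : ringExpChar (CAlg2.normRed A ⧸ m) = ringExpChar (CAlg2.normRed B ⧸ m') := by
      letI : Field (CAlg2.normRed A ⧸ m) := Ideal.Quotient.field m
      letI : Field (CAlg2.normRed B ⧸ m') := Ideal.Quotient.field m'
      haveI := expChar_of_injective_ringHom (f := κe.toRingHom) κe.injective
        (ringExpChar (CAlg2.normRed A ⧸ m))
      exact (ringExpChar.eq _ _).symm
    rw [← hq]
    have h3 : ∀ z, κe (Ideal.Quotient.mk m z) = Ideal.Quotient.mk m' (N z) := fun z =>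
      Ideal.quotientEquiv_mk ..
    have h2 := congrArg κe ha
    rw [map_pow, RingHom.comp_apply, h3, h3, N.apply_symm_apply] at h2
    refine Eq.trans (congrArg (Ideal.Quotient.mk m') (Subtype.ext ?_)) h2
    show algebraMap (CAlg2.red B) _ (Ideal.Quotient.mk _ (e a)) = φ (algebraMap (CAlg2.red A) _ (Ideal.Quotient.mk _ a))
    rw [hφ]
    rfl

end Groth.Agent.H06EGA14
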