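import Groth.Agent.H06EGA14.JacobsonDim
import Groth.Agent.H06EGA14.EquidimCriteria

/-!
Dimensions of local rings as dimensions of sets of generizations.
-/

open CategoryTheory CategoryTheory.Limits AlgebraicGeometry TopologicalSpace Topology

universe u

namespace Groth.Agent.H06EGA14

open Groth.Agent.H8Props.FieldDim

variable {X Y : Scheme.{u}}

/-- The dimension of a local ring as the dimension of the generizations in any space containing it. -/
theorem ringKrullDim_stalk_eq_image {Z : Scheme.{u}} {T : Type u} [TopologicalSpace T] (j : Z → T)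
    (hj : IsEmbedding j) (w : Z) :
    ringKrullDim (Z.presheaf.stalk w) = topologicalKrullDim ↥(j '' {t | t ⤳ w}) := by
  have h : IsEmbedding (j ∘ Z.fromSpecStalk w) := hj.comp (Z.fromSpecStalk w).isEmbedding
  have hr : Set.range (j ∘ Z.fromSpecStalk w) = j '' {t | t ⤳ w} := by
    rw [Set.range_comp, Scheme.range_fromSpecStalk]
  rw [← hr, ← PrimeSpectrum.topologicalKrullDim_eq_ringKrullDim]
  exact IsHomeomorph.topologicalKrullDim_eq _ h.toHomeomorph.isHomeomorph

/-- The local ring of a closed subscheme with irreducible support. -/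
theorem ringKrullDim_stalk_eq_between {Z : Scheme.{u}} (i : Z ⟶ X) [IsClosedImmersion i] {a : X}
    (hr : Set.range i = closure {a}) (w : Z) {x : X} (hw : i w = x) :
    ringKrullDim (Z.presheaf.stalk w) = topologicalKrullDim ↥{t : X | a ⤳ t ∧ t ⤳ x} := by
  subst hw
  rw [ringKrullDim_stalk_eq_image _ i.isEmbedding w]
  rw [show i '' {t | t ⤳ w} = {t : X | a ⤳ t ∧ t ⤳ i w} from ?_]
  ext t
  constructor
  · rintro ⟨z, hz, rfl⟩
    exact ⟨specializes_iff_mem_closure.mpr (hr ▸ Set.mem_range_self z), hz.map i.continuous⟩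
  · rintro ⟨hat, htw⟩
    obtain ⟨z, rfl⟩ : t ∈ Set.range i := hr ▸ hat.mem_closure
    exact ⟨z, i.isEmbedding.isInducing.specializes_iff.mp htw, rfl⟩

/-- Local rings of fibres of closed subschemes are smaller. -/
theorem fibre_stalk_dim_le_of_closedImmersion {Z : Scheme.{u}} (i : Z ⟶ X) [IsClosedImmersion i] (f : X ⟶ Y)
    (w : Z) {x : X} (hw : i w = x) :
    ringKrullDim (((i ≫ f).fiber ((i ≫ f) w)).presheaf.stalk ((i ≫ f).asFiber w)) ≤
      ringKrullDim ((f.fiber (f x)).presheaf.stalk (f.asFiber x)) := by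
  subst hw
  have hj : IsEmbedding (⇑i ∘ ⇑((i ≫ f).fiberι ((i ≫ f) w))) := i.isEmbedding.comp ((i ≫ f).fiberι _).isEmbedding
  rw [ringKrullDim_stalk_eq_image _ hj, ringKrullDim_stalk_eq_image _ (f.fiberι (f (i w))).isEmbedding]
  refine dim_mono ?_
  rintro _ ⟨u, hu, rfl⟩
  have h1 : f (i ((i ≫ f).fiberι ((i ≫ f) w) u)) = f (i w) :=
    ((i ≫ f).range_fiberι ((i ≫ f) w)).subset (Set.mem_range_self u)
  obtain ⟨v, hv⟩ : i ((i ≫ f).fiberι ((i ≫ f) w) u) ∈ Set.range (f.fiberι (f (i w))) := by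
    rw [f.range_fiberι]; exact h1
  refine ⟨v, (f.fiberι _).isEmbedding.isInducing.specializes_iff.mp ?_, hv⟩
  rw [hv, f.fiberι_asFiber]
  have h2 := (hu.map ((i ≫ f).fiberι _).continuous).map i.continuous
  rwa [(i ≫ f).fiberι_asFiber] at h2

theorem exists_nat_fibre_stalk_dim (f : X ⟶ Y) [LocallyOfFiniteType f] (x : X) :
    ∃ n : ℕ, ringKrullDim ((f.fiber (f x)).presheaf.stalk (f.asFiber x)) = n := by
  haveI := locallyOfFiniteType_fiberToSpec f (f x)
  haveI : IsLocallyNoetherian (f.fiber (f x)) := LocallyOfFiniteType.isLocallyNoetherian (f.fiberToSpecResidueField (f x))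
  exact H22Alg.exists_nat_ringKrullDim' _

end Groth.Agent.H06EGA14
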