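import Groth.Agent.H06EGA14.Chevalley
import Groth.Agent.H06Equidim.AffineSpace

/-!
# Chevalley's criterion in terms of dimensions of fibres (EGA IV 14.4.1)
-/

set_option autoImplicit false
set_option linter.style.haveILetI false
set_option backward.isDefEq.respectTransparency false
universe u

open CategoryTheory CategoryTheory.Limits AlgebraicGeometry TopologicalSpace Topology

namespace Groth.Agent.H06EGA14

open H8Props.FieldDim

theorem cdim_asFiber_openImmersion {X Y : Scheme.{u}} (j : X ⟶ Y) [IsOpenImmersion j] (x : X) :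
    cdim (j.asFiber x) = 0 := by
  obtain ⟨a, ha, -⟩ := H06Equidim.exists_trdeg_asFiber j x
  refine le_antisymm ?_ (ha ▸ Nat.cast_nonneg' a)
  exact (H06Equidim.cdim_asFiber_le_fibreDimAt j x).trans
    (fibreDimAt_le_zero_of_quasiFiniteAt j (j.quasiFiniteAt x))

/-- A morphism is universally open at a point over a unibranch point if that point has a generization
over a maximal point of the base spanning at least the dimension of the fibre. -/
theorem isUnivOpenAt_of_dim_le {X Y : Scheme.{u}} [IsLocallyNoetherian Y] (f : X ⟶ Y)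
    [LocallyOfFiniteType f] (x η : X) (hηx : η ⤳ x) (hmaxY : ∀ w, w ⤳ f η → w = f η)
    (hdim : FlatMor.fibreDimAt f x ≤ cdim (f.asFiber η))
    (hy : CAlg2.IsGeomUnibranch (Y.presheaf.stalk (f x))) :
    EGA43.IsUnivOpenAt f x := by
  obtain ⟨(W : Y.Opens), (hW : IsAffineOpen W), hxW, -⟩ := Opens.isBasis_iff_nbhd.mp Y.isBasis_affineOpens
    (show f x ∈ (⊤ : Y.Opens) from trivial)
  obtain ⟨(V : X.Opens), (hV : IsAffineOpen V), hxV, hVW⟩ := Opens.isBasis_iff_nbhd.mp X.isBasis_affineOpens
    (show x ∈ f ⁻¹ᵁ W from hxW)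
  obtain ⟨q, rfl⟩ : x ∈ Set.range hV.fromSpec := by rw [hV.range_fromSpec]; exact hxV
  obtain ⟨η, rfl⟩ : η ∈ Set.range hV.fromSpec := by rw [hV.range_fromSpec]; exact hηx.mem_open V.2 hxV
  have hηq : η ⤳ q := hV.fromSpec.isEmbedding.isInducing.specializes_iff.mp hηx
  letI := (f.appLE W V hVW).hom.toAlgebra
  haveI : Algebra.FiniteType Γ(Y, W) Γ(X, V) := f.finiteType_appLE hW hV _
  haveI : IsNoetherianRing Γ(Y, W) := IsLocallyNoetherian.component_noetherian ⟨W, hW⟩
  haveI : LocallyOfFinitePresentation f := inferInstance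
  let φ := Spec.map (CommRingCat.ofHom (algebraMap Γ(Y, W) Γ(X, V)))
  haveI : LocallyOfFiniteType φ := (HasRingHomProperty.Spec_iff (P := @LocallyOfFiniteType)).mpr
    (RingHom.finiteType_algebraMap.mpr inferInstance)
  have hsq : φ ≫ hW.fromSpec = hV.fromSpec ≫ f := IsAffineOpen.SpecMap_appLE_fromSpec f hW hV hVW
  obtain ⟨a, ha, -⟩ := H06Equidim.exists_trdeg_asFiber φ η
  have hcη : cdim (f.asFiber (hV.fromSpec η)) = a := by
    have h1 : cdim ((hV.fromSpec ≫ f).asFiber η) = cdim ((φ ≫ hW.fromSpec).asFiber η) := by rw [hsq]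
    rw [H06Equidim.cdim_asFiber_comp, H06Equidim.cdim_asFiber_comp, cdim_asFiber_openImmersion hV.fromSpec,
      cdim_asFiber_openImmersion hW.fromSpec, zero_add, add_zero, ha] at h1
    exact h1
  have hqd : FlatMor.fibreDimAt φ q ≤ (a : ℕ) := by
    rw [← fibreDimAt_comp_openImmersion φ hW.fromSpec q, hsq,
      fibreDimAt_openImmersion_comp hV.fromSpec f q, ← hcη]
    exact hdim
  obtain ⟨σ, _, γ, hσ, hqf⟩ := exists_quasiFiniteAt_map q a hqd
  let G := Spec.map (CommRingCat.ofHom γ.toRingHom)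
  let π := Spec.map (CommRingCat.ofHom (algebraMap Γ(Y, W) (MvPolynomial σ Γ(Y, W))))
  haveI : LocallyOfFiniteType π := (HasRingHomProperty.Spec_iff (P := @LocallyOfFiniteType)).mpr
    (RingHom.finiteType_algebraMap.mpr inferInstance)
  have hGπ : G ≫ π = φ := by
    rw [← Spec.map_comp, ← CommRingCat.ofHom_comp, AlgHom.toRingHom_eq_coe, γ.comp_algebraMap]
  haveI : LocallyOfFiniteType G :=
    haveI : LocallyOfFiniteType (G ≫ π) := hGπ ▸ inferInstance
    locallyOfFiniteType_of_comp G π
  have hcd : cdim (π.asFiber (G η)) = FlatMor.fibreDimAt π (G η) := by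
    refine le_antisymm (H06Equidim.cdim_asFiber_le_fibreDimAt π _) ?_
    rw [(affineSpace_fibre σ (G η)).1]
    have h1 : cdim ((G ≫ π).asFiber η) = (a : WithBot ℕ∞) := by rw [hGπ]; exact ha
    rw [H06Equidim.cdim_asFiber_comp] at h1
    refine le_trans ?_ (le_trans h1.ge ((add_le_add ((H06Equidim.cdim_asFiber_le_fibreDimAt G η).trans
      (fibreDimAt_le_zero_of_quasiFiniteAt G
        (hηq.mem_open G.quasiFiniteLocus.2 (show q ∈ G.quasiFiniteLocus from hqf)))) le_rfl).trans
          (zero_add _).le))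
    exact_mod_cast hσ
  refine isUnivOpenAt_of_quasiFiniteAt_dominant f hW hV hVW q γ.toRingHom ?_ hqf η hηq (fun b hb => ?_) hy
  · exact γ.comp_algebraMap
  · refine H06Equidim.eq_of_specializes_of_cdim_eq π (G η) hcd b hb
      (hW.fromSpec.isEmbedding.injective ((hmaxY _ ?_).trans ?_))
    · rw [← Scheme.Hom.comp_apply hV.fromSpec f, ← hsq, ← hGπ]
      exact (hb.map π.continuous).map hW.fromSpec.continuous
    · rw [← Scheme.Hom.comp_apply hV.fromSpec f, ← hsq, ← hGπ]
      rfl

end Groth.Agent.H06EGA14
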