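import Groth.Agent.H06EGA14.Chevalley2

/-!
# Chevalley's criterion for equidimensional morphisms (EGA IV 14.4.4)
-/

set_option autoImplicit false
set_option linter.style.haveILetI false
set_option backward.isDefEq.respectTransparency false
universe u

open CategoryTheory CategoryTheory.Limits AlgebraicGeometry TopologicalSpace Topology

namespace Groth.Agent.H06EGA14

open H8Props.FieldDim

/-- An equidimensional morphism has, through the point, a component spanning the fibre dimension. -/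
theorem exists_generic_of_isEquidimAt {X Y : Scheme.{u}} (f : X ⟶ Y) [LocallyOfFiniteType f] (x : X)
    (h : EGA43.IsEquidimAt f x) :
    ∃ η : X, η ⤳ x ∧ (∀ ζ, ζ ⤳ η → ζ = η) ∧ (∀ w, w ⤳ f η → w = f η) ∧ f η ⤳ f x ∧
      FlatMor.fibreDimAt f x ≤ cdim (f.asFiber η) := by
  obtain ⟨e, U, hxU, hcomp, hfib⟩ := h
  have hdimU : ∀ z : U.toScheme, FlatMor.fibreDimAt f (U.ι z) = e := fun z =>
    (H06Equidim.fibreDimAt_opens_ι f U z).symm.trans
      (H06Equidim.fibreDimAt_eq_of_dim_component_fibre (U.ι ≫ f) e hfib z)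
  obtain ⟨η, hη, hT⟩ := exists_component_generization (Z := U.toScheme) ⟨x, hxU⟩
  have hmaxX : ∀ ζ, ζ ⤳ U.ι η → ζ = U.ι η := fun ζ hζ => by
    have hζU : ζ ∈ U := hζ.mem_open U.2 η.2
    rw [← H06Equidim.eq_of_specializes_of_component hT ⟨ζ, hζU⟩
      (U.ι.isEmbedding.isInducing.specializes_iff.mp hζ)]
    rfl
  refine ⟨U.ι η, hη.map U.ι.continuous, hmaxX, ?_, (hη.map U.ι.continuous).map f.continuous, ?_⟩
  · obtain ⟨W', hW', -, hW'eq⟩ := hcomp _ hT
    exact H06Equidim.eq_of_specializes_of_component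
      (((H06Equidim.closure_image_closure_singleton (U.ι ≫ f) η).symm.trans hW'eq :
        closure {f (U.ι η)} = W') ▸ hW')
  · rw [H06Equidim.cdim_asFiber_eq_fibreDimAt f _ hmaxX, hdimU η]
    exact (hdimU ⟨x, hxU⟩).le

/-- Chevalley: an equidimensional morphism over a unibranch point is universally open there. -/
theorem isUnivOpenAt_of_isEquidimAt {X Y : Scheme.{u}} [IsLocallyNoetherian Y] (f : X ⟶ Y)
    [LocallyOfFiniteType f] (x : X) (h : EGA43.IsEquidimAt f x)
    (hy : CAlg2.IsGeomUnibranch (Y.presheaf.stalk (f x))) : EGA43.IsUnivOpenAt f x := by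
  obtain ⟨η, hη, -, hmaxY, -, hdim⟩ := exists_generic_of_isEquidimAt f x h
  exact isUnivOpenAt_of_dim_le f x η hη hmaxY hdim hy

/-- Universal openness from universal openness at every point. -/
theorem universallyOpen_of_isUnivOpenAt {X Y : Scheme.{u}} (f : X ⟶ Y)
    (h : ∀ x, EGA43.IsUnivOpenAt f x) : UniversallyOpen f := by
  constructor
  intro A B i₁ i₂ f' hsq U hU
  refine isOpen_iff_mem_nhds.mpr ?_
  rintro _ ⟨a, ha, rfl⟩
  let e := hsq.flip.isoPullback
  have h1 := h _ B i₂ (e.hom a) rfl ((pullback.snd f i₂) ⁻¹' Set.univ ∩ e.inv ⁻¹' U) ?_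
  · rw [← Scheme.Hom.comp_apply, hsq.flip.isoPullback_hom_snd] at h1
    refine Filter.mem_of_superset h1 ?_
    rintro _ ⟨z, ⟨-, hz⟩, rfl⟩
    refine ⟨e.inv z, hz, ?_⟩
    rw [← Scheme.Hom.comp_apply, hsq.flip.isoPullback_inv_snd]
  · refine (isOpen_univ.inter (hU.preimage e.inv.continuous)).mem_nhds ⟨trivial, ?_⟩
    show e.inv (e.hom a) ∈ U
    rw [← Scheme.Hom.comp_apply, e.hom_inv_id]
    exact ha

end Groth.Agent.H06EGA14
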