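import Groth.Prelude.Def_EGA43
import Mathlib.AlgebraicGeometry.PullbackCarrier
import Mathlib.AlgebraicGeometry.Morphisms.UniversallyClosed

/-!
# Morphisms universally open at a point (EGA IV 14.3)
-/

set_option autoImplicit false

universe u

open CategoryTheory Limits AlgebraicGeometry TopologicalSpace

namespace Groth.Agent.H06EGA14

variable {X Y Z : Scheme.{u}}

theorem isOpenAt_comp {α β γ : Type*} [TopologicalSpace α] [TopologicalSpace β] [TopologicalSpace γ]
    {p : α → β} {q : β → γ} {a : α} (hp : EGA43.IsOpenAt p a) (hq : EGA43.IsOpenAt q (p a)) :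
    EGA43.IsOpenAt (q ∘ p) a := fun U hU => by
  rw [Set.image_comp]
  exact hq _ (hp U hU)

theorem isOpenAt_of_comp {α β γ : Type*} [TopologicalSpace α] [TopologicalSpace β]
    [TopologicalSpace γ] {p : α → β} {q : β → γ} {a : α} (hp : Continuous p)
    (h : EGA43.IsOpenAt (q ∘ p) a) : EGA43.IsOpenAt q (p a) := fun U hU => by
  refine Filter.mem_of_superset (h _ (hp.continuousAt.preimage_mem_nhds hU)) ?_
  rintro _ ⟨b, hb, rfl⟩
  exact ⟨p b, hb, rfl⟩

/-- Universal openness at a point, read on any pullback square. -/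
theorem isOpenAt_of_isPullback {f : X ⟶ Y} {x : X} (h : EGA43.IsUnivOpenAt f x) {P Y' : Scheme.{u}}
    {a : P ⟶ X} {b : P ⟶ Y'} {g : Y' ⟶ Y} (hP : IsPullback a b f g) (p : P) (hp : a p = x) :
    EGA43.IsOpenAt b.base p := by
  have hfst : pullback.fst f g (hP.isoPullback.hom p) = x := by
    rw [← Scheme.Hom.comp_apply, hP.isoPullback_hom_fst, hp]
  have hopen : EGA43.IsOpenAt (⇑hP.isoPullback.hom) p := fun U hU =>
    (Scheme.homeoOfIso hP.isoPullback).isOpenMap.image_mem_nhds hU
  have := isOpenAt_comp hopen (h Y' g _ hfst)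
  have he : (⇑(pullback.snd f g) ∘ ⇑hP.isoPullback.hom) = ⇑b := by
    funext q
    exact congrArg (fun φ => φ.base q) hP.isoPullback_hom_snd
  exact he ▸ this

theorem isUnivOpenAt_of_isPullback {f : X ⟶ Y} {x : X} (h : EGA43.IsUnivOpenAt f x)
    {P Y' : Scheme.{u}} {a : P ⟶ X} {b : P ⟶ Y'} {g : Y' ⟶ Y} (hP : IsPullback a b f g) (p : P)
    (hp : a p = x) : EGA43.IsUnivOpenAt b p := fun Y'' g' x' hx' =>
  isOpenAt_of_isPullback h ((IsPullback.of_hasPullback b g').paste_horiz hP) x'
    (by rw [Scheme.Hom.comp_apply, hx', hp])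

theorem isUnivOpenAt_comp {f : X ⟶ Y} {g : Y ⟶ Z} {x : X} (hf : EGA43.IsUnivOpenAt f x)
    (hg : EGA43.IsUnivOpenAt g (f x)) : EGA43.IsUnivOpenAt (f ≫ g) x := by
  intro Z' k x' hx'
  let p : pullback (f ≫ g) k ⟶ pullback g k :=
    pullback.lift (pullback.fst _ _ ≫ f) (pullback.snd _ _) (by rw [Category.assoc, pullback.condition])
  have hsq : IsPullback (pullback.fst (f ≫ g) k) p f (pullback.fst g k) :=
    IsPullback.of_bot (v₂₁ := pullback.snd g k)
      (by
        rw [pullback.lift_snd]
        exact IsPullback.of_hasPullback (f ≫ g) k)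
      (pullback.lift_fst _ _ _).symm (IsPullback.of_hasPullback g k)
  have h1 : EGA43.IsOpenAt p.base x' := isOpenAt_of_isPullback hf hsq x' hx'
  have h2 : EGA43.IsOpenAt (pullback.snd g k).base (p x') := by
    refine hg Z' k _ ?_
    rw [← Scheme.Hom.comp_apply, pullback.lift_fst, Scheme.Hom.comp_apply]
    exact congrArg f.base hx'
  have := isOpenAt_comp h1 h2
  have he : (⇑(pullback.snd g k) ∘ ⇑p) = ⇑(pullback.snd (f ≫ g) k) := by
    funext q
    rw [Function.comp_apply, ← Scheme.Hom.comp_apply, pullback.lift_snd]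
  exact he ▸ this

theorem isUnivOpenAt_right_of_comp {f : X ⟶ Y} {g : Y ⟶ Z} {x : X}
    (h : EGA43.IsUnivOpenAt (f ≫ g) x) : EGA43.IsUnivOpenAt g (f x) := by
  intro Z' k y' hy'
  let p : pullback (f ≫ g) k ⟶ pullback g k :=
    pullback.lift (pullback.fst _ _ ≫ f) (pullback.snd _ _) (by rw [Category.assoc, pullback.condition])
  have hsq : IsPullback (pullback.fst (f ≫ g) k) p f (pullback.fst g k) :=
    IsPullback.of_bot (v₂₁ := pullback.snd g k)
      (by
        rw [pullback.lift_snd]
        exact IsPullback.of_hasPullback (f ≫ g) k)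
      (pullback.lift_fst _ _ _).symm (IsPullback.of_hasPullback g k)
  obtain ⟨z, hz₁, hz₂⟩ := Scheme.Pullback.exists_preimage_pullback x y' hy'.symm
  obtain ⟨x', rfl⟩ : ∃ x', hsq.isoPullback.hom x' = z := ⟨hsq.isoPullback.inv z, by simp⟩
  have hx' : pullback.fst (f ≫ g) k x' = x := by
    rw [← hsq.isoPullback_hom_fst, Scheme.Hom.comp_apply, hz₁]
  have hpx : p x' = y' := by
    rw [← hz₂, ← Scheme.Hom.comp_apply, hsq.isoPullback_hom_snd]
  rw [← hpx]
  refine isOpenAt_of_comp p.continuous ?_
  have he : (⇑(pullback.snd g k) ∘ ⇑p) = ⇑(pullback.snd (f ≫ g) k) := by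
    funext q
    rw [Function.comp_apply, ← Scheme.Hom.comp_apply, pullback.lift_snd]
  exact he.symm ▸ h Z' k x' hx'

/-- Openness at a point descends along closed surjections. -/
theorem isOpenAt_of_closed_surjective {Y₁ : Scheme.{u}} (v : Y₁ ⟶ Y) (hv : IsClosedMap v.base)
    [Surjective v] (f : X ⟶ Y) (x : X)
    (h : ∀ x₁ : ↥(pullback f v), pullback.fst f v x₁ = x →
      EGA43.IsOpenAt (pullback.snd f v).base x₁) :
    EGA43.IsOpenAt f.base x := by
  intro U hU
  have hT : ∀ y₁ : Y₁, v y₁ = f x → v ⁻¹' (f '' U) ∈ nhds y₁ := by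
    intro y₁ hy₁
    obtain ⟨x₁, h₁, h₂⟩ := Scheme.Pullback.exists_preimage_pullback x y₁ hy₁.symm
    refine h₂ ▸ Filter.mem_of_superset
      (h x₁ h₁ _ ((pullback.fst f v).continuous.continuousAt.preimage_mem_nhds (h₁ ▸ hU))) ?_
    rintro _ ⟨q, hq, rfl⟩
    exact ⟨pullback.fst f v q, hq, by
      rw [← Scheme.Hom.comp_apply, pullback.condition, Scheme.Hom.comp_apply]⟩
  refine mem_nhds_iff.2 ⟨(v '' (interior (v ⁻¹' (f '' U)))ᶜ)ᶜ, fun y hy => ?_,
    (hv _ isOpen_interior.isClosed_compl).isOpen_compl, ?_⟩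
  · obtain ⟨y₁, rfl⟩ := v.surjective y
    by_contra hn
    exact hy ⟨y₁, fun hi => hn (interior_subset (s := v ⁻¹' (f '' U)) hi), rfl⟩
  · rintro ⟨y₁, hy₁, he⟩
    exact hy₁ (mem_interior_iff_mem_nhds.2 (hT y₁ he))

theorem isUnivOpenAt_of_universallyClosed_surjective {Y₁ : Scheme.{u}} (v : Y₁ ⟶ Y)
    [UniversallyClosed v] [Surjective v] (f : X ⟶ Y) (x : X)
    (h : ∀ x₁ : ↥(pullback f v), pullback.fst f v x₁ = x →
      EGA43.IsUnivOpenAt (pullback.snd f v) x₁) :
    EGA43.IsUnivOpenAt f x := by
  intro Y' g x' hx'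
  refine isOpenAt_of_closed_surjective (pullback.fst g v) (pullback.fst g v).isClosedMap
    (pullback.snd f g) x' fun x'' hx'' => ?_
  let a : pullback (pullback.snd f g) (pullback.fst g v) ⟶ pullback f v :=
    pullback.lift (pullback.fst _ _ ≫ pullback.fst _ _) (pullback.snd _ _ ≫ pullback.snd _ _) (by
      rw [Category.assoc, Category.assoc, ← pullback.condition (f := g), pullback.condition,
        pullback.condition_assoc])
  have hsq : IsPullback a (pullback.snd (pullback.snd f g) (pullback.fst g v)) (pullback.snd f v)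
      (pullback.snd g v) :=
    IsPullback.of_right (h₁₂ := pullback.fst f v)
      (by
        rw [pullback.lift_fst, ← pullback.condition (f := g)]
        exact (IsPullback.of_hasPullback (pullback.snd f g) (pullback.fst g v)).paste_horiz
          (IsPullback.of_hasPullback f g))
      (pullback.lift_snd _ _ _) (IsPullback.of_hasPullback f v)
  refine isOpenAt_of_isPullback (h (a x'') ?_) hsq x'' rfl
  rw [← Scheme.Hom.comp_apply, pullback.lift_fst, Scheme.Hom.comp_apply, hx'', hx']

/-- Universal openness at a point can be tested on a finite closed cover of the base. -/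
theorem isUnivOpenAt_of_finite_closed_cover {ι : Type*} [Finite ι] (f : X ⟶ Y) (x : X)
    (T : ι → Scheme.{u}) (g : ∀ i, T i ⟶ Y) [∀ i, IsClosedImmersion (g i)]
    (hcov : ⋃ i, Set.range (g i).base = Set.univ)
    (h : ∀ i, ∀ x' : ↥(pullback f (g i)), pullback.fst f (g i) x' = x →
      EGA43.IsUnivOpenAt (pullback.snd f (g i)) x') :
    EGA43.IsUnivOpenAt f x := by
  intro Y' k x' hx' U hU
  have key : ∀ i, ∃ V ∈ nhds (pullback.snd f k x'),
      V ∩ Set.range (pullback.fst k (g i)) ⊆ pullback.snd f k '' U := by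
    intro i
    by_cases hy : pullback.snd f k x' ∈ Set.range (pullback.fst k (g i))
    · obtain ⟨t, ht⟩ := hy
      obtain ⟨x'', h₁, h₂⟩ := Scheme.Pullback.exists_preimage_pullback
        (f := pullback.snd f k) (g := pullback.fst k (g i)) x' t ht.symm
      let a : pullback (pullback.snd f k) (pullback.fst k (g i)) ⟶ pullback f (g i) :=
        pullback.lift (pullback.fst _ _ ≫ pullback.fst _ _) (pullback.snd _ _ ≫ pullback.snd _ _) (by
          rw [Category.assoc, Category.assoc, ← pullback.condition (f := k), pullback.condition,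
            pullback.condition_assoc])
      have hsq : IsPullback a (pullback.snd (pullback.snd f k) (pullback.fst k (g i)))
          (pullback.snd f (g i)) (pullback.snd k (g i)) :=
        IsPullback.of_right (h₁₂ := pullback.fst f (g i))
          (by
            rw [pullback.lift_fst, ← pullback.condition (f := k)]
            exact (IsPullback.of_hasPullback (pullback.snd f k) (pullback.fst k (g i))).paste_horiz
              (IsPullback.of_hasPullback f k))
          (pullback.lift_snd _ _ _) (IsPullback.of_hasPullback f (g i))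
      have hop := isOpenAt_of_isPullback (h i (a x'') (by
        rw [← Scheme.Hom.comp_apply, pullback.lift_fst, Scheme.Hom.comp_apply, h₁, hx'])) hsq x'' rfl
      have hn := hop _ ((pullback.fst (pullback.snd f k) (pullback.fst k (g i))).continuous.continuousAt.preimage_mem_nhds
        (h₁.symm ▸ hU))
      rw [show (pullback.snd (pullback.snd f k) (pullback.fst k (g i))).base x'' = t from h₂,
        (pullback.fst k (g i)).isEmbedding.nhds_eq_comap, ht] at hn
      obtain ⟨V, hV, hVsub⟩ := hn
      refine ⟨V, hV, ?_⟩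
      rintro _ ⟨hw, w, rfl⟩
      obtain ⟨q, hq, rfl⟩ := hVsub hw
      exact ⟨_, hq, by rw [← Scheme.Hom.comp_apply, pullback.condition, Scheme.Hom.comp_apply]⟩
    · exact ⟨(Set.range (pullback.fst k (g i)))ᶜ,
        (pullback.fst k (g i)).isClosedEmbedding.isClosed_range.isOpen_compl.mem_nhds hy,
        fun w hw => absurd hw.2 hw.1⟩
  choose V hV hVsub using key
  refine Filter.mem_of_superset (Filter.iInter_mem.2 hV) fun w hw => ?_
  obtain ⟨i, t, ht⟩ := Set.mem_iUnion.1 (hcov.superset (Set.mem_univ (k w)))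
  obtain ⟨z, hz, -⟩ := Scheme.Pullback.exists_preimage_pullback w t ht.symm
  exact hVsub i ⟨Set.mem_iInter.1 hw i, z, hz⟩

end Groth.Agent.H06EGA14
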