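import Groth.Agent.H06EGA14.FibreDims
import Groth.Agent.H06EGA14.Chevalley3
import Groth.Agent.H06EGA14.UnivOpen
import Groth.Agent.H8Props.FieldDimEquidim

/-!
# Universal openness at a maximal point of a fibre over a unibranch point (EGA IV 14.4.1)
-/

set_option autoImplicit false
set_option linter.style.haveILetI false
set_option backward.isDefEq.respectTransparency false
universe u

open CategoryTheory CategoryTheory.Limits AlgebraicGeometry TopologicalSpace Topology

namespace Groth.Agent.H06EGA14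

open H8Props.FieldDim

variable {X Y : Scheme.{u}} (f : X ⟶ Y)

theorem isOpenAt_of_isUnivOpenAt {x : X} (h : EGA43.IsUnivOpenAt f x) : EGA43.IsOpenAt f.base x :=
  isOpenAt_of_isPullback h (IsPullback.of_horiz_isIso (f := f) ⟨by simp⟩ :
    IsPullback (𝟙 X) f f (𝟙 Y)) x rfl

theorem cdim_le_of_specializes (v ξ : X) (h : ξ ⤳ v) (hf : f ξ = f v) :
    cdim (f.asFiber v) ≤ cdim (f.asFiber ξ) := by
  rw [← dim_inter_eq_cdim f v rfl, ← dim_inter_eq_cdim f ξ hf]
  exact dim_mono (Set.inter_subset_inter_left _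
    (closure_minimal (Set.singleton_subset_iff.mpr h.mem_closure) isClosed_closure))

theorem cdim_asFiber_baseChange {P Y' : Scheme.{u}} {a : P ⟶ X} {b : P ⟶ Y'} {i : Y' ⟶ Y}
    [IsPreimmersion i] [IsPreimmersion a] (hP : IsPullback a b f i) (p : P) :
    cdim (b.asFiber p) = cdim (f.asFiber (a p)) := by
  have hsq : ∀ q, f (a q) = i (b q) := fun q => by
    rw [← Scheme.Hom.comp_apply, hP.w, Scheme.Hom.comp_apply]
  have hset : closure ({p} : Set P) ∩ b ⁻¹' {b p} = a ⁻¹' (closure {a p} ∩ f ⁻¹' {f (a p)}) := by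
    ext q
    rw [a.isEmbedding.closure_eq_preimage_closure_image, Set.image_singleton]
    simp only [Set.mem_inter_iff, Set.mem_preimage, Set.mem_singleton_iff, hsq]
    exact and_congr_right fun _ => i.isEmbedding.injective.eq_iff.symm
  rw [← dim_inter_eq_cdim b p rfl, ← dim_inter_eq_cdim f (a p) rfl, hset, dim_preimage a.isEmbedding]
  rw [Set.inter_eq_left.mpr]
  rintro z ⟨-, hz⟩
  obtain ⟨q, hq, -⟩ := Scheme.exists_preimage_of_isPullback hP z (b p) (hz.trans (hsq p))
  exact ⟨q, hq⟩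

/-- a) ⇒ b'): universal openness at a maximal point of the fibre bounds the fibre dimensions over
generizations from below. -/
theorem le_dim_inter_of_isUnivOpenAt [IsLocallyNoetherian Y] [LocallyOfFiniteType f] (x : X)
    (hmax : ∀ x' : X, f x' = f x → x' ⤳ x → x' = x) (h : EGA43.IsUnivOpenAt f x) (U : X.Opens) (hxU : x ∈ U)
    (y' : Y) (hy' : y' ⤳ f x) :
    FlatMor.fibreDimAt f x ≤ topologicalKrullDim ↥((U : Set X) ∩ f ⁻¹' {y'}) := by
  let I := Scheme.IdealSheafData.vanishingIdeal (X := Y) ⟨closure {y'}, isClosed_closure⟩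
  let i := I.subschemeι
  have hr : Set.range i = closure {y'} := by
    show Set.range I.subschemeι = _
    rw [Scheme.IdealSheafData.range_subschemeι, Scheme.IdealSheafData.coe_support_vanishingIdeal]
    rfl
  obtain ⟨η₀, hη₀⟩ : y' ∈ Set.range i := hr ▸ subset_closure rfl
  obtain ⟨y₀, hy₀⟩ : f x ∈ Set.range i := hr ▸ hy'.mem_closure
  haveI : IsLocallyNoetherian I.subscheme := LocallyOfFiniteType.isLocallyNoetherian i
  let P := pullback f i
  let a : P ⟶ X := pullback.fst f i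
  let b : P ⟶ I.subscheme := pullback.snd f i
  have hP : IsPullback a b f i := IsPullback.of_hasPullback f i
  obtain ⟨x', hx', hbx'⟩ := Scheme.exists_preimage_of_isPullback hP x y₀ hy₀.symm
  have hsq : ∀ q, f (a q) = i (b q) := fun q => by
    rw [← Scheme.Hom.comp_apply, hP.w, Scheme.Hom.comp_apply]
  have hmax' : ∀ q : P, b q = b x' → q ⤳ x' → q = x' := fun q hq hqx => by
    refine a.isEmbedding.injective ((hmax _ ?_ ?_).trans hx'.symm)
    · rw [hsq, hq, ← hsq, hx']
    · exact hx' ▸ hqx.map a.continuous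
  have hopen : EGA43.IsOpenAt b.base x' := isOpenAt_of_isPullback h hP x' hx'
  have hmax₀ : ∀ w, w ⤳ η₀ → w = η₀ := fun w hw => by
    refine i.isEmbedding.injective ?_
    have h1 : i w ⤳ y' := hη₀ ▸ hw.map i.continuous
    have h2 : y' ⤳ i w := specializes_iff_mem_closure.mpr (hr ▸ Set.mem_range_self w)
    rw [(h1.antisymm h2).eq, hη₀]
  obtain ⟨η, hη, hbη, -, hdim⟩ := exists_generic_of_isOpenAt b x' hmax' hopen η₀
    (i.isEmbedding.isInducing.specializes_iff.mp (by rw [hη₀, hbx', hy₀]; exact hy')) hmax₀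
  rw [← cdim_asFiber_eq_fibreDimAt_of_fibre b x' hmax', cdim_asFiber_baseChange f hP,
    cdim_asFiber_baseChange f hP, hx', cdim_asFiber_eq_fibreDimAt_of_fibre f x hmax] at hdim
  refine hdim.trans (cdim_le_dim_inter f U (a η) ?_ ?_)
  · exact (hx' ▸ hη.map a.continuous : a η ⤳ x).mem_open U.2 hxU
  · rw [hsq, hbη, hη₀]

/-- b') ⇒ b): a component through the point with the right generic fibre dimension. -/
theorem exists_generic_of_le_dim_inter [IsLocallyNoetherian X] [LocallyOfFiniteType f] (x : X) (η₀ : Y)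
    (hmax₀ : ∀ w, w ⤳ η₀ → w = η₀)
    (h : ∀ U : X.Opens, x ∈ U → FlatMor.fibreDimAt f x ≤ topologicalKrullDim ↥((U : Set X) ∩ f ⁻¹' {η₀}))
    (hmax : ∀ x' : X, f x' = f x → x' ⤳ x → x' = x) :
    ∃ η : X, η ⤳ x ∧ f η = η₀ ∧ (∀ ζ, ζ ⤳ η → ζ = η) ∧ FlatMor.fibreDimAt f x ≤ cdim (f.asFiber η) := by
  obtain ⟨U, hxU, -, hU⟩ := H06Equidim.exists_nhd_components_mem x ⊤ trivial
  obtain ⟨s, hs, -⟩ := H06Equidim.exists_trdeg_asFiber f x
  have he : FlatMor.fibreDimAt f x = (s : ℕ) := (cdim_asFiber_eq_fibreDimAt_of_fibre f x hmax).symm.trans hs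
  rw [he] at h ⊢
  obtain ⟨v, hvU, hfv, hv⟩ := exists_cdim_eq_of_dim_inter f U η₀ s (h U hxU)
  obtain ⟨ξ, hξ, hT⟩ := exists_component_generization v
  have hξmax := H06Equidim.eq_of_specializes_of_component hT
  have hfξ : f ξ = η₀ := hmax₀ _ (hfv ▸ hξ.map f.continuous)
  exact ⟨ξ, hU ξ (hξ.mem_open U.2 hvU) hξmax, hfξ, hξmax,
    hv.trans (cdim_le_of_specializes f v ξ hξ (hfξ.trans hfv.symm))⟩

/-- Condition b) of EGA IV 14.4.1 from the generic point of the component. -/
theorem component_condition [LocallyOfFiniteType f] (x η : X) (hmax : ∀ x' : X, f x' = f x → x' ⤳ x → x' = x)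
    (hη : η ⤳ x) (hηmax : ∀ ζ, ζ ⤳ η → ζ = η) (hdim : FlatMor.fibreDimAt f x ≤ cdim (f.asFiber η))
    (Y₀ : Set Y) (hY₀ : closure ({f η} : Set Y) = Y₀) :
    ∃ Z ∈ irreducibleComponents (X : Type u), ∃ hx : x ∈ Z, closure (f.base '' Z) = Y₀ ∧
      ∀ η' : Y, closure ({η'} : Set Y) = Y₀ →
        FlatMor.fibreDimAt f x = FlatMor.localDim ↥(Z ∩ f.base ⁻¹' {f.base x}) ⟨x, ⟨hx, rfl⟩⟩ ∧
        FlatMor.localDim ↥(Z ∩ f.base ⁻¹' {f.base x}) ⟨x, ⟨hx, rfl⟩⟩ =
          topologicalKrullDim ↥(Z ∩ f.base ⁻¹' {η'}) := by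
  refine ⟨closure {η}, H06Equidim.closure_singleton_mem_irreducibleComponents η hηmax, hη.mem_closure,
    (H06Equidim.closure_image_closure_singleton f η).trans hY₀, fun η' hη' => ?_⟩
  obtain rfl : η' = f η := eq_of_closure_singleton_eq (hη'.trans hY₀.symm)
  have h1 := cdim_asFiber_eq_fibreDimAt_of_fibre f x hmax
  have h2 : cdim (f.asFiber η) = FlatMor.fibreDimAt f x :=
    le_antisymm ((H06Equidim.cdim_asFiber_le_fibreDimAt f η).trans (fibreDimAt_le_of_specializes f hη)) hdim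
  rw [localDim_inter_eq f x hmax isClosed_closure ⟨hη.mem_closure, rfl⟩, dim_inter_eq_cdim f η rfl, h1, h2]
  exact ⟨rfl, rfl⟩

end Groth.Agent.H06EGA14

namespace Groth.Agent.H06EGA14

open H8Props.FieldDim

/-- The fibre dimension at a point is realised by a maximal point of the fibre. -/
theorem exists_maximal_generization {X Y : Scheme.{u}} (f : X ⟶ Y) [LocallyOfFiniteType f] (x : X) :
    ∃ ξ : X, ξ ⤳ x ∧ f ξ = f x ∧ (∀ x', f x' = f ξ → x' ⤳ ξ → x' = ξ) ∧
      cdim (f.asFiber ξ) = FlatMor.fibreDimAt f x := by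
  haveI := locallyOfFiniteType_fiberToSpec f (f x)
  obtain ⟨n, hn⟩ := exists_nat_localDim (k := Y.residueField (f x)) (f.fiberToSpecResidueField (f x)) (f.asFiber x)
  have hloc := localDim_eq (k := Y.residueField (f x)) (f.fiberToSpecResidueField (f x)) (f.asFiber x)
  have hx' : f.fiberι (f x) (f.asFiber x) = x := f.fiberι_asFiber x
  obtain ⟨u, hu, hcu⟩ : ∃ u, u ⤳ f.asFiber x ∧ (n : WithBot ℕ∞) ≤ cdim u := by
    by_contra hcon
    push Not at hcon
    rcases n with _ | n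
    · obtain ⟨t, ht⟩ := exists_nat_cdim (k := Y.residueField (f x)) (f.fiberToSpecResidueField (f x)) (f.asFiber x)
      have h1 := hcon _ specializes_rfl
      rw [ht] at h1
      exact absurd h1 (not_lt.mpr (by exact_mod_cast Nat.zero_le t))
    · have h1 : FlatMor.localDim (f.fiber (f x)) (f.asFiber x) ≤ (n : ℕ) := by
        rw [hloc]
        refine iSup_le fun u => ?_
        obtain ⟨t, ht⟩ := exists_nat_cdim (k := Y.residueField (f x)) (f.fiberToSpecResidueField (f x)) u.1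
        have h2 := hcon _ u.2
        rw [ht] at h2 ⊢
        have h3 : t < n + 1 := by exact_mod_cast h2
        exact_mod_cast Nat.lt_succ_iff.mp h3
      rw [hn] at h1
      exact absurd (show n + 1 ≤ n by exact_mod_cast h1) (by omega)
  obtain ⟨ξ, hξ, hfξ⟩ : ∃ ξ : X, f.fiberι (f x) u = ξ ∧ f ξ = f x :=
    ⟨_, rfl, (f.range_fiberι (f x)).subset (Set.mem_range_self u)⟩
  have hξx : ξ ⤳ x := by
    have h1 := hu.map (f.fiberι (f x)).continuous
    rwa [hx', hξ] at h1
  have hcd : cdim u = cdim (f.asFiber ξ) := by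
    rw [H17.DimIneq.cdim_eq_dim_inter, ← dim_inter_eq_cdim f ξ hfξ, hξ]
  have hfd : FlatMor.fibreDimAt f x = (n : ℕ) := hn
  have hge : FlatMor.fibreDimAt f x ≤ cdim (f.asFiber ξ) := hfd ▸ hcd ▸ hcu
  have heq : cdim (f.asFiber ξ) = FlatMor.fibreDimAt f x := le_antisymm
    ((H06Equidim.cdim_asFiber_le_fibreDimAt f ξ).trans (fibreDimAt_le_of_specializes f hξx)) hge
  exact ⟨ξ, hξx, hfξ, fun x' h1 h2 => H06Equidim.eq_of_specializes_of_cdim_eq f ξ
    (le_antisymm (H06Equidim.cdim_asFiber_le_fibreDimAt f ξ) ((fibreDimAt_le_of_specializes f hξx).trans hge))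
    x' h2 h1, heq⟩

/-- Openness at the maximal points of the fibre through `x` gives universal openness at `x` over a
unibranch point. -/
theorem isUnivOpenAt_of_isOpenAt_generization {X Y : Scheme.{u}} [IsLocallyNoetherian Y] (f : X ⟶ Y)
    [LocallyOfFiniteType f] (x : X)
    (h : ∀ ξ : X, ξ ⤳ x → f ξ = f x → (∀ x', f x' = f ξ → x' ⤳ ξ → x' = ξ) → EGA43.IsOpenAt f.base ξ)
    (hy : CAlg2.IsGeomUnibranch (Y.presheaf.stalk (f x))) : EGA43.IsUnivOpenAt f x := by
  obtain ⟨ξ, hξx, hfξ, hξmax, hξd⟩ := exists_maximal_generization f x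
  obtain ⟨η₀, hη₀, hT⟩ := exists_component_generization (f ξ)
  obtain ⟨η, hη, rfl, -, hdim⟩ := exists_generic_of_isOpenAt f ξ hξmax (h ξ hξx hfξ hξmax) η₀ hη₀
    (H06Equidim.eq_of_specializes_of_component hT)
  refine isUnivOpenAt_of_dim_le f x η (hη.trans hξx) (H06Equidim.eq_of_specializes_of_component hT) ?_ hy
  rw [← cdim_asFiber_eq_fibreDimAt_of_fibre f ξ hξmax] at hdim
  exact hξd ▸ hdim

theorem isOpenAt_of_isOpenMap {α β : Type*} [TopologicalSpace α] [TopologicalSpace β] {g : α → β}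
    (hg : IsOpenMap g) (a : α) : EGA43.IsOpenAt g a := fun _ hU => hg.image_mem_nhds hU

end Groth.Agent.H06EGA14
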