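import Groth.Agent.H06EGA14.OpenStalk
import Groth.Prelude.Def_EGA4b
import Groth.Agent.H05EGA4.Equidim

/-!
# Equidimensional morphisms and equidimensional local rings (EGA IV 14.4)
-/

set_option autoImplicit false
set_option linter.style.haveILetI false
set_option backward.isDefEq.respectTransparency false
universe u

open CategoryTheory CategoryTheory.Limits AlgebraicGeometry TopologicalSpace Topology

namespace Groth.Agent.H06EGA14

open H8Props.FieldDim

theorem cdim_asFiber_lqf {X Y : Scheme.{u}} (j : X ⟶ Y) [LocallyOfFiniteType j] [LocallyQuasiFinite j]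
    (x : X) : cdim (j.asFiber x) = 0 := by
  obtain ⟨a, ha, -⟩ := H06Equidim.exists_trdeg_asFiber j x
  refine le_antisymm ?_ (ha ▸ Nat.cast_nonneg' a)
  exact (H06Equidim.cdim_asFiber_le_fibreDimAt j x).trans
    (fibreDimAt_le_zero_of_quasiFiniteAt j (j.quasiFiniteAt x))

theorem cdim_asFiber_comp_closedImmersion {Z X Y : Scheme.{u}} (i : Z ⟶ X) [IsClosedImmersion i] (f : X ⟶ Y)
    [LocallyOfFiniteType f] (a : Z) : cdim ((i ≫ f).asFiber a) = cdim (f.asFiber (i a)) := by
  haveI : LocallyQuasiFinite i := inferInstance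
  rw [H06Equidim.cdim_asFiber_comp, cdim_asFiber_lqf i a, zero_add]

theorem fibreDimAt_comp_closedImmersion_le {Z X Y : Scheme.{u}} (i : Z ⟶ X) [IsClosedImmersion i]
    (f : X ⟶ Y) [LocallyOfFiniteType f] (a : Z) :
    FlatMor.fibreDimAt (i ≫ f) a ≤ FlatMor.fibreDimAt f (i a) := by
  obtain ⟨ξ, hξ, -, -, hd⟩ := exists_maximal_generization (i ≫ f) a
  rw [← hd, cdim_asFiber_comp_closedImmersion]
  exact (H06Equidim.cdim_asFiber_le_fibreDimAt f _).trans
    (fibreDimAt_le_of_specializes f (hξ.map i.continuous))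

theorem trdeg_residue_le {X Y : Scheme.{u}} (g : X ⟶ Y) [LocallyOfFiniteType g] (ξ : X) (E : ℕ)
    (h : cdim (g.asFiber ξ) ≤ (E : WithBot ℕ∞)) :
    letI := (g.residueFieldMap ξ).hom.toAlgebra
    Algebra.trdeg (Y.residueField (g.base ξ)) (X.residueField ξ) ≤ E := by
  obtain ⟨s, hs, hs'⟩ := H06Equidim.exists_trdeg_asFiber g ξ
  rw [hs] at h
  rw [hs']
  exact_mod_cast h

/-- `dim O_{X,x} + t ≤ dim O_{Y,y} + e` on an integral source. -/
theorem stalk_dim_add_le {Z Y : Scheme.{u}} [IsIntegral Z] [IsLocallyNoetherian Y] (g : Z ⟶ Y)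
    [LocallyOfFiniteType g] (x : Z) (d t e : ℕ)
    (hd : ringKrullDim (Y.presheaf.stalk (g x)) = d) (ht : cdim (g.asFiber x) = t)
    (he : cdim (g.asFiber (genericPoint Z)) ≤ (e : WithBot ℕ∞)) :
    ringKrullDim (Z.presheaf.stalk x) + (t : ℕ) ≤ (d + e : ℕ) := by
  obtain ⟨b, hb, hineq⟩ := H17.DimIneq.scheme_ineq g x e (fun ξ hξ _ => by
    obtain rfl : ξ = genericPoint Z := eq_of_closure_singleton_eq (Y := Z) (by
      rw [genericPoint_closure]
      rw [irreducibleComponents_eq_singleton] at hξ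
      exact hξ)
    exact trdeg_residue_le g _ e he)
  obtain ⟨t', ht', ht''⟩ := H06Equidim.exists_trdeg_asFiber g x
  obtain rfl : t' = t := by exact_mod_cast ht'.symm.trans ht
  have hb' : b = (d : ℕ∞) := by
    rw [hd] at hb
    exact_mod_cast hb.symm
  subst hb'
  haveI : IsLocallyNoetherian Z := LocallyOfFiniteType.isLocallyNoetherian g
  obtain ⟨n, hn⟩ := H22Alg.exists_nat_ringKrullDim' (Z.presheaf.stalk x)
  have h1 := hineq n hn.ge
  rw [ht''] at h1
  rw [hn]
  have h2 : n + t' ≤ d + e := by exact_mod_cast h1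
  exact_mod_cast h2

/-- The dimension of the quotient of the local ring by a prime, against the base. -/
theorem quotient_dim_add_le {X Y : Scheme.{u}} [IsLocallyNoetherian Y] (f : X ⟶ Y) [LocallyOfFiniteType f]
    (x : X) (p : PrimeSpectrum (X.presheaf.stalk x)) (d₀ t e : ℕ)
    (hd : ringKrullDim (Y.presheaf.stalk (f x) ⧸
      p.asIdeal.comap (f.stalkMap x).hom) = d₀)
    (ht : cdim (f.asFiber x) = t) (he : cdim (f.asFiber (X.fromSpecStalk x p)) ≤ (e : WithBot ℕ∞)) :
    ringKrullDim (X.presheaf.stalk x ⧸ p.asIdeal) + (t : ℕ) ≤ (d₀ + e : ℕ) := by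
  set η := X.fromSpecStalk x p
  haveI := p.2
  let p₀ : PrimeSpectrum (Y.presheaf.stalk (f x)) := PrimeSpectrum.comap (f.stalkMap x).hom p
  have hp₀ : Y.fromSpecStalk (f x) p₀ = f η :=
    congrArg (fun φ : Spec (X.presheaf.stalk x) ⟶ Y => φ p) (Scheme.SpecMap_stalkMap_fromSpecStalk f)
  obtain ⟨Z, i, x', hi, hZ, hr, hix, hdimZ⟩ := exists_integral_closure x p
  obtain ⟨Y₀, j, y', hj, hY₀, hrj, hjy, hdimY⟩ := exists_integral_closure (f x) p₀
  haveI := hi; haveI := hZ; haveI := hj; haveI := hY₀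
  obtain ⟨g, hg⟩ := H17.exists_lift_immersion_of_range_subset (i ≫ f) j (by
    rintro _ ⟨a, rfl⟩
    rw [hrj, hp₀, Scheme.Hom.comp_apply]
    have ha : i a ∈ closure {η} := hr ▸ Set.mem_range_self a
    exact ((specializes_iff_mem_closure.mpr ha).map f.continuous).mem_closure)
  haveI : IsLocallyNoetherian Y₀ := LocallyOfFiniteType.isLocallyNoetherian j
  haveI : LocallyOfFiniteType g :=
    haveI : LocallyOfFiniteType (g ≫ j) := by rw [hg]; infer_instance
    locallyOfFiniteType_of_comp g j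
  have hcd : ∀ a, cdim (g.asFiber a) = cdim (f.asFiber (i a)) := fun a => by
    have h1 : cdim ((g ≫ j).asFiber a) = cdim (g.asFiber a) := by
      haveI : LocallyQuasiFinite j := inferInstance
      rw [H06Equidim.cdim_asFiber_comp, cdim_asFiber_lqf j (g a), add_zero]
    rw [← h1, hg, cdim_asFiber_comp_closedImmersion]
  have hgen : i (genericPoint Z) = η := by
    obtain ⟨a, ha⟩ : η ∈ Set.range i := hr ▸ subset_closure rfl
    have h1 : i (genericPoint Z) ⤳ η := ha ▸ (genericPoint_specializes a).map i.continuous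
    exact (h1.antisymm (specializes_iff_mem_closure.mpr (hr ▸ Set.mem_range_self _))).eq
  have hgx : g x' = y' := j.isEmbedding.injective (by
    rw [← Scheme.Hom.comp_apply, hg, Scheme.Hom.comp_apply, hix, hjy])
  have h2 := stalk_dim_add_le g x' d₀ t e (by rw [hgx, hdimY]; exact hd) (by rw [hcd, hix, ht])
    (by rw [hcd, hgen]; exact he)
  rwa [hdimZ] at h2

/-- Over a unibranch point, the local ring at a component with generic fibre of full dimension. -/
theorem quotient_dim_add_eq {X Y : Scheme.{u}} [IsLocallyNoetherian Y] (f : X ⟶ Y) [LocallyOfFiniteType f]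
    (x : X) (hy : CAlg2.IsGeomUnibranch (Y.presheaf.stalk (f x)))
    (p : PrimeSpectrum (X.presheaf.stalk x)) (d t e : ℕ)
    (hmaxY : ∀ w, w ⤳ f (X.fromSpecStalk x p) → w = f (X.fromSpecStalk x p))
    (hd : ringKrullDim (Y.presheaf.stalk (f x)) = d)
    (ht : cdim (f.asFiber x) = t) (he : cdim (f.asFiber (X.fromSpecStalk x p)) = (e : WithBot ℕ∞))
    (hfd : FlatMor.fibreDimAt f x = (e : ℕ)) :
    ringKrullDim (X.presheaf.stalk x ⧸ p.asIdeal) + (t : ℕ) = (d + e : ℕ) := by
  obtain ⟨Z, i, x', hi, hZ, hr, hix, hdimZ⟩ := exists_integral_closure x p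
  haveI := hi; haveI := hZ
  set η := X.fromSpecStalk x p
  have hgen : i (genericPoint Z) = η := by
    obtain ⟨a, ha⟩ : η ∈ Set.range i := hr ▸ subset_closure rfl
    have h1 : i (genericPoint Z) ⤳ η := ha ▸ (genericPoint_specializes a).map i.continuous
    exact (h1.antisymm (specializes_iff_mem_closure.mpr (hr ▸ Set.mem_range_self _))).eq
  have hgx : (i ≫ f) x' = f x := by rw [Scheme.Hom.comp_apply, hix]
  have hdg : ringKrullDim (Y.presheaf.stalk ((i ≫ f) x')) = d := by rw [hgx]; exact hd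
  have hyg : CAlg2.IsGeomUnibranch (Y.presheaf.stalk ((i ≫ f) x')) := by rw [hgx]; exact hy
  have hcg : cdim ((i ≫ f).asFiber (genericPoint Z)) = (e : WithBot ℕ∞) := by
    rw [cdim_asFiber_comp_closedImmersion, hgen, he]
  have htg : cdim ((i ≫ f).asFiber x') = t := by rw [cdim_asFiber_comp_closedImmersion, hix, ht]
  refine le_antisymm ?_ ?_
  · rw [← hdimZ]
    exact stalk_dim_add_le (i ≫ f) x' d t e hdg htg hcg.le
  · obtain ⟨t', ht', hle⟩ := le_ringKrullDim_stalk_of_isOpenAt (i ≫ f) x' (fun ξ hξ hgξ => by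
      refine isOpenAt_of_isUnivOpenAt (i ≫ f) (isUnivOpenAt_of_dim_le (i ≫ f) ξ (genericPoint Z)
        (genericPoint_specializes ξ) (fun w hw => ?_) ?_ (hgξ ▸ hyg))
      · rw [Scheme.Hom.comp_apply, hgen] at hw ⊢
        exact hmaxY w hw
      · rw [hcg]
        refine (fibreDimAt_comp_closedImmersion_le i f ξ).trans ?_
        have hix' : i ξ ⤳ x := hix ▸ hξ.map i.continuous
        exact (fibreDimAt_le_of_specializes f hix').trans hfd.le) d e hdg.ge (by
        refine le_trans ?_ (fibreDimAt_le_of_specializes (i ≫ f) (genericPoint_specializes x'))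
        rw [← hcg]
        exact H06Equidim.cdim_asFiber_le_fibreDimAt (i ≫ f) _)
    obtain rfl : t' = t := by exact_mod_cast ht'.symm.trans htg
    rwa [hdimZ] at hle

theorem withBot_add_nat_cancel {a b : WithBot ℕ∞} {t : ℕ} (h : a + (t : ℕ) = b + (t : ℕ)) : a = b := by
  induction a using WithBot.recBotCoe with
  | bot =>
    induction b using WithBot.recBotCoe with
    | bot => rfl
    | coe b => rw [WithBot.bot_add] at h; exact absurd h.symm WithBot.coe_ne_bot
  | coe a =>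
    induction b using WithBot.recBotCoe with
    | bot => rw [WithBot.bot_add] at h; exact absurd h WithBot.coe_ne_bot
    | coe b =>
      have h1 : a + (t : ℕ∞) = b + (t : ℕ∞) := WithBot.coe_inj.mp h
      exact congrArg _ ((ENat.add_left_injective_of_ne_top (ENat.coe_ne_top t)) h1)

theorem fromSpecStalk_maximal {X : Scheme.{u}} (x : X) (p : PrimeSpectrum (X.presheaf.stalk x))
    (hp : p.asIdeal ∈ minimalPrimes (X.presheaf.stalk x)) (ζ : X) (hζ : ζ ⤳ X.fromSpecStalk x p) :
    ζ = X.fromSpecStalk x p := by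
  have hpx : X.fromSpecStalk x p ⤳ x := by
    have : X.fromSpecStalk x p ∈ Set.range (X.fromSpecStalk x) := ⟨p, rfl⟩
    rwa [Scheme.range_fromSpecStalk] at this
  obtain ⟨q, rfl⟩ : ζ ∈ Set.range (X.fromSpecStalk x) := by
    rw [Scheme.range_fromSpecStalk]; exact hζ.trans hpx
  have h1 : q.asIdeal ≤ p.asIdeal := (PrimeSpectrum.le_iff_specializes q p).mpr
    ((X.fromSpecStalk x).isEmbedding.isInducing.specializes_iff.mp hζ)
  rw [PrimeSpectrum.ext (le_antisymm h1 (hp.2 ⟨q.2, bot_le⟩ h1))]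

/-- An equidimensional morphism over a unibranch point has equidimensional local ring. -/
theorem isEquidim_stalk_of_isEquidimAt {X Y : Scheme.{u}} [IsLocallyNoetherian Y] (f : X ⟶ Y)
    [LocallyOfFiniteType f] (x : X) (h : EGA43.IsEquidimAt f x)
    (hy : CAlg2.IsGeomUnibranch (Y.presheaf.stalk (f x))) : EGA4.IsEquidim (X.presheaf.stalk x) := by
  haveI : IsLocallyNoetherian X := LocallyOfFiniteType.isLocallyNoetherian f
  obtain ⟨d, hd⟩ := H22Alg.exists_nat_ringKrullDim' (Y.presheaf.stalk (f x))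
  obtain ⟨t, ht, -⟩ := H06Equidim.exists_trdeg_asFiber f x
  obtain ⟨e, U, hxU, hcomp, hfib⟩ := h
  have hdimU : ∀ z : U.toScheme, FlatMor.fibreDimAt f (U.ι z) = e := fun z =>
    (H06Equidim.fibreDimAt_opens_ι f U z).symm.trans
      (H06Equidim.fibreDimAt_eq_of_dim_component_fibre (U.ι ≫ f) e hfib z)
  have key : ∀ p ∈ minimalPrimes (X.presheaf.stalk x),
      ringKrullDim (X.presheaf.stalk x ⧸ p) + (t : ℕ) = (d + e : ℕ) := by
    intro p hp
    let p' : PrimeSpectrum (X.presheaf.stalk x) := ⟨p, hp.1.1⟩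
    have hmaxX := fromSpecStalk_maximal x p' hp
    have hηU : X.fromSpecStalk x p' ∈ U := by
      have h1 : X.fromSpecStalk x p' ∈ Set.range (X.fromSpecStalk x) := ⟨p', rfl⟩
      rw [Scheme.range_fromSpecStalk] at h1
      exact (show X.fromSpecStalk x p' ⤳ x from h1).mem_open U.2 hxU
    have hmaxU : ∀ ζ : U.toScheme, ζ ⤳ ⟨_, hηU⟩ → ζ = ⟨_, hηU⟩ := fun ζ hζ =>
      U.ι.isEmbedding.injective (hmaxX _ (hζ.map U.ι.continuous))
    obtain ⟨W', hW', -, hW'eq⟩ := hcomp _
      (H06Equidim.closure_singleton_mem_irreducibleComponents (Z := U.toScheme) ⟨_, hηU⟩ hmaxU)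
    refine quotient_dim_add_eq f x hy p' d t e (H06Equidim.eq_of_specializes_of_component
      (((H06Equidim.closure_image_closure_singleton (U.ι ≫ f) ⟨_, hηU⟩).symm.trans hW'eq :
        closure {f (X.fromSpecStalk x p')} = W') ▸ hW')) hd ht ?_ (hdimU ⟨x, hxU⟩)
    rw [H06Equidim.cdim_asFiber_eq_fibreDimAt f _ hmaxX]
    exact hdimU ⟨_, hηU⟩
  intro p hp
  refine le_antisymm (ringKrullDim_quotient_le p) ?_
  rw [← ringKrullDim_eq_of_ringEquiv (RingEquiv.quotientBot (X.presheaf.stalk x))]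
  exact H05EGA4.ringKrullDim_quotient_le_of_minimalPrimes ⊥ fun q hq =>
    (withBot_add_nat_cancel ((key q hq).trans (key p hp).symm)).le

/-- Conversely (EGA IV 14.4.? b ⇒ a). -/
theorem isEquidimAt_of_isEquidim_of_isOpenAt {X Y : Scheme.{u}} [IsLocallyNoetherian Y] (f : X ⟶ Y)
    [LocallyOfFiniteType f] (x : X) (hy : CAlg2.IsGeomUnibranch (Y.presheaf.stalk (f x)))
    (hX : EGA4.IsEquidim (X.presheaf.stalk x))
    (hopen : ∀ ξ : X, ξ ⤳ x → f ξ = f x → (∀ x', f x' = f ξ → x' ⤳ ξ → x' = ξ) → EGA43.IsOpenAt f.base ξ) :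
    EGA43.IsEquidimAt f x := by
  haveI : IsLocallyNoetherian X := LocallyOfFiniteType.isLocallyNoetherian f
  obtain ⟨d, hd⟩ := H22Alg.exists_nat_ringKrullDim' (Y.presheaf.stalk (f x))
  obtain ⟨t, ht, -⟩ := H06Equidim.exists_trdeg_asFiber f x
  obtain ⟨e, hfd⟩ := H22Alg.exists_nat_fibreDimAt f x
  obtain ⟨ξ, hξx, hfξ, hξmax, hξd⟩ := exists_maximal_generization f x
  obtain ⟨η₀, hη₀, hT⟩ := exists_component_generization (f ξ)
  obtain ⟨η, hη, rfl, hηmax, hdim⟩ := exists_generic_of_isOpenAt f ξ hξmax (hopen ξ hξx hfξ hξmax) η₀ hη₀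
    (H06Equidim.eq_of_specializes_of_component hT)
  obtain ⟨p, hp⟩ : η ∈ Set.range (X.fromSpecStalk x) := by
    rw [Scheme.range_fromSpecStalk]; exact hη.trans hξx
  subst hp
  have he : cdim (f.asFiber (X.fromSpecStalk x p)) = (e : WithBot ℕ∞) := by
    rw [← cdim_asFiber_eq_fibreDimAt_of_fibre f ξ hξmax, hξd, hfd] at hdim
    exact le_antisymm ((H06Equidim.cdim_asFiber_le_fibreDimAt f _).trans
      ((fibreDimAt_le_of_specializes f (hη.trans hξx)).trans hfd.le)) hdim
  have hpmin : p.asIdeal ∈ minimalPrimes (X.presheaf.stalk x) := by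
    refine ⟨⟨p.2, bot_le⟩, fun J hJ hJle => ?_⟩
    have h1 := hηmax (X.fromSpecStalk x ⟨J, hJ.1⟩) (((PrimeSpectrum.le_iff_specializes
      (⟨J, hJ.1⟩ : PrimeSpectrum (X.presheaf.stalk x)) p).mp hJle).map (X.fromSpecStalk x).continuous)
    exact (congrArg PrimeSpectrum.asIdeal ((X.fromSpecStalk x).isEmbedding.injective h1)).ge
  have hdX : ringKrullDim (X.presheaf.stalk x) + (t : ℕ) = (d + e : ℕ) := by
    rw [← hX _ hpmin]
    exact quotient_dim_add_eq f x hy p d t e (H06Equidim.eq_of_specializes_of_component hT) hd ht he hfd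
  have hall : ∀ ζ : X, ζ ⤳ x → (∀ w, w ⤳ ζ → w = ζ) →
      (∀ w, w ⤳ f ζ → w = f ζ) ∧ FlatMor.fibreDimAt f ζ = (e : ℕ) := by
    intro ζ hζ hζmax
    obtain ⟨q, rfl⟩ : ζ ∈ Set.range (X.fromSpecStalk x) := by
      rw [Scheme.range_fromSpecStalk]; exact hζ
    obtain ⟨c, hc, -⟩ := H06Equidim.exists_trdeg_asFiber f (X.fromSpecStalk x q)
    have hce : c ≤ e := by
      have h1 : cdim (f.asFiber (X.fromSpecStalk x q)) ≤ (e : WithBot ℕ∞) :=
        (H06Equidim.cdim_asFiber_le_fibreDimAt f _).trans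
          ((fibreDimAt_le_of_specializes f hζ).trans hfd.le)
      rw [hc] at h1
      exact_mod_cast h1
    set A := Y.presheaf.stalk (f x)
    set q₀ : PrimeSpectrum A := PrimeSpectrum.comap (f.stalkMap x).hom q
    haveI := q₀.2
    obtain ⟨d₀, hd₀⟩ := H05EGA4.exists_nat_dim_quotient_eq q₀.asIdeal
    have h2 := quotient_dim_add_le f x q d₀ t c hd₀ ht hc.le
    have hqmin : q.asIdeal ∈ minimalPrimes (X.presheaf.stalk x) := by
      refine ⟨⟨q.2, bot_le⟩, fun J hJ hJle => ?_⟩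
      have h1 := hζmax (X.fromSpecStalk x ⟨J, hJ.1⟩) (((PrimeSpectrum.le_iff_specializes
        (⟨J, hJ.1⟩ : PrimeSpectrum (X.presheaf.stalk x)) q).mp hJle).map (X.fromSpecStalk x).continuous)
      exact (congrArg PrimeSpectrum.asIdeal ((X.fromSpecStalk x).isEmbedding.injective h1)).ge
    rw [hX _ hqmin, hdX] at h2
    have h3 : d + e ≤ d₀ + c := by exact_mod_cast h2
    have hdd : d₀ ≤ d := by
      have := (ringKrullDim_quotient_le q₀.asIdeal).trans hd.le
      rw [hd₀] at this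
      exact_mod_cast this
    have hq₀min : q₀.asIdeal ∈ minimalPrimes A := by
      rw [← Ideal.height_eq_zero_iff]
      have h4 := H05EGA4.height_add_dim_quotient_le q₀.asIdeal
      rw [hd₀, hd] at h4
      obtain ⟨m, hm⟩ := H05EGA4.exists_nat_height_eq q₀.asIdeal
      rw [hm] at h4 ⊢
      have h5 : m + d₀ ≤ d := by exact_mod_cast h4
      exact_mod_cast (show m = 0 by omega)
    refine ⟨?_, ?_⟩
    · have hnat : Y.fromSpecStalk (f x) q₀ = f (X.fromSpecStalk x q) :=
        congrArg (fun φ : Spec (X.presheaf.stalk x) ⟶ Y => φ q) (Scheme.SpecMap_stalkMap_fromSpecStalk f)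
      rw [← hnat]
      exact fromSpecStalk_maximal (f x) q₀ hq₀min
    · rw [← H06Equidim.cdim_asFiber_eq_fibreDimAt f _ hζmax, hc, show c = e by omega]
  let U₀ : X.Opens := ⟨{z | FlatMor.fibreDimAt f z ≤ (e : ℕ)}, H7Flat.isOpen_fibreDimAt_le' f _⟩
  obtain ⟨U, hxU, hUle, hU⟩ := H06Equidim.exists_nhd_components_mem x U₀ hfd.le
  refine ⟨e, U, hxU, fun Z hZ => ?_, fun z Z hZ =>
    H06Equidim.dim_component_fibre_of_fibreDimAt (U.ι ≫ f) e (fun w => ?_) _ Z hZ⟩
  · obtain ⟨η, rfl, hη⟩ := H8Props.FieldDim.mem_irreducibleComponents_iff (Z := U.toScheme) hZ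
    have hηX : ∀ ζ, ζ ⤳ U.ι η → ζ = U.ι η := fun ζ hζ => by
      rw [← hη ⟨ζ, hζ.mem_open U.2 η.2⟩ (U.ι.isEmbedding.isInducing.specializes_iff.mp hζ)]
      rfl
    have hsp := hU _ η.2 hηX
    refine ⟨closure {f (U.ι η)}, H06Equidim.closure_singleton_mem_irreducibleComponents _ (hall _ hsp hηX).1,
      (hsp.map f.continuous).mem_closure, H06Equidim.closure_image_closure_singleton (U.ι ≫ f) η⟩
  · rw [H06Equidim.fibreDimAt_opens_ι]
    obtain ⟨η, hη, hT⟩ := exists_component_generization (U.ι w)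
    have hηmax' := H06Equidim.eq_of_specializes_of_component hT
    refine le_antisymm (hUle w.2) ?_
    rw [← (hall η (hU η (hη.mem_open U.2 w.2) hηmax') hηmax').2]
    exact fibreDimAt_le_of_specializes f hη

end Groth.Agent.H06EGA14
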