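import Mathlib

/-!
# Lifting chains of primes above a component (algebra for EGA IV 14.3.13)
-/

set_option autoImplicit false
set_option linter.style.haveILetI false
universe u

namespace Groth.Agent.H06EGA14

/-- `n`-step strict chains of primes from `a` up to `b`. -/
def HasChain {A : Type u} [CommRing A] : ℕ → PrimeSpectrum A → PrimeSpectrum A → Prop
  | 0, a, b => a ≤ b
  | n + 1, a, b => ∃ c, a < c ∧ HasChain n c b

theorem HasChain.le {A : Type u} [CommRing A] :
    ∀ {n : ℕ} {a b : PrimeSpectrum A}, HasChain n a b → a ≤ b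
  | 0, _, _, h => h
  | _ + 1, _, _, ⟨_, hc, h⟩ => hc.le.trans (HasChain.le h)

theorem hasChain_of_ltSeries {A : Type u} [CommRing A] :
    ∀ (n : ℕ) (l : LTSeries (PrimeSpectrum A)), l.length = n → HasChain n l.head l.last
  | 0, l, _ => l.head_le_last
  | n + 1, l, h => by
    have h1 : l.length ≠ 0 := by omega
    refine ⟨(l.tail h1).head, ?_, ?_⟩
    · rw [RelSeries.head_tail]
      exact l.strictMono (show (0 : Fin (l.length + 1)) < 1 by
        rw [Fin.lt_def, Fin.val_zero, Fin.val_one', Nat.one_mod_eq_one.mpr (by omega)]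
        exact Nat.one_pos)
    · have h2 := hasChain_of_ltSeries n (l.tail h1) (by rw [RelSeries.tail_length]; omega)
      rwa [RelSeries.last_tail] at h2

theorem HasChain.exists_ltSeries {A : Type u} [CommRing A] :
    ∀ {n : ℕ} {a b : PrimeSpectrum A}, HasChain n a b →
      ∃ l : LTSeries (PrimeSpectrum A), n ≤ l.length ∧ l.head = a ∧ l.last = b
  | 0, a, b, h => by
    rcases h.eq_or_lt with rfl | h
    · exact ⟨RelSeries.singleton _ a, le_rfl, rfl, rfl⟩
    · exact ⟨(RelSeries.singleton _ b).cons a h, Nat.zero_le _, RelSeries.head_cons .., RelSeries.last_cons ..⟩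
  | n + 1, a, b, ⟨c, hc, h⟩ => by
    obtain ⟨l, hl, rfl, rfl⟩ := h.exists_ltSeries
    refine ⟨l.cons a hc, ?_, RelSeries.head_cons .., RelSeries.last_cons ..⟩
    rw [RelSeries.cons_length]
    omega

/-- Between two primes with a prime in between there is one avoiding a given element outside the
smaller one (Krull). -/
theorem exists_prime_between {A : Type u} [CommRing A] [IsNoetherianRing A]
    (P p₁ p₂ : PrimeSpectrum A) (h₁ : P < p₁) (h₂ : p₁ < p₂) (a : A) (ha : a ∉ P.asIdeal) :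
    ∃ q : PrimeSpectrum A, P < q ∧ q < p₂ ∧ a ∉ q.asIdeal := by
  classical
  haveI := P.2; haveI := p₁.2; haveI := p₂.2
  let π := Ideal.Quotient.mk P.asIdeal
  let g : PrimeSpectrum A → Ideal (A ⧸ P.asIdeal) := fun r => r.asIdeal.map π
  have hgc : ∀ r, P ≤ r → (g r).comap π = r.asIdeal := fun r hr => by
    rw [Ideal.comap_map_of_surjective _ Ideal.Quotient.mk_surjective, ← RingHom.ker_eq_comap_bot,
      Ideal.mk_ker]
    exact sup_eq_left.2 hr
  have hgp : ∀ r, P ≤ r → (g r).IsPrime := fun r hr =>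
    haveI := r.2
    Ideal.map_isPrime_of_surjective Ideal.Quotient.mk_surjective (by rw [Ideal.mk_ker]; exact hr)
  have hglt : ∀ r r', P ≤ r → r < r' → g r < g r' := fun r r' hr hlt =>
    lt_of_le_of_ne (Ideal.map_mono hlt.le) fun e => hlt.ne (PrimeSpectrum.ext (by
      rw [← hgc r hr, e, hgc r' (hr.trans hlt.le)]))
  haveI := hgp P le_rfl; haveI := hgp p₁ h₁.le; haveI := hgp p₂ (h₁.le.trans h₂.le)
  have hht : 2 ≤ (g p₂).height := by
    have e1 := Ideal.height_add_one_le_of_lt_of_isPrime (hglt P p₁ le_rfl h₁)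
    have e2 := Ideal.height_add_one_le_of_lt_of_isPrime (hglt p₁ p₂ h₁.le h₂)
    calc (2 : ℕ∞) = 0 + 1 + 1 := by norm_num
      _ ≤ (g P).height + 1 + 1 := by gcongr; exact bot_le
      _ ≤ (g p₁).height + 1 := by gcongr
      _ ≤ _ := e2
  have ha' : π a ≠ 0 := fun h => ha (Ideal.Quotient.eq_zero_iff_mem.mp h)
  let M := (Ideal.span {π a}).minimalPrimes
  have hMfin : M.Finite := Ideal.finite_minimalPrimes_of_isNoetherianRing _ _
  have hnsub : ¬ ((g p₂ : Set (A ⧸ P.asIdeal)) ⊆ ⋃ i ∈ (↑(insert ⊥ hMfin.toFinset) : Set (Ideal (A ⧸ P.asIdeal))), (i : Set _)) := by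
    intro hsub
    rw [Ideal.subset_union_prime (f := fun i : Ideal (A ⧸ P.asIdeal) => i) ⊥ ⊥ (fun i hi hne _ => by
      rcases Finset.mem_insert.mp hi with h | h
      · exact absurd h hne
      · exact (hMfin.mem_toFinset.mp h).1.1)] at hsub
    obtain ⟨i, hi, hle⟩ := hsub
    have h1 : i.height ≤ 1 := by
      rcases Finset.mem_insert.mp hi with rfl | h
      · exact le_of_eq_of_le Ideal.height_bot zero_le_one
      · haveI : (Ideal.span {π a}).IsPrincipal := ⟨π a, rfl⟩
        exact Ideal.height_le_one_of_isPrincipal_of_mem_minimalPrimes _ _ (hMfin.mem_toFinset.mp h)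
    exact absurd ((hht.trans (Ideal.height_mono hle)).trans h1) (by norm_num)
  obtain ⟨b, hb, hbn⟩ := Set.not_subset.mp hnsub
  simp only [Set.mem_iUnion, Finset.coe_insert, Set.mem_insert_iff, Finset.mem_coe, exists_prop,
    not_exists, not_and, SetLike.mem_coe] at hbn
  obtain ⟨q', hq', hq'le⟩ := Ideal.exists_minimalPrimes_le
    (show Ideal.span {b} ≤ g p₂ from (Ideal.span_singleton_le_iff_mem _).mpr hb)
  haveI : q'.IsPrime := hq'.1.1
  have hq'1 : q'.height ≤ 1 :=
    haveI : (Ideal.span {b}).IsPrincipal := ⟨b, rfl⟩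
    Ideal.height_le_one_of_isPrincipal_of_mem_minimalPrimes _ _ hq'
  have hb0 : b ≠ 0 := fun h => hbn ⊥ (Or.inl rfl) (by simp [h])
  have hbq : b ∈ q' := hq'.1.2 (Ideal.mem_span_singleton_self b)
  refine ⟨⟨q'.comap π, inferInstance⟩, lt_of_le_of_ne ?_ ?_, lt_of_le_of_ne ?_ ?_, ?_⟩
  · intro x hx
    show π x ∈ q'
    rw [show π x = 0 from Ideal.Quotient.eq_zero_iff_mem.mpr hx]
    exact zero_mem _
  · intro e
    obtain ⟨x, rfl⟩ := Ideal.Quotient.mk_surjective b
    exact hb0 (Ideal.Quotient.eq_zero_iff_mem.mpr ((congrArg PrimeSpectrum.asIdeal e).ge hbq))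
  · show q'.comap π ≤ p₂.asIdeal
    rw [← hgc p₂ (h₁.le.trans h₂.le)]
    exact Ideal.comap_mono hq'le
  · intro e
    have e' : q' = g p₂ := Ideal.comap_injective_of_surjective π Ideal.Quotient.mk_surjective
      ((congrArg PrimeSpectrum.asIdeal e).trans (hgc p₂ (h₁.le.trans h₂.le)).symm)
    rw [← e'] at hht
    exact absurd (hht.trans hq'1) (by norm_num)
  · intro haq
    obtain ⟨m, hm, hmle⟩ := Ideal.exists_minimalPrimes_le
      (show Ideal.span {π a} ≤ q' from (Ideal.span_singleton_le_iff_mem _).mpr haq)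
    haveI : m.IsPrime := hm.1.1
    have hm0 : m ≠ ⊥ := fun h => ha' (by
      simpa [h] using hm.1.2 (Ideal.mem_span_singleton_self (π a)))
    rcases hmle.eq_or_lt with e | hlt
    · exact hbn m (Or.inr (hMfin.mem_toFinset.mpr hm)) (e.symm ▸ hbq)
    · have e1 := Ideal.height_add_one_le_of_lt_of_isPrime hlt
      have e2 : 1 ≤ m.height := Order.one_le_iff_pos.mpr (pos_iff_ne_zero.mpr fun h =>
        hm0 (Ideal.height_eq_zero_iff_eq_bot.mp h))
      have : (2 : ℕ∞) ≤ 1 := by
        calc (2 : ℕ∞) = 1 + 1 := by norm_num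
          _ ≤ m.height + 1 := by gcongr
          _ ≤ 1 := e1.trans hq'1
      exact absurd this (by norm_num)

/-- If all generizations lift to generizations of `q`, so do chains. -/
theorem exists_lift_chain {A C : Type u} [CommRing A] [CommRing C] [IsNoetherianRing A]
    [IsNoetherianRing C] (f : A →+* C) (q : PrimeSpectrum C)
    (hlift : ∀ p', p' ≤ PrimeSpectrum.comap f q → ∃ q', q' ≤ q ∧ PrimeSpectrum.comap f q' = p') :
    ∀ (n : ℕ) (p : PrimeSpectrum A), HasChain n p (PrimeSpectrum.comap f q) →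
      ∃ q' : PrimeSpectrum C, PrimeSpectrum.comap f q' = p ∧ HasChain n q' q
  | 0, p, h => by
    obtain ⟨q', hq', rfl⟩ := hlift p h
    exact ⟨q', rfl, hq'⟩
  | 1, p, ⟨c, hc, h⟩ => by
    obtain ⟨q', hq', rfl⟩ := hlift p (hc.le.trans h)
    refine ⟨q', rfl, q, lt_of_le_of_ne hq' ?_, le_rfl⟩
    rintro rfl
    exact (hc.trans_le h).ne rfl
  | n + 2, p, ⟨p₁, hp₁, p₂, hp₂, h⟩ => by
    classical
    haveI := p.2
    let T := {Q ∈ (p.asIdeal.map f).minimalPrimes | ¬ Q.comap f ≤ p.asIdeal}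
    have hTfin : T.Finite :=
      (Ideal.finite_minimalPrimes_of_isNoetherianRing _ (p.asIdeal.map f)).subset fun _ h => h.1
    have hch : ∀ Q : T, ∃ a, a ∈ Q.1.comap f ∧ a ∉ p.asIdeal := fun Q =>
      Set.not_subset.mp Q.2.2
    choose a haQ hap using hch
    haveI := hTfin.fintype
    have hprod : ∏ Q : T, a Q ∉ p.asIdeal := fun h => by
      obtain ⟨Q, -, hQ⟩ := p.2.prod_mem_iff.mp h
      exact hap Q hQ
    obtain ⟨r, hpr, hr2, har⟩ := exists_prime_between p p₁ p₂ hp₁ hp₂ _ hprod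
    obtain ⟨q₁, hq₁, hch₁⟩ := exists_lift_chain f q hlift (n + 1) r ⟨p₂, hr2, h⟩
    haveI := q₁.2
    obtain ⟨Q, hQ, hQle⟩ := Ideal.exists_minimalPrimes_le (show p.asIdeal.map f ≤ q₁.asIdeal by
      rw [Ideal.map_le_iff_le_comap]
      exact (show p.asIdeal ≤ r.asIdeal from hpr.le).trans (congrArg PrimeSpectrum.asIdeal hq₁).ge)
    have hQp : Q.comap f = p.asIdeal := by
      refine le_antisymm ?_ (Ideal.map_le_iff_le_comap.mp hQ.1.2)
      by_contra hcon
      refine har ?_
      have h1 : a ⟨Q, hQ, hcon⟩ ∈ r.asIdeal :=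
        (congrArg PrimeSpectrum.asIdeal hq₁).le (hQle (haQ ⟨Q, hQ, hcon⟩))
      exact Ideal.mem_of_dvd _ (Finset.dvd_prod_of_mem a (Finset.mem_univ _)) h1
    refine ⟨⟨Q, hQ.1.1⟩, PrimeSpectrum.ext hQp, q₁, lt_of_le_of_ne hQle ?_, hch₁⟩
    intro e
    apply hpr.ne
    rw [← hq₁, ← e]
    exact PrimeSpectrum.ext hQp.symm

end Groth.Agent.H06EGA14
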