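import Groth.Prelude.Def_EGA43
import Groth.Agent.H06EGA14.OpenDim
import Groth.Agent.H06Equidim.AffineSpace
import Groth.Agent.H17.DimIneqScheme

/-!
# Openness at a maximal point of a fibre forces a dominant component of large fibre dimension
(EGA IV 14.3.13, 14.3.10)
-/

set_option autoImplicit false
set_option linter.style.haveILetI false
set_option backward.isDefEq.respectTransparency false
universe u

open CategoryTheory CategoryTheory.Limits AlgebraicGeometry TopologicalSpace Topology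

namespace Groth.Agent.H06EGA14

open H8Props.FieldDim
open Groth.Agent.H7Flat (evKer evKer_fromSpec trdeg_residue_eq evaluation_appLE)

/-- At a point maximal in its fibre. -/
theorem cdim_asFiber_eq_fibreDimAt_of_fibre {X Y : Scheme.{u}} (f : X ⟶ Y) [LocallyOfFiniteType f] (x : X)
    (hx : ∀ x' : X, f x' = f x → x' ⤳ x → x' = x) : cdim (f.asFiber x) = FlatMor.fibreDimAt f x := by
  haveI := locallyOfFiniteType_fiberToSpec f (f x)
  refine (localDim_of_maximal (k := Y.residueField (f x)) (f.fiberToSpecResidueField (f x))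
    (f.asFiber x) fun u hu => ?_).symm
  apply (f.fiberι (f x)).isEmbedding.injective
  have h1 := hu.map (f.fiberι (f x)).continuous
  have h2 : f (f.fiberι (f x) u) = f x := by
    have : f.fiberι (f x) u ∈ Set.range (f.fiberι (f x)) := ⟨u, rfl⟩
    rwa [f.range_fiberι] at this
  rw [f.fiberι_asFiber] at h1 ⊢
  exact hx _ h2 h1

theorem exists_trdeg_quotient_aux {A₀ C : Type u} [CommRing A₀] [CommRing C] [Algebra A₀ C]
    (p p' : Ideal A₀) (q q' : Ideal C) (hp : p' = p) (hq : q' = q)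
    (h : p' ≤ q'.comap (algebraMap A₀ C)) [q.LiesOver p] :
    @Algebra.trdeg (A₀ ⧸ p') (C ⧸ q') _ _ (Ideal.quotientMap q' (algebraMap A₀ C) h).toAlgebra =
      Algebra.trdeg (A₀ ⧸ p) (C ⧸ q) := by
  subst hp hq
  congr 1

theorem trdeg_quotQuot {A C : Type u} [CommRing A] [CommRing C] [Algebra A C]
    (P p : Ideal A) (Q q : Ideal C) [p.IsPrime] [q.IsPrime] [q.LiesOver p] [Q.LiesOver P] (hPp : P ≤ p) (hQq : Q ≤ q)
    [(q.map (Ideal.Quotient.mk Q)).LiesOver (p.map (Ideal.Quotient.mk P))] :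
    Algebra.trdeg ((A ⧸ P) ⧸ p.map (Ideal.Quotient.mk P)) ((C ⧸ Q) ⧸ q.map (Ideal.Quotient.mk Q)) =
      Algebra.trdeg (A ⧸ p) (C ⧸ q) := by
  let e₁ : (A ⧸ P) ⧸ p.map (Ideal.Quotient.mk P) ≃+* A ⧸ p := DoubleQuot.quotQuotEquivQuotOfLE hPp
  let e₂ : (C ⧸ Q) ⧸ q.map (Ideal.Quotient.mk Q) ≃+* C ⧸ q := DoubleQuot.quotQuotEquivQuotOfLE hQq
  letI : Algebra ((A ⧸ P) ⧸ p.map (Ideal.Quotient.mk P)) (A ⧸ p) := e₁.toRingHom.toAlgebra
  letI : Algebra ((A ⧸ P) ⧸ p.map (Ideal.Quotient.mk P)) (C ⧸ q) :=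
    ((algebraMap (A ⧸ p) (C ⧸ q)).comp e₁.toRingHom).toAlgebra
  haveI : IsScalarTower ((A ⧸ P) ⧸ p.map (Ideal.Quotient.mk P)) (A ⧸ p) (C ⧸ q) :=
    IsScalarTower.of_algebraMap_eq fun _ => rfl
  haveI : FaithfulSMul ((A ⧸ P) ⧸ p.map (Ideal.Quotient.mk P)) (A ⧸ p) :=
    (faithfulSMul_iff_algebraMap_injective _ _).2 e₁.injective
  haveI : FaithfulSMul (A ⧸ p) (C ⧸ q) := (faithfulSMul_iff_algebraMap_injective _ _).2
    ((injective_iff_map_eq_zero _).2 fun r hr => by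
      obtain ⟨r, rfl⟩ := Ideal.Quotient.mk_surjective r
      rw [Ideal.Quotient.eq_zero_iff_mem, Ideal.LiesOver.over (p := p) (P := q)]
      exact (Ideal.Quotient.eq_zero_iff_mem (I := q)).1 hr)
  haveI : Nontrivial (A ⧸ p) := Ideal.Quotient.nontrivial_iff.mpr (Ideal.IsPrime.ne_top inferInstance)
  haveI : Nontrivial ((A ⧸ P) ⧸ p.map (Ideal.Quotient.mk P)) := e₁.toEquiv.nontrivial
  haveI : Algebra.IsAlgebraic ((A ⧸ P) ⧸ p.map (Ideal.Quotient.mk P)) (A ⧸ p) := ⟨fun r => by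
    obtain ⟨r, rfl⟩ := e₁.surjective r
    exact isAlgebraic_algebraMap r⟩
  have h' := trdeg_add_eq ((A ⧸ P) ⧸ p.map (Ideal.Quotient.mk P)) (A ⧸ p) (A := C ⧸ q)
  rw [trdeg_eq_zero, zero_add] at h'
  rw [h']
  let e' : ((C ⧸ Q) ⧸ q.map (Ideal.Quotient.mk Q)) ≃ₐ[(A ⧸ P) ⧸ p.map (Ideal.Quotient.mk P)] (C ⧸ q) :=
    AlgEquiv.ofRingEquiv (f := e₂) fun r => by
      obtain ⟨r, rfl⟩ := Ideal.Quotient.mk_surjective r
      obtain ⟨r, rfl⟩ := Ideal.Quotient.mk_surjective r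
      rfl
  exact e'.trdeg_eq

/-- Dimension of a point in its fibre read on an affine chart. -/
theorem exists_trdeg_quotient {X Y : Scheme.{u}} (f : X ⟶ Y) [LocallyOfFiniteType f]
    {W : Y.Opens} (hW : IsAffineOpen W) {V : X.Opens} (hV : IsAffineOpen V) (hVW : V ≤ f ⁻¹ᵁ W)
    (q : Spec Γ(X, V)) (p : Ideal Γ(Y, W))
    (hp : p = q.asIdeal.comap (f.appLE W V hVW).hom) :
    letI := (f.appLE W V hVW).hom.toAlgebra
    haveI : q.asIdeal.LiesOver p := ⟨hp⟩
    ∃ s : ℕ, cdim (f.asFiber (hV.fromSpec q)) = s ∧ Algebra.trdeg (Γ(Y, W) ⧸ p) (Γ(X, V) ⧸ q.asIdeal) = s := by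
  letI := (f.appLE W V hVW).hom.toAlgebra
  haveI : q.asIdeal.LiesOver p := ⟨hp⟩
  have hx : hV.fromSpec q ∈ V := show hV.fromSpec q ∈ (V : Set X) from hV.range_fromSpec ▸ Set.mem_range_self q
  obtain ⟨s, hs, hs'⟩ := H06Equidim.exists_trdeg_asFiber f (hV.fromSpec q)
  obtain ⟨h, htr⟩ := trdeg_residue_eq f hW hV hVW _ hx
  refine ⟨s, hs, ?_⟩
  have hq' : evKer V (hV.fromSpec q) hx = q.asIdeal := evKer_fromSpec hV q hx
  have hp' : evKer W (f (hV.fromSpec q)) (hVW hx) = p := by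
    rw [hp]
    ext r
    show Y.evaluation W (f _) (hVW hx) r = 0 ↔ f.appLE W V hVW r ∈ q.asIdeal
    rw [← hq']
    show _ ↔ X.evaluation V _ hx (f.appLE W V hVW r) = 0
    rw [← evaluation_appLE f hVW _ hx r]
    exact ((map_eq_zero_iff _ (f.residueFieldMap _).hom.injective)).symm
  rw [← exists_trdeg_quotient_aux p _ q.asIdeal _ hp' hq' h, ← htr]
  exact hs'

/-- If the images of all basic neighbourhoods of `q` contain a prime then `q` has a generization over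
it. -/
theorem exists_le_prime_over {A C : Type u} [CommRing A] [CommRing C] (f : A →+* C) (q : PrimeSpectrum C)
    (p' : PrimeSpectrum A)
    (h : ∀ s : C, s ∉ q.asIdeal → ∃ Q : PrimeSpectrum C, s ∉ Q.asIdeal ∧ PrimeSpectrum.comap f Q = p') :
    ∃ q', q' ≤ q ∧ PrimeSpectrum.comap f q' = p' := by
  letI := f.toAlgebra
  haveI := q.2
  haveI := p'.2
  let ι : C →+* p'.asIdeal.Fiber C :=
    (Algebra.TensorProduct.includeRight : C →ₐ[A] p'.asIdeal.Fiber C).toRingHom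
  let e := PrimeSpectrum.preimageEquivFiber A C p'
  have hsymm : ∀ a, ((e.symm a).1 : PrimeSpectrum C) = PrimeSpectrum.comap ι a := fun a => rfl
  have hdisj : Disjoint ((⊥ : Ideal (p'.asIdeal.Fiber C)) : Set (p'.asIdeal.Fiber C))
      (q.asIdeal.primeCompl.map ι.toMonoidHom : Set (p'.asIdeal.Fiber C)) := by
    rw [Set.disjoint_left]
    rintro _ rfl ⟨s, hs, hs0⟩
    obtain ⟨Q, hsQ, hQ⟩ := h s hs
    refine hsQ ?_
    have h1 : ι s ∈ (e ⟨Q, hQ⟩).asIdeal := by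
      rw [show ι s = 0 from hs0]; exact zero_mem _
    have h2 : PrimeSpectrum.comap ι (e ⟨Q, hQ⟩) = Q :=
      (hsymm _).symm.trans (congrArg Subtype.val (e.symm_apply_apply ⟨Q, hQ⟩))
    rw [← h2]
    exact h1
  obtain ⟨P, hP, -, hdis⟩ := Ideal.exists_le_prime_disjoint _ _ hdisj
  refine ⟨PrimeSpectrum.comap ι ⟨P, hP⟩, ?_, ?_⟩
  · intro s hs
    by_contra hsq
    exact Set.disjoint_left.mp hdis hs ⟨s, hsq, rfl⟩
  · rw [← hsymm]
    exact (e.symm ⟨P, hP⟩).2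

/-- Openness at a point lifts generizations. -/
theorem exists_specializes_of_isOpenAt {X Y : Scheme.{u}} (f : X ⟶ Y) (z : X)
    (h : EGA43.IsOpenAt f.base z) (w : Y) (hw : w ⤳ f z) : ∃ v, v ⤳ z ∧ f v = w := by
  obtain ⟨(W : Y.Opens), (hW : IsAffineOpen W), hzW, -⟩ := Opens.isBasis_iff_nbhd.mp Y.isBasis_affineOpens
    (show f z ∈ (⊤ : Y.Opens) from trivial)
  obtain ⟨(V : X.Opens), (hV : IsAffineOpen V), hzV, hVW⟩ := Opens.isBasis_iff_nbhd.mp X.isBasis_affineOpens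
    (show z ∈ f ⁻¹ᵁ W from hzW)
  obtain ⟨q, rfl⟩ : z ∈ Set.range hV.fromSpec := by rw [hV.range_fromSpec]; exact hzV
  have hsq : ∀ Q, hW.fromSpec (PrimeSpectrum.comap (f.appLE W V hVW).hom Q) = f (hV.fromSpec Q) := fun Q =>
    congrArg (fun φ : Spec Γ(X, V) ⟶ Y => φ Q) (IsAffineOpen.SpecMap_appLE_fromSpec f hW hV hVW)
  obtain ⟨p', rfl⟩ : w ∈ Set.range hW.fromSpec := by rw [hW.range_fromSpec]; exact hw.mem_open W.2 hzW
  obtain ⟨q', hle, hq'⟩ := exists_le_prime_over (f.appLE W V hVW).hom q p' (fun s hs => by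
    have hN : hV.fromSpec '' (PrimeSpectrum.basicOpen s : Set (PrimeSpectrum Γ(X, V))) ∈ 𝓝 (hV.fromSpec q) :=
      (hV.fromSpec.isOpenEmbedding.isOpenMap _ (PrimeSpectrum.basicOpen s).2).mem_nhds ⟨q, hs, rfl⟩
    obtain ⟨O, hO, hOopen, hzO⟩ := mem_nhds_iff.mp (h _ hN)
    obtain ⟨_, ⟨Q, hQ, rfl⟩, hQw⟩ := hO (hw.mem_open hOopen hzO)
    exact ⟨Q, hQ, hW.fromSpec.isEmbedding.injective ((hsq Q).trans hQw)⟩)
  exact ⟨hV.fromSpec q', ((PrimeSpectrum.le_iff_specializes q' q).mp hle).map hV.fromSpec.continuous,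
    (hsq q').symm.trans (congrArg hW.fromSpec hq')⟩

/-- Ring form: dominant component of large fibre dimension. -/
theorem exists_minimal_trdeg_le {A C : Type u} [CommRing A] [IsNoetherianRing A] [CommRing C] [Algebra A C]
    [Algebra.FiniteType A C] (q : PrimeSpectrum C) (p₀ : PrimeSpectrum A) (hp₀min : p₀.asIdeal ∈ minimalPrimes A)
    (hp₀p : p₀ ≤ PrimeSpectrum.comap (algebraMap A C) q)
    (hlift : ∀ p', p' ≤ PrimeSpectrum.comap (algebraMap A C) q →
      ∃ q', q' ≤ q ∧ PrimeSpectrum.comap (algebraMap A C) q' = p') :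
    ∃ Q : PrimeSpectrum C, Q ≤ q ∧ Q.asIdeal ∈ minimalPrimes C ∧ PrimeSpectrum.comap (algebraMap A C) Q = p₀ ∧
      ∀ (p : Ideal A) [q.asIdeal.LiesOver p] [Q.asIdeal.LiesOver p₀.asIdeal] (a b : ℕ),
        Algebra.trdeg (A ⧸ p) (C ⧸ q.asIdeal) = a → Algebra.trdeg (A ⧸ p₀.asIdeal) (C ⧸ Q.asIdeal) = b → a ≤ b := by
  haveI : IsNoetherianRing C := Algebra.FiniteType.isNoetherianRing A C
  haveI := p₀.2; haveI := q.2
  let φ := algebraMap A C
  let p := q.asIdeal.comap φ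
  let π := Ideal.Quotient.mk p₀.asIdeal
  haveI : (p.map π).IsPrime :=
    Ideal.map_isPrime_of_surjective Ideal.Quotient.mk_surjective (by rw [Ideal.mk_ker]; exact hp₀p)
  have hpc : (p.map π).comap π = p := by
    rw [Ideal.comap_map_of_surjective _ Ideal.Quotient.mk_surjective, ← RingHom.ker_eq_comap_bot, Ideal.mk_ker]
    exact sup_eq_left.2 hp₀p
  obtain ⟨n, hn⟩ := ENat.ne_top_iff_exists.mp (Ideal.height_ne_top_of_isPrime (I := p.map π))
  obtain ⟨l, hlast, hlen⟩ := Order.exists_series_of_le_height (⟨p.map π, inferInstance⟩ : PrimeSpectrum _)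
    (n := n) (le_of_eq (hn.trans (PrimeSpectrum.height_eq_orderHeight ⟨p.map π, inferInstance⟩)))
  let l' := l.map (PrimeSpectrum.comap π) fun a b hab => lt_of_le_of_ne (Ideal.comap_mono (show a.asIdeal ≤ b.asIdeal from hab.le))
    fun e => hab.ne (PrimeSpectrum.ext (Ideal.comap_injective_of_surjective π Ideal.Quotient.mk_surjective
      (congrArg PrimeSpectrum.asIdeal e)))
  have hhd : p₀ ≤ l'.head := fun x hx => by
    show π x ∈ l.head.asIdeal
    rw [show π x = 0 from Ideal.Quotient.eq_zero_iff_mem.mpr hx]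
    exact zero_mem _
  have hlast' : l'.last = PrimeSpectrum.comap φ q := by
    rw [LTSeries.last_map, hlast]
    exact PrimeSpectrum.ext hpc
  have hch : HasChain n p₀ (PrimeSpectrum.comap φ q) := by
    have h1 := hasChain_of_ltSeries n l' hlen
    rw [hlast'] at h1
    rcases n with _ | n
    · exact hhd.trans h1
    · obtain ⟨c, hc, h2⟩ := h1
      exact ⟨c, hhd.trans_lt hc, h2⟩
  obtain ⟨q', hq', hch'⟩ := exists_lift_chain φ q hlift n p₀ hch
  haveI := q'.2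
  obtain ⟨Q, hQ, hQle⟩ := Ideal.exists_minimalPrimes_le (I := (⊥ : Ideal C)) (J := q'.asIdeal) bot_le
  haveI : Q.IsPrime := hQ.1.1
  have hQp₀ : Q.comap φ = p₀.asIdeal := by
    have h1 : Q.comap φ ≤ p₀.asIdeal := (Ideal.comap_mono hQle).trans (congrArg PrimeSpectrum.asIdeal hq').le
    exact le_antisymm h1 (hp₀min.2 ⟨Ideal.IsPrime.comap _, bot_le⟩ h1)
  have hQq : Q ≤ q.asIdeal := hQle.trans (show q'.asIdeal ≤ q.asIdeal from hch'.le)
  refine ⟨⟨Q, hQ.1.1⟩, hQq, hQ, PrimeSpectrum.ext hQp₀, fun p₁ _ _ a b ha hb => ?_⟩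
  obtain rfl : p₁ = p := Ideal.LiesOver.over (p := p₁) (P := q.asIdeal)
  dsimp only at hb
  haveI : Q.LiesOver p₀.asIdeal := ⟨hQp₀.symm⟩
  obtain ⟨c, hc, hchd, hclast⟩ := (show HasChain n ⟨Q, hQ.1.1⟩ q from by
    rcases n with _ | n
    · exact hQq
    · obtain ⟨c, hc, h2⟩ := hch'
      exact ⟨c, lt_of_le_of_lt (show (⟨Q, hQ.1.1⟩ : PrimeSpectrum C) ≤ q' from hQle) hc, h2⟩).exists_ltSeries
  haveI : FaithfulSMul (A ⧸ p₀.asIdeal) (C ⧸ Q) := (faithfulSMul_iff_algebraMap_injective _ _).2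
    ((injective_iff_map_eq_zero _).2 fun r hr => by
      obtain ⟨r, rfl⟩ := Ideal.Quotient.mk_surjective r
      rw [Ideal.Quotient.eq_zero_iff_mem, Ideal.LiesOver.over (p := p₀.asIdeal) (P := Q)]
      exact (Ideal.Quotient.eq_zero_iff_mem (I := Q)).1 hr)
  haveI : Algebra.FiniteType (A ⧸ p₀.asIdeal) (C ⧸ Q) :=
    haveI : Algebra.FiniteType A (C ⧸ Q) :=
      Algebra.FiniteType.trans (R := A) (S := C) inferInstance inferInstance
    Algebra.FiniteType.of_restrictScalars_finiteType A _ _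
  let πQ := Ideal.Quotient.mk Q
  haveI : (q.asIdeal.map πQ).IsPrime :=
    Ideal.map_isPrime_of_surjective Ideal.Quotient.mk_surjective (by rwa [Ideal.mk_ker])
  have hqc : (q.asIdeal.map πQ).comap πQ = q.asIdeal := by
    rw [Ideal.comap_map_of_surjective _ Ideal.Quotient.mk_surjective, ← RingHom.ker_eq_comap_bot, Ideal.mk_ker]
    exact sup_eq_left.2 hQq
  haveI : (q.asIdeal.map πQ).LiesOver (p.map π) := ⟨by
    ext r
    obtain ⟨r, rfl⟩ := Ideal.Quotient.mk_surjective r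
    show r ∈ (p.map π).comap π ↔ φ r ∈ (q.asIdeal.map πQ).comap πQ
    rw [hpc, hqc]
    rfl⟩
  have hineq := H17.DimIneq.ineq (A ⧸ p₀.asIdeal) (C ⧸ Q) (p.map π) (q.asIdeal.map πQ)
  have hnh : (n : ℕ∞) ≤ (q.asIdeal.map πQ).height := by
    rw [PrimeSpectrum.height_eq_orderHeight ⟨q.asIdeal.map πQ, inferInstance⟩]
    have hge : ∀ i, Q ≤ (c i).asIdeal := fun i =>
      (show Q ≤ c.head.asIdeal by rw [hchd]).trans (c.head_le i)
    let c' : LTSeries (PrimeSpectrum (C ⧸ Q)) := LTSeries.mk c.length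
      (fun i => ⟨(c i).asIdeal.map πQ,
        haveI := (c i).2
        Ideal.map_isPrime_of_surjective Ideal.Quotient.mk_surjective (by rw [Ideal.mk_ker]; exact hge i)⟩)
      (fun i j hij => by
        refine lt_of_le_of_ne (Ideal.map_mono (c.strictMono hij).le) fun e => (c.strictMono hij).ne
          (PrimeSpectrum.ext ?_)
        have e' := congrArg (fun I : PrimeSpectrum (C ⧸ Q) => I.asIdeal.comap πQ) e
        simp only [πQ, Ideal.comap_map_of_surjective _ Ideal.Quotient.mk_surjective, ← RingHom.ker_eq_comap_bot,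
          Ideal.mk_ker] at e'
        rwa [sup_eq_left.2 (hge i), sup_eq_left.2 (hge j)] at e')
    refine le_trans (Nat.cast_le.mpr hc) (Order.length_le_height (p := c') (le_of_eq ?_))
    refine PrimeSpectrum.ext ?_
    show c.last.asIdeal.map πQ = _
    rw [hclast]
  rw [(trdeg_quotQuot p₀.asIdeal p Q q.asIdeal hp₀p hQq).trans ha, hb, ← hn] at hineq
  have h3 : ((n : ℕ∞) : Cardinal.{u}) + a ≤ ((n : ℕ∞) : Cardinal.{u}) + b :=
    le_trans (add_le_add (by exact_mod_cast hnh) le_rfl) hineq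
  have h4 : n + a ≤ n + b := by exact_mod_cast h3
  exact Nat.add_le_add_iff_left.mp h4

/-- If `f` is open at a point `z` maximal in its fibre, then over every component of the base through
the image there is a component through `z` whose generic fibre has at least the dimension of the
fibre at `z` (EGA IV 14.3.13). -/
theorem exists_generic_of_isOpenAt {X Y : Scheme.{u}} [IsLocallyNoetherian Y] (f : X ⟶ Y)
    [LocallyOfFiniteType f] (z : X) (hz : ∀ z' : X, f z' = f z → z' ⤳ z → z' = z)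
    (hopen : EGA43.IsOpenAt f.base z) (η₀ : Y) (hη₀ : η₀ ⤳ f z) (hmax₀ : ∀ w, w ⤳ η₀ → w = η₀) :
    ∃ η : X, η ⤳ z ∧ f η = η₀ ∧ (∀ ζ, ζ ⤳ η → ζ = η) ∧
      FlatMor.fibreDimAt f z ≤ cdim (f.asFiber η) := by
  obtain ⟨(W : Y.Opens), (hW : IsAffineOpen W), hzW, -⟩ := Opens.isBasis_iff_nbhd.mp Y.isBasis_affineOpens
    (show f z ∈ (⊤ : Y.Opens) from trivial)
  obtain ⟨(V : X.Opens), (hV : IsAffineOpen V), hzV, hVW⟩ := Opens.isBasis_iff_nbhd.mp X.isBasis_affineOpens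
    (show z ∈ f ⁻¹ᵁ W from hzW)
  obtain ⟨q, rfl⟩ : z ∈ Set.range hV.fromSpec := by rw [hV.range_fromSpec]; exact hzV
  obtain ⟨p₀, rfl⟩ : η₀ ∈ Set.range hW.fromSpec := by rw [hW.range_fromSpec]; exact hη₀.mem_open W.2 hzW
  letI := (f.appLE W V hVW).hom.toAlgebra
  haveI : Algebra.FiniteType Γ(Y, W) Γ(X, V) := f.finiteType_appLE hW hV hVW
  haveI : IsNoetherianRing Γ(Y, W) := IsLocallyNoetherian.component_noetherian ⟨W, hW⟩
  let φ := (f.appLE W V hVW).hom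
  have hsq : ∀ Q, hW.fromSpec (PrimeSpectrum.comap φ Q) = f (hV.fromSpec Q) := fun Q =>
    congrArg (fun φ : Spec Γ(X, V) ⟶ Y => φ Q) (IsAffineOpen.SpecMap_appLE_fromSpec f hW hV hVW)
  have hlift : ∀ p' : PrimeSpectrum Γ(Y, W), p' ≤ PrimeSpectrum.comap φ q →
      ∃ q' : PrimeSpectrum Γ(X, V), q'.asIdeal ≤ q.asIdeal ∧ PrimeSpectrum.comap φ q' = p' := by
    intro p' hp'
    obtain ⟨v, hv, hfv⟩ := exists_specializes_of_isOpenAt f _ hopen (hW.fromSpec p')
      (((PrimeSpectrum.le_iff_specializes _ _).mp hp').map hW.fromSpec.continuous |>.trans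
        (Inseparable.of_eq (hsq q)).specializes)
    obtain ⟨q', rfl⟩ : v ∈ Set.range hV.fromSpec := by rw [hV.range_fromSpec]; exact hv.mem_open V.2 hzV
    exact ⟨q', (PrimeSpectrum.le_iff_specializes q' q).mpr
        (hV.fromSpec.isEmbedding.isInducing.specializes_iff.mp hv),
      hW.fromSpec.isEmbedding.injective ((hsq q').trans hfv)⟩
  have hle : ∀ a b : PrimeSpectrum Γ(Y, W), hW.fromSpec a ⤳ hW.fromSpec b → a ≤ b := fun a b h =>
    (PrimeSpectrum.le_iff_specializes a b).mpr (hW.fromSpec.isEmbedding.isInducing.specializes_iff.mp h)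
  have hmin : p₀.asIdeal ∈ minimalPrimes Γ(Y, W) :=
    ⟨⟨p₀.2, bot_le⟩, fun J hJ hJle => (congrArg PrimeSpectrum.asIdeal (hW.fromSpec.isEmbedding.injective
      (hmax₀ (hW.fromSpec ⟨J, hJ.1⟩) (((PrimeSpectrum.le_iff_specializes (⟨J, hJ.1⟩ : PrimeSpectrum Γ(Y, W)) p₀).mp
        hJle).map hW.fromSpec.continuous)))).ge⟩
  obtain ⟨Q, hQq, hQmin, hQp₀, hineq⟩ := exists_minimal_trdeg_le (A := Γ(Y, W)) (C := Γ(X, V)) q p₀ hmin
    (hle p₀ (PrimeSpectrum.comap φ q) (hη₀.trans (Inseparable.of_eq (hsq q).symm).specializes)) hlift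
  refine ⟨hV.fromSpec Q, ((PrimeSpectrum.le_iff_specializes Q q).mp hQq).map hV.fromSpec.continuous,
    (hsq Q).symm.trans (congrArg hW.fromSpec hQp₀), fun ζ hζ => ?_, ?_⟩
  · obtain ⟨J, rfl⟩ : ζ ∈ Set.range hV.fromSpec := by
      rw [hV.range_fromSpec]
      exact hζ.mem_open V.2 (show hV.fromSpec Q ∈ (V : Set X) from hV.range_fromSpec ▸ Set.mem_range_self Q)
    have hJ : J.asIdeal ≤ Q.asIdeal :=
      (PrimeSpectrum.le_iff_specializes J Q).mpr (hV.fromSpec.isOpenEmbedding.isInducing.specializes_iff.mp hζ)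
    exact congrArg hV.fromSpec (PrimeSpectrum.ext (le_antisymm hJ (hQmin.2 ⟨J.2, bot_le⟩ hJ)))
  rw [← cdim_asFiber_eq_fibreDimAt_of_fibre f _ hz]
  haveI hl₁ : q.asIdeal.LiesOver (q.asIdeal.comap φ) := ⟨rfl⟩
  haveI hl₂ : Q.asIdeal.LiesOver p₀.asIdeal := ⟨(congrArg PrimeSpectrum.asIdeal hQp₀).symm⟩
  obtain ⟨a, ha, ha'⟩ := exists_trdeg_quotient f hW hV hVW q (q.asIdeal.comap φ) rfl
  obtain ⟨b, hb, hb'⟩ := exists_trdeg_quotient f hW hV hVW Q p₀.asIdeal (congrArg PrimeSpectrum.asIdeal hQp₀).symm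
  rw [ha, hb]
  exact_mod_cast hineq (q.asIdeal.comap φ) a b ha' hb'

end Groth.Agent.H06EGA14
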