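import Groth.Agent.H06EGA14.Chevalley
import Groth.Agent.H06EGA14.OpenDimScheme

/-!
# Lifting of geometric points from openness after finite base changes (EGA IV 14.4.9): algebra
-/

set_option autoImplicit false
set_option linter.style.haveILetI false
set_option backward.isDefEq.respectTransparency false
set_option maxHeartbeats 1000000
universe u

open CategoryTheory CategoryTheory.Limits AlgebraicGeometry TopologicalSpace Topology TensorProduct

namespace Groth.Agent.H06EGA14

open H8Props.FieldDim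

/-- A normal local domain is geometrically unibranch. -/
theorem isGeomUnibranch_of_isIntegrallyClosed (A : Type u) [CommRing A] [IsLocalRing A] [IsDomain A]
    [IsIntegrallyClosed A] : CAlg2.IsGeomUnibranch A := by
  have hn : nilradical A = ⊥ := nilradical_eq_zero A
  let e : A ≃+* CAlg2.red A :=
    ((RingEquiv.quotientBot A).symm).trans (Ideal.quotEquivOfEq hn.symm)
  haveI : IsDomain (CAlg2.red A) := e.symm.toMulEquiv.isDomain A
  haveI : IsLocalRing (CAlg2.red A) := e.isLocalRing
  haveI : IsIntegrallyClosed (CAlg2.red A) := IsIntegrallyClosed.of_equiv e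
  have hsurj : Function.Surjective (algebraMap (CAlg2.red A) (CAlg2.normRed A)) := by
    intro x
    obtain ⟨y, hy⟩ := IsIntegrallyClosed.isIntegral_iff.mp x.2
    exact ⟨y, Subtype.ext hy⟩
  refine ⟨⟨inferInstance, IsLocalRing.of_surjective' _ hsurj⟩, fun m' _ x => ⟨0, ?_⟩⟩
  obtain ⟨z, rfl⟩ := Ideal.Quotient.mk_surjective x
  obtain ⟨w, rfl⟩ := hsurj z
  obtain ⟨a, rfl⟩ := Ideal.Quotient.mk_surjective w
  rw [pow_zero, pow_one]
  exact ⟨a, rfl⟩

/-- An algebraically quasi-finite prime gives a quasi-finite point. -/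
theorem quasiFiniteAt_specMap_of_algebra {R S : CommRingCat.{u}} (φ : R ⟶ S) (x : Spec S)
    (h : letI := φ.hom.toAlgebra; haveI : x.asIdeal.IsPrime := x.2; Algebra.QuasiFiniteAt R x.asIdeal) :
    (Spec.map φ).QuasiFiniteAt x := by
  algebraize [φ.hom]
  haveI : x.asIdeal.IsPrime := x.2
  let := Localization.AtPrime.algebraOfLiesOver (x.asIdeal.under R) x.asIdeal
  haveI : Algebra.QuasiFinite R (Localization.AtPrime x.asIdeal) := h
  refine (RingHom.QuasiFinite.respectsIso.arrow_mk_iso_iff (Scheme.arrowStalkMapSpecIso φ x)).mpr ?_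
  show (algebraMap (Localization.AtPrime (x.asIdeal.under R)) (Localization.AtPrime x.asIdeal)).QuasiFinite
  rw [RingHom.quasiFinite_algebraMap]
  exact .of_restrictScalars R _ _

variable {A₀ C : Type u} [CommRing A₀] [CommRing C] [Algebra A₀ C]

/-- The extension of a map out of a polynomial algebra to a base change. -/
noncomputable def baseChangePoly (B : Type u) [CommRing B] [Algebra A₀ B] {σ : Type u}
    (γ : MvPolynomial σ A₀ →ₐ[A₀] C) : MvPolynomial σ B →ₐ[B] B ⊗[A₀] C :=
  MvPolynomial.aeval fun i => (1 : B) ⊗ₜ[A₀] γ (MvPolynomial.X i)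

theorem baseChangePoly_map (B : Type u) [CommRing B] [Algebra A₀ B] {σ : Type u}
    (γ : MvPolynomial σ A₀ →ₐ[A₀] C) (p : MvPolynomial σ A₀) :
    baseChangePoly B γ (MvPolynomial.map (algebraMap A₀ B) p) = (1 : B) ⊗ₜ[A₀] γ p := by
  have h : ((baseChangePoly B γ).toRingHom.comp (MvPolynomial.map (algebraMap A₀ B))) =
      (Algebra.TensorProduct.includeRight (R := A₀) (A := B) (B := C)).toRingHom.comp γ.toRingHom := by
    refine MvPolynomial.ringHom_ext (fun r => ?_) (fun i => ?_)
    · simp only [baseChangePoly, AlgHom.toRingHom_eq_coe, RingHom.coe_comp, RingHom.coe_coe, Function.comp_apply,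
        MvPolynomial.map_C, MvPolynomial.aeval_C]
      rw [show (MvPolynomial.C r : MvPolynomial σ A₀) = algebraMap A₀ _ r from rfl, γ.commutes,
        AlgHom.commutes, ← IsScalarTower.algebraMap_apply A₀ B (B ⊗[A₀] C)]
    · simp [baseChangePoly]
  exact RingHom.congr_fun h p

/-- Quasi-finiteness passes to an algebra generated by a base change. -/
theorem quasiFiniteAt_of_jointly_surjective {R S C T : Type u} [CommRing R] [CommRing S] [CommRing C] [CommRing T]
    [Algebra R S] [Algebra R C] [Algebra R T] [Algebra S T] [IsScalarTower R S T] (iR : C →ₐ[R] T)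
    (c : Ideal C) [c.IsPrime] [Algebra.QuasiFiniteAt R c] (Q : Ideal T) [Q.IsPrime] (hQ : c = Q.comap iR.toRingHom)
    (hgen : ∀ z, z ∈ Subring.closure (Set.range (algebraMap S T) ∪ Set.range iR)) :
    Algebra.QuasiFiniteAt S Q := by
  let g : S ⊗[R] C →ₐ[S] T := Algebra.TensorProduct.lift (Algebra.ofId S T) iR fun _ _ => .all _ _
  have hg : ∀ (p : S) (x : C), g (p ⊗ₜ x) = algebraMap S T p * iR x := fun p x =>
    Algebra.TensorProduct.lift_tmul _ _ _ p x
  have hs : Function.Surjective g := by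
    intro z
    suffices h : Subring.closure (Set.range (algebraMap S T) ∪ Set.range iR) ≤ g.toRingHom.range from h (hgen z)
    rw [Subring.closure_le]
    rintro _ (⟨p, rfl⟩ | ⟨x, rfl⟩)
    · exact ⟨p ⊗ₜ 1, (hg p 1).trans (by rw [map_one, mul_one])⟩
    · exact ⟨1 ⊗ₜ x, (hg 1 x).trans (by rw [map_one, one_mul])⟩
  haveI : (Q.comap g.toRingHom).IsPrime := Ideal.IsPrime.comap _
  haveI : Algebra.QuasiFiniteAt S (Q.comap g.toRingHom) := by
    refine Algebra.QuasiFiniteAt.baseChange c _ ?_
    rw [Ideal.comap_comap, hQ]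
    congr 1
    refine RingHom.ext fun x => ?_
    show iR x = g ((1 : S) ⊗ₜ x)
    rw [hg, map_one, one_mul]
  exact Algebra.QuasiFiniteAt.of_surjectiveOnStalks _ g (RingHom.surjectiveOnStalks_of_surjective hs) Q rfl

/-- Quasi-finiteness over a polynomial algebra is stable under base change. -/
theorem quasiFiniteAt_baseChangePoly (B : Type u) [CommRing B] [Algebra A₀ B] {σ : Type u}
    (γ : MvPolynomial σ A₀ →ₐ[A₀] C) (c : Ideal C) [c.IsPrime]
    (hqf : letI := γ.toRingHom.toAlgebra; Algebra.QuasiFiniteAt (MvPolynomial σ A₀) c)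
    (Q : Ideal (B ⊗[A₀] C)) [Q.IsPrime]
    (hQ : c = Q.comap (Algebra.TensorProduct.includeRight (R := A₀) (A := B) (B := C)).toRingHom) :
    letI := (baseChangePoly B γ).toRingHom.toAlgebra
    Algebra.QuasiFiniteAt (MvPolynomial σ B) Q := by
  letI := γ.toRingHom.toAlgebra
  letI := (baseChangePoly B γ).toRingHom.toAlgebra
  letI : Algebra (MvPolynomial σ A₀) (MvPolynomial σ B) := (MvPolynomial.map (algebraMap A₀ B)).toAlgebra
  letI : Algebra (MvPolynomial σ A₀) (B ⊗[A₀] C) :=
    ((baseChangePoly B γ).toRingHom.comp (MvPolynomial.map (algebraMap A₀ B))).toAlgebra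
  haveI : IsScalarTower (MvPolynomial σ A₀) (MvPolynomial σ B) (B ⊗[A₀] C) :=
    IsScalarTower.of_algebraMap_eq fun _ => rfl
  haveI := hqf
  let iR : C →ₐ[MvPolynomial σ A₀] B ⊗[A₀] C :=
    { (Algebra.TensorProduct.includeRight (R := A₀) (A := B) (B := C)).toRingHom with
      commutes' := fun p => (baseChangePoly_map B γ p).symm }
  refine quasiFiniteAt_of_jointly_surjective iR c Q hQ fun z => ?_
  induction z using TensorProduct.induction_on with
  | zero => exact zero_mem _
  | tmul b x =>
    have e : b ⊗ₜ[A₀] x = (baseChangePoly B γ).toRingHom (MvPolynomial.C b) * ((1 : B) ⊗ₜ[A₀] x) := by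
      show _ = baseChangePoly B γ (MvPolynomial.C b) * _
      rw [show baseChangePoly B γ (MvPolynomial.C b) = algebraMap B (B ⊗[A₀] C) b from MvPolynomial.aeval_C _ b,
        Algebra.TensorProduct.algebraMap_apply, Algebra.TensorProduct.tmul_mul_tmul]
      simp
    rw [e]
    exact mul_mem (Subring.subset_closure (Or.inl ⟨_, rfl⟩)) (Subring.subset_closure (Or.inr ⟨x, rfl⟩))
  | add z w hz hw => exact add_mem hz hw

/-- Over a finite base change where the map is open, a generization dominating the polynomial algebra. -/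
theorem exists_generization_stage [IsNoetherianRing A₀] [Algebra.FiniteType A₀ C] {σ : Type u} [Fintype σ]
    (γ : MvPolynomial σ A₀ →ₐ[A₀] C) (c : Ideal C) [c.IsPrime]
    (hqf : letI := γ.toRingHom.toAlgebra; Algebra.QuasiFiniteAt (MvPolynomial σ A₀) c)
    (hσ : ((Fintype.card σ : ℕ) : WithBot ℕ∞) ≤
      FlatMor.fibreDimAt (Spec.map (CommRingCat.ofHom (algebraMap A₀ C))) ⟨c, inferInstance⟩)
    (hmax : ∀ Q : Ideal C, Q.IsPrime → Q ≤ c → Q.comap (algebraMap A₀ C) = c.comap (algebraMap A₀ C) → Q = c)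
    (B : Type u) [CommRing B] [IsDomain B] [Algebra A₀ B] [Module.Finite A₀ B]
    (xB : Ideal (B ⊗[A₀] C)) [xB.IsPrime]
    (hx : c = xB.comap (Algebra.TensorProduct.includeRight (R := A₀) (A := B) (B := C)).toRingHom)
    (hopen : EGA43.IsOpenAt (Spec.map (CommRingCat.ofHom (algebraMap B (B ⊗[A₀] C)))).base ⟨xB, inferInstance⟩) :
    ∃ η : Ideal (B ⊗[A₀] C), η.IsPrime ∧ η ≤ xB ∧ η.comap (baseChangePoly B γ).toRingHom = ⊥ := by
  haveI : IsNoetherianRing B := IsNoetherianRing.of_finite A₀ B
  haveI : IsNoetherianRing (CommRingCat.of B) := inferInstanceAs (IsNoetherianRing B)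
  haveI : IsNoetherianRing (CommRingCat.of A₀) := inferInstanceAs (IsNoetherianRing A₀)
  haveI : Algebra.FiniteType B (B ⊗[A₀] C) := inferInstance
  let f := Spec.map (CommRingCat.ofHom (algebraMap B (B ⊗[A₀] C)))
  let φ := Spec.map (CommRingCat.ofHom (algebraMap A₀ C))
  let iR := (Algebra.TensorProduct.includeRight (R := A₀) (A := B) (B := C)).toRingHom
  haveI : LocallyOfFiniteType f := (HasRingHomProperty.Spec_iff (P := @LocallyOfFiniteType)).mpr
    (RingHom.finiteType_algebraMap.mpr inferInstance)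
  haveI : LocallyOfFiniteType φ := (HasRingHomProperty.Spec_iff (P := @LocallyOfFiniteType)).mpr
    (RingHom.finiteType_algebraMap.mpr inferInstance)
  let x : Spec (CommRingCat.of (B ⊗[A₀] C)) := ⟨xB, inferInstance⟩
  have hz : ∀ z, f z = f x → z ⤳ x → z = x := by
    intro z hzf hzx
    have hle : z.asIdeal ≤ xB := (PrimeSpectrum.le_iff_specializes z x).mpr hzx
    have hB : z.asIdeal.comap (algebraMap B (B ⊗[A₀] C)) = xB.comap (algebraMap B (B ⊗[A₀] C)) :=
      congrArg PrimeSpectrum.asIdeal hzf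
    haveI : z.asIdeal.IsPrime := z.2
    have hc : z.asIdeal.comap iR = c := by
      refine hmax _ (Ideal.IsPrime.comap _) (hx ▸ Ideal.comap_mono hle) ?_
      have e : iR.comp (algebraMap A₀ C) = (algebraMap B (B ⊗[A₀] C)).comp (algebraMap A₀ B) :=
        RingHom.ext fun a => ((Algebra.TensorProduct.includeRight (R := A₀) (A := B) (B := C)).commutes a).trans
          (IsScalarTower.algebraMap_apply A₀ B (B ⊗[A₀] C) a)
      rw [hx, Ideal.comap_comap, Ideal.comap_comap, e, ← Ideal.comap_comap, hB, Ideal.comap_comap]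
    by_contra hne
    letI : Algebra C (B ⊗[A₀] C) := Algebra.TensorProduct.rightAlgebra
    haveI : Module.Finite C (B ⊗[A₀] C) := Module.Finite.equiv
      (AlgEquiv.ofRingEquiv (f := (Algebra.TensorProduct.comm A₀ C B).toRingEquiv) (fun x => by
        simp [Algebra.TensorProduct.algebraMap_apply, Algebra.TensorProduct.right_algebraMap_apply])).toLinearEquiv
    haveI : Algebra.IsIntegral C (B ⊗[A₀] C) := Algebra.IsIntegral.of_finite C _
    have hlt := Ideal.IsIntegral.comap_lt_comap (R := C) (lt_of_le_of_ne hle fun e => hne (PrimeSpectrum.ext e))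
    exact hlt.ne (hc.trans hx)
  obtain ⟨η, hηx, hfη, -, hdim⟩ := exists_generic_of_isOpenAt f x hz hopen ⟨⊥, Ideal.isPrime_bot⟩
    ((PrimeSpectrum.le_iff_specializes _ _).mp bot_le)
    (fun w hw => PrimeSpectrum.ext (le_bot_iff.mp ((PrimeSpectrum.le_iff_specializes w _).mpr hw)))
  refine ⟨η.asIdeal, η.2, (PrimeSpectrum.le_iff_specializes η x).mpr hηx, ?_⟩
  have hfd : FlatMor.fibreDimAt f x = FlatMor.fibreDimAt φ ⟨c, inferInstance⟩ := by
    have sq : IsPullback (Spec.map (CommRingCat.ofHom iR)) f φ (Spec.map (CommRingCat.ofHom (algebraMap A₀ B))) :=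
      (isPullback_SpecMap_of_isPushout _ _ _ _ (CommRingCat.isPushout_tensorProduct A₀ B C)).flip
    rw [fibreDimAt_baseChange φ sq]
    exact congrArg _ (PrimeSpectrum.ext hx.symm)
  let γB := baseChangePoly B γ
  let G := Spec.map (CommRingCat.ofHom γB.toRingHom)
  let π := Spec.map (CommRingCat.ofHom (algebraMap B (MvPolynomial σ B)))
  haveI : LocallyOfFiniteType π := (HasRingHomProperty.Spec_iff (P := @LocallyOfFiniteType)).mpr
    (RingHom.finiteType_algebraMap.mpr inferInstance)
  have hGπ : G ≫ π = f := by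
    rw [← Spec.map_comp, ← CommRingCat.ofHom_comp, AlgHom.toRingHom_eq_coe, γB.comp_algebraMap]
  haveI : LocallyOfFiniteType G :=
    haveI : LocallyOfFiniteType (G ≫ π) := hGπ ▸ inferInstance
    locallyOfFiniteType_of_comp G π
  have hqB : G.QuasiFiniteAt η := by
    letI := γB.toRingHom.toAlgebra
    haveI : η.asIdeal.IsPrime := η.2
    haveI := quasiFiniteAt_baseChangePoly B γ c hqf xB hx
    have hle : η.asIdeal ≤ xB := (PrimeSpectrum.le_iff_specializes η x).mpr hηx
    haveI : Algebra.QuasiFiniteAt (MvPolynomial σ B) η.asIdeal :=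
      Algebra.QuasiFiniteAt.of_le (P := η.asIdeal) (Q := xB) hle
    exact quasiFiniteAt_specMap_of_algebra (CommRingCat.ofHom γB.toRingHom) η ‹_›
  have hcd : cdim (π.asFiber (G η)) = FlatMor.fibreDimAt π (G η) := by
    refine le_antisymm (H06Equidim.cdim_asFiber_le_fibreDimAt π _) ?_
    rw [(affineSpace_fibre σ (G η)).1]
    obtain ⟨a, ha, -⟩ := H06Equidim.exists_trdeg_asFiber f η
    have h1 : cdim ((G ≫ π).asFiber η) = (a : WithBot ℕ∞) := by rw [hGπ]; exact ha
    rw [H06Equidim.cdim_asFiber_comp] at h1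
    refine le_trans ?_ (le_trans h1.ge ((add_le_add ((H06Equidim.cdim_asFiber_le_fibreDimAt G η).trans
      (fibreDimAt_le_zero_of_quasiFiniteAt G hqB)) le_rfl).trans (zero_add _).le))
    exact (hσ.trans hfd.ge).trans (hdim.trans ha.le)
  have hgen : (⟨⊥, Ideal.isPrime_bot⟩ : Spec (CommRingCat.of (MvPolynomial σ B))) = G η := by
    refine H06Equidim.eq_of_specializes_of_cdim_eq π (G η) hcd _
      ((PrimeSpectrum.le_iff_specializes _ _).mp bot_le) ?_
    rw [← Scheme.Hom.comp_apply, hGπ, hfη]
    refine PrimeSpectrum.ext ?_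
    exact Ideal.comap_bot_of_injective _ (MvPolynomial.C_injective σ B)
  exact (congrArg PrimeSpectrum.asIdeal hgen).symm

end Groth.Agent.H06EGA14
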