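import Groth.Agent.H06EGA14.OpenDimScheme

/-!
# Dimensions of traces of closed and open sets on fibres
-/

set_option autoImplicit false
set_option linter.style.haveILetI false
set_option backward.isDefEq.respectTransparency false
universe u

open CategoryTheory CategoryTheory.Limits AlgebraicGeometry TopologicalSpace Topology

namespace Groth.Agent.H06EGA14

open H8Props.FieldDim

variable {X Y : Scheme.{u}} (f : X ⟶ Y)

/-- The trace of the closure of a point on its fibre. -/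
theorem dim_inter_eq_cdim (η : X) {y : Y} (hy : f η = y) :
    topologicalKrullDim ↥(closure ({η} : Set X) ∩ f ⁻¹' {y}) = cdim (f.asFiber η) := by
  subst hy
  rw [H17.DimIneq.cdim_eq_dim_inter, f.fiberι_asFiber]

theorem cdim_le_dim_inter [LocallyOfFiniteType f] (U : X.Opens) (v : X) (hv : v ∈ U) {y : Y} (hy : f v = y) :
    cdim (f.asFiber v) ≤ topologicalKrullDim ↥((U : Set X) ∩ f ⁻¹' {y}) := by
  subst hy
  haveI := locallyOfFiniteType_fiberToSpec f (f v)
  obtain ⟨(V : (f.fiber (f v)).Opens), (hV : IsAffineOpen V), hvV, hVU⟩ :=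
    Opens.isBasis_iff_nbhd.mp (f.fiber (f v)).isBasis_affineOpens
      (show f.asFiber v ∈ (f.fiberι (f v)) ⁻¹ᵁ U by
        show f.fiberι (f v) (f.asFiber v) ∈ U
        rw [f.fiberι_asFiber]; exact hv)
  rw [cdim_eq_inter (k := Y.residueField (f v)) (f.fiberToSpecResidueField (f v)) _ hV hvV]
  refine (dim_mono (T := (f.fiberι (f v)) ⁻¹' (U : Set X)) (Set.inter_subset_right.trans hVU)).trans ?_
  rw [dim_preimage (f.fiberι (f v)).isEmbedding, f.range_fiberι]

theorem exists_cdim_eq_of_dim_inter [LocallyOfFiniteType f] (U : X.Opens) (y : Y) (n : ℕ)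
    (h : (n : WithBot ℕ∞) ≤ topologicalKrullDim ↥((U : Set X) ∩ f ⁻¹' {y})) :
    ∃ v ∈ U, f v = y ∧ (n : WithBot ℕ∞) ≤ cdim (f.asFiber v) := by
  haveI := locallyOfFiniteType_fiberToSpec f y
  let V : (f.fiber y).Opens := (f.fiberι y) ⁻¹ᵁ U
  rw [← f.range_fiberι, ← dim_preimage (f.fiberι y).isEmbedding] at h
  haveI : QuasiSober (V : Set (f.fiber y)) := V.2.isOpenEmbedding_subtypeVal.quasiSober
  have h1 : (n : WithBot ℕ∞) ≤ topologicalKrullDim (V : Set (f.fiber y)) := h
  rw [dim_eq_iSup_cdim (X := (V : Set (f.fiber y)))] at h1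
  by_contra hcon
  push Not at hcon
  have h2 : ∀ w : (V : Set (f.fiber y)), cdim w < (n : WithBot ℕ∞) := fun w => by
    have hw : f (f.fiberι y w.1) = y := (f.range_fiberι y).subset (Set.mem_range_self _)
    refine lt_of_le_of_lt ?_ (hcon _ w.2 hw)
    rw [← dim_inter_eq_cdim f _ hw, ← H17.DimIneq.cdim_eq_dim_inter]
    show topologicalKrullDim _ ≤ topologicalKrullDim _
    rw [IsEmbedding.subtypeVal.closure_eq_preimage_closure_image, Set.image_singleton,
      dim_preimage IsEmbedding.subtypeVal]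
    exact dim_mono Set.inter_subset_left
  rcases n with _ | n
  · obtain ⟨w, hw⟩ : ∃ w : (V : Set (f.fiber y)), True := by
      by_contra hne
      haveI : IsEmpty (V : Set (f.fiber y)) := ⟨fun w => hne ⟨w, trivial⟩⟩
      rw [iSup_of_empty] at h1
      exact absurd h1 (by simp)
    refine (h2 w).not_ge ?_
    haveI : Nonempty (IrreducibleCloseds ↥(closure ({w} : Set ↥(V : Set (f.fiber y))))) :=
      ⟨⟨closure {⟨w, subset_closure rfl⟩}, isIrreducible_singleton.closure, isClosed_closure⟩⟩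
    show ((0 : ℕ) : WithBot ℕ∞) ≤ cdim w
    exact (le_of_eq (by simp)).trans Order.krullDim_nonneg
  · have h3 : (⨆ w : (V : Set (f.fiber y)), cdim w) ≤ (n : ℕ) := iSup_le fun w => by
      have := h2 w
      rcases hc : cdim w with _ | c
      · exact bot_le
      · rw [hc] at this
        have h4 : (c : ℕ∞) < ((n + 1 : ℕ) : ℕ∞) := WithBot.coe_lt_coe.mp this
        refine WithBot.coe_le_coe.mpr ?_
        induction c using ENat.recTopCoe with
        | top => exact absurd h4 (not_top_lt)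
        | coe c => exact Nat.cast_le.mpr (Nat.lt_succ_iff.mp (Nat.cast_lt.mp h4))
    have := h1.trans h3
    norm_cast at this
    omega

theorem localDim_inter_le [LocallyOfFiniteType f] (x : X) {Z : Set X} (hx : x ∈ Z ∩ f ⁻¹' {f x}) :
    FlatMor.localDim ↥(Z ∩ f ⁻¹' {f x}) ⟨x, hx⟩ ≤ FlatMor.fibreDimAt f x := by
  set k := f.fiberι (f x)
  have hkx : k (f.asFiber x) = x := f.fiberι_asFiber x
  haveI : Nonempty {U : Opens (f.fiber (f x)) // f.asFiber x ∈ U} := ⟨⟨⊤, trivial⟩⟩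
  obtain ⟨⟨U, hxU⟩, hU⟩ : ∃ U : {U : Opens (f.fiber (f x)) // f.asFiber x ∈ U},
      topologicalKrullDim (U.1 : Set (f.fiber (f x))) = FlatMor.localDim (f.fiber (f x)) (f.asFiber x) :=
    ciInf_mem _
  obtain ⟨U'', hU'', hpre⟩ := k.isEmbedding.isInducing.isOpen_iff.mp U.2
  refine (iInf_le_of_le ⟨⟨Subtype.val ⁻¹' U'', hU''.preimage continuous_subtype_val⟩,
    show x ∈ U'' by rw [← hkx]; exact hpre.ge hxU⟩ le_rfl).trans ?_
  show topologicalKrullDim (Subtype.val ⁻¹' U'' : Set ↥(Z ∩ f ⁻¹' {f x})) ≤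
    FlatMor.localDim (f.fiber (f x)) (f.asFiber x)
  rw [dim_preimage IsEmbedding.subtypeVal, ← hU, show (U : Set (f.fiber (f x))) = k ⁻¹' U'' from hpre.symm,
    dim_preimage k.isEmbedding, f.range_fiberι, Subtype.range_coe]
  exact dim_mono fun z hz => ⟨hz.1, hz.2.2⟩

theorem cdim_le_localDim_inter [LocallyOfFiniteType f] (x ξ : X) (hξ : ξ ⤳ x) (hf : f ξ = f x)
    {Z : Set X} (hZ : IsClosed Z) (hξZ : ξ ∈ Z) (hx : x ∈ Z ∩ f ⁻¹' {f x}) :
    cdim (f.asFiber ξ) ≤ FlatMor.localDim ↥(Z ∩ f ⁻¹' {f x}) ⟨x, hx⟩ := by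
  haveI := locallyOfFiniteType_fiberToSpec f (f x)
  set k := f.fiberι (f x)
  obtain ⟨u, hu⟩ : ξ ∈ Set.range k := by rw [f.range_fiberι]; exact hf
  have hcd : cdim u = cdim (f.asFiber ξ) := by
    rw [H17.DimIneq.cdim_eq_dim_inter, hu, dim_inter_eq_cdim f ξ hf]
  refine le_iInf fun U => ?_
  obtain ⟨U', hU', hpre⟩ := isOpen_induced_iff.mp U.1.2
  obtain ⟨(V : (f.fiber (f x)).Opens), (hV : IsAffineOpen V), hvV, hVU⟩ :=
    Opens.isBasis_iff_nbhd.mp (f.fiber (f x)).isBasis_affineOpens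
      (show u ∈ k ⁻¹ᵁ ⟨U', hU'⟩ by
        show k u ∈ U'
        rw [hu]; exact hξ.mem_open hU' (hpre.ge U.2))
  rw [← hcd, cdim_eq_inter (k := Y.residueField (f x)) (f.fiberToSpecResidueField (f x)) _ hV hvV,
    show (U.1 : Set ↥(Z ∩ f ⁻¹' {f x})) = Subtype.val ⁻¹' U' from hpre.symm,
    dim_preimage IsEmbedding.subtypeVal, Subtype.range_coe]
  refine (dim_mono (T := k ⁻¹' (U' ∩ (Z ∩ f ⁻¹' {f x}))) ?_).trans ?_
  · rintro w ⟨hwc, hwV⟩
    refine ⟨hVU hwV, ?_, (f.range_fiberι (f x)).subset (Set.mem_range_self w)⟩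
    refine hZ.closure_subset_iff.mpr (Set.singleton_subset_iff.mpr hξZ) ?_
    have h5 := ((specializes_iff_mem_closure.mpr hwc).map k.continuous).mem_closure
    rwa [hu] at h5
  · rw [dim_preimage k.isEmbedding]
    exact dim_mono Set.inter_subset_left

/-- Local dimension of a closed set's trace on the fibre at a maximal point of the fibre. -/
theorem localDim_inter_eq [LocallyOfFiniteType f] (x : X)
    (hmax : ∀ x' : X, f x' = f x → x' ⤳ x → x' = x) {Z : Set X} (hZ : IsClosed Z)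
    (hx : x ∈ Z ∩ f ⁻¹' {f x}) :
    FlatMor.localDim ↥(Z ∩ f ⁻¹' {f x}) ⟨x, hx⟩ = cdim (f.asFiber x) :=
  le_antisymm ((localDim_inter_le f x hx).trans (cdim_asFiber_eq_fibreDimAt_of_fibre f x hmax).ge)
    (cdim_le_localDim_inter f x x specializes_rfl rfl hZ hx.1 hx)

theorem le_of_forall_nat_le {a b : WithBot ℕ∞} (h : ∀ n : ℕ, (n : WithBot ℕ∞) ≤ a → (n : WithBot ℕ∞) ≤ b) :
    a ≤ b := by
  induction a using WithBot.recBotCoe with
  | bot => exact bot_le
  | coe a =>
    induction b using WithBot.recBotCoe with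
    | bot => exact absurd (h 0 (WithBot.coe_le_coe.mpr bot_le)) (WithBot.not_coe_le_bot _)
    | coe b =>
      refine WithBot.coe_le_coe.mpr (ENat.forall_natCast_le_iff_le.mp fun n hn => ?_)
      exact WithBot.coe_le_coe.mp (h n (WithBot.coe_le_coe.mpr hn))

/-- Every irreducible component is the closure of a maximal point. -/
theorem exists_eq_closure_singleton {Z : Set X} (hZ : Z ∈ irreducibleComponents X) :
    ∃ η : X, Z = closure {η} ∧ ∀ ζ, ζ ⤳ η → ζ = η := by
  obtain ⟨η, he, hη⟩ := mem_irreducibleComponents_iff hZ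
  exact ⟨η, he, hη⟩

theorem eq_of_closure_singleton_eq {a b : Y} (h : closure ({a} : Set Y) = closure {b}) : a = b :=
  (show IsGenericPoint a (closure {b}) from h).eq rfl

end Groth.Agent.H06EGA14
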