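import Groth.Agent.H06EGA14.MaximalPoint
import Groth.Agent.H06EGA14.FibreDims
import Groth.Agent.H8Props.FibreGeneric
import Groth.Agent.H18HTop.VCover

/-!
Fibre dimensions along generizations over valuation rings.
-/

open CategoryTheory CategoryTheory.Limits AlgebraicGeometry TopologicalSpace Topology MvPolynomial

universe u

namespace Groth.Agent.H06EGA14

open Groth.Agent.H8Props.FieldDim Groth.Agent.H06Equidim

/-- Residues algebraically independent at the closed point stay so at the generic point. -/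
theorem trdeg_quotient_mono {A C : Type u} [CommRing A] [IsDomain A] [ValuationRing A] [CommRing C] [Algebra A C]
    (p : Ideal A) [p.IsPrime] (q qv : Ideal C) [q.IsPrime] [qv.IsPrime] [q.LiesOver p] [qv.LiesOver (⊥ : Ideal A)]
    (hle : qv ≤ q) :
    Algebra.trdeg (A ⧸ p) (C ⧸ q) ≤ Algebra.trdeg (A ⧸ (⊥ : Ideal A)) (C ⧸ qv) := by
  haveI : FaithfulSMul (A ⧸ p) (C ⧸ q) := (faithfulSMul_iff_algebraMap_injective _ _).2
    ((injective_iff_map_eq_zero _).mpr fun a ha => by
      obtain ⟨a, rfl⟩ := Ideal.Quotient.mk_surjective a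
      rw [Ideal.Quotient.algebraMap_mk_of_liesOver, Ideal.Quotient.eq_zero_iff_mem, ← Ideal.mem_of_liesOver q p] at ha
      exact Ideal.Quotient.eq_zero_iff_mem.mpr ha)
  obtain ⟨s, hs⟩ := exists_isTranscendenceBasis (A ⧸ p) (C ⧸ q)
  rw [← hs.cardinalMk_eq_trdeg]
  choose t ht using fun i : s => Ideal.Quotient.mk_surjective (I := q) (i : C ⧸ q)
  refine AlgebraicIndependent.cardinalMk_le_trdeg (x := fun i => Ideal.Quotient.mk qv (t i)) ?_
  rw [algebraicIndependent_iff]
  intro P hP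
  obtain ⟨P, rfl⟩ := map_surjective (Ideal.Quotient.mk (⊥ : Ideal A)) Ideal.Quotient.mk_surjective P
  rcases H8Props.FibreGeneric.exists_primitive P with rfl | ⟨c, g, rfl, m, hm⟩
  · exact map_zero _
  by_cases hc : c = 0
  · simp [hc]
  exfalso
  have hev : ∀ (P : MvPolynomial s A), aeval (fun i => Ideal.Quotient.mk qv (t i)) (map (Ideal.Quotient.mk (⊥ : Ideal A)) P) =
      Ideal.Quotient.mk qv (aeval t P) := fun P => by
    induction P using MvPolynomial.induction_on with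
    | C a => simp [Ideal.Quotient.algebraMap_mk_of_liesOver]
    | add p r hp hr => simp only [map_add, hp, hr]
    | mul_X p i hp => simp only [map_mul, map_X, aeval_X, hp]
  have hev' : ∀ (P : MvPolynomial s A), aeval (fun i : s => (i : C ⧸ q)) (map (Ideal.Quotient.mk p) P) =
      Ideal.Quotient.mk q (aeval t P) := fun P => by
    induction P using MvPolynomial.induction_on with
    | C a => simp [Ideal.Quotient.algebraMap_mk_of_liesOver]
    | add p r hp hr => simp only [map_add, hp, hr]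
    | mul_X p i hp => simp only [map_mul, map_X, aeval_X, hp, ht]
  rw [hev, Ideal.Quotient.eq_zero_iff_mem, map_mul, aeval_C] at hP
  have hg : aeval t g ∈ qv := by
    refine ((‹qv.IsPrime›).mem_or_mem hP).resolve_left fun hcq => hc ?_
    have h1 : c ∈ (⊥ : Ideal A) := (Ideal.mem_of_liesOver qv (⊥ : Ideal A) c).mpr hcq
    simpa using h1
  have h0 : map (Ideal.Quotient.mk p) g = 0 :=
    algebraicIndependent_iff.mp hs.1 _ (by rw [hev', Ideal.Quotient.eq_zero_iff_mem.mpr (hle hg)])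
  have h1 := congrArg (coeff m) h0
  rw [coeff_map, hm, coeff_zero, map_one] at h1
  exact one_ne_zero h1

variable {A : CommRingCat.{u}} [IsDomain A] [ValuationRing A]

set_option backward.isDefEq.respectTransparency false in
/-- Over a valuation ring a generization over the generic point has at least the fibre dimension. -/
theorem cdim_asFiber_le_of_valuationRing {X : Scheme.{u}} (f : X ⟶ Spec A) [LocallyOfFiniteType f] (x v : X)
    (hv : v ⤳ x) (hfv : f v = (⊥ : PrimeSpectrum A)) : cdim (f.asFiber x) ≤ cdim (f.asFiber v) := by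
  obtain ⟨(V : X.Opens), (hV : IsAffineOpen V), hxV, -⟩ := Opens.isBasis_iff_nbhd.mp X.isBasis_affineOpens
    (show x ∈ (⊤ : X.Opens) from trivial)
  have hW : IsAffineOpen (⊤ : (Spec A).Opens) := isAffineOpen_top _
  obtain ⟨q, rfl⟩ : x ∈ Set.range hV.fromSpec := by rw [hV.range_fromSpec]; exact hxV
  obtain ⟨qv, rfl⟩ : v ∈ Set.range hV.fromSpec := by rw [hV.range_fromSpec]; exact hv.mem_open V.2 hxV
  have hle : qv.asIdeal ≤ q.asIdeal :=
    (PrimeSpectrum.le_iff_specializes qv q).mpr (hV.fromSpec.isEmbedding.isInducing.specializes_iff.mp hv)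
  let e : A ≅ Γ(Spec A, ⊤) := (Scheme.ΓSpecIso A).symm
  haveI : IsDomain Γ(Spec A, ⊤) := e.commRingCatIsoToRingEquiv.symm.toMulEquiv.isDomain A
  haveI : ValuationRing Γ(Spec A, ⊤) := e.commRingCatIsoToRingEquiv.surjective.valuationRing e.commRingCatIsoToRingEquiv.toRingHom
  letI := (f.appLE ⊤ V (by simp)).hom.toAlgebra
  have hbot : qv.asIdeal.comap (f.appLE ⊤ V (by simp)).hom = ⊥ := by
    have hsq : Spec.map (f.appLE ⊤ V (by simp)) ≫ hW.fromSpec = hV.fromSpec ≫ f :=
      IsAffineOpen.SpecMap_appLE_fromSpec f hW hV _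
    have h1 : hW.fromSpec (Spec.map (f.appLE ⊤ V (by simp)) qv) = (⊥ : PrimeSpectrum A) := by
      rw [← Scheme.Hom.comp_apply, hsq, Scheme.Hom.comp_apply, hfv]
    have h2 : ∀ w : PrimeSpectrum Γ(Spec A, ⊤), hW.fromSpec w = (⊥ : PrimeSpectrum A) → w.asIdeal = ⊥ := by
      intro w hw
      let b : PrimeSpectrum Γ(Spec A, ⊤) := ⟨⊥, Ideal.isPrime_bot⟩
      have hb : hW.fromSpec b ⤳ (⊥ : PrimeSpectrum A) :=
        hw ▸ ((PrimeSpectrum.le_iff_specializes b w).mp (show (⊥ : Ideal _) ≤ w.asIdeal from bot_le)).map hW.fromSpec.continuous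
      have hb' : hW.fromSpec b = (⊥ : PrimeSpectrum A) :=
        PrimeSpectrum.ext (le_bot_iff.mp ((PrimeSpectrum.le_iff_specializes _ _).mpr hb))
      rw [hW.fromSpec.isEmbedding.injective (hw.trans hb'.symm)]
    exact h2 _ h1
  obtain ⟨s, hs, hs'⟩ := exists_trdeg_quotient f hW hV (by simp) q _ rfl
  obtain ⟨r, hr, hr'⟩ := exists_trdeg_quotient f hW hV (by simp) qv ⊥ hbot.symm
  rw [hs, hr]
  haveI := q.2; haveI := qv.2
  haveI : q.asIdeal.LiesOver (q.asIdeal.comap (f.appLE ⊤ V (by simp)).hom) := ⟨rfl⟩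
  haveI : qv.asIdeal.LiesOver (⊥ : Ideal Γ(Spec A, ⊤)) := ⟨hbot.symm⟩
  have h := trdeg_quotient_mono (q.asIdeal.comap (f.appLE ⊤ V _).hom) q.asIdeal qv.asIdeal hle
  rw [hs', hr'] at h
  exact_mod_cast h

set_option backward.isDefEq.respectTransparency false in
/-- Universal openness at a maximal point of the fibre bounds fibre dimensions of nearby generizations. -/
theorem le_dim_inter_of_isUnivOpenAt' {X Y : Scheme.{u}} (f : X ⟶ Y) [LocallyOfFiniteType f] (x : X)
    (hmax : ∀ x' : X, f x' = f x → x' ⤳ x → x' = x) (h : EGA43.IsUnivOpenAt f x) (U : X.Opens) (hxU : x ∈ U)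
    (y' : Y) (hy' : y' ⤳ f x) :
    FlatMor.fibreDimAt f x ≤ topologicalKrullDim ↥((U : Set X) ∩ f ⁻¹' {y'}) := by
  obtain ⟨V, hV1, hV2, g, hg1, hg2⟩ := H18HTop.exists_valuation_of_specializes hy'
  haveI := hV1; haveI := hV2
  have hP := IsPullback.of_hasPullback f g
  obtain ⟨p, hp1, hp2⟩ := Scheme.exists_preimage_of_isPullback hP x (IsLocalRing.closedPoint V) hg2.symm
  obtain ⟨ξ, hξ, hξp, -, hξd⟩ := exists_maximal_generization (pullback.snd f g) p
  have hfx : pullback.fst f g ξ = x := by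
    refine hmax _ ?_ (hp1 ▸ hξ.map (pullback.fst f g).continuous)
    rw [← Scheme.Hom.comp_apply, pullback.condition, Scheme.Hom.comp_apply, hξp, hp2, hg2]
  have hbot : (⊥ : PrimeSpectrum V) ⤳ pullback.snd f g ξ := (PrimeSpectrum.le_iff_specializes _ _).mp bot_le
  obtain ⟨v, hv, hvb⟩ := exists_specializes_of_isOpenAt (pullback.snd f g) ξ (h (Spec V) g ξ hfx) _ hbot
  obtain ⟨v₀, hv₀, hv₀f, -, hv₀d⟩ := exists_maximal_generization f (pullback.fst f g v)
  have hfv : f (pullback.fst f g v) = y' := by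
    rw [← Scheme.Hom.comp_apply, pullback.condition, Scheme.Hom.comp_apply, hvb, hg1]
  have hv₀x : v₀ ⤳ x := hv₀.trans (hfx ▸ hv.map (pullback.fst f g).continuous)
  rw [← hp1, ← fibreDimAt_baseChange f hP p, ← hξd]
  refine ((cdim_asFiber_le_of_valuationRing (pullback.snd f g) ξ v hv hvb).trans
    (cdim_asFiber_le_fibreDimAt _ v)).trans ?_
  rw [fibreDimAt_baseChange f hP v, ← hv₀d]
  exact cdim_le_dim_inter f U v₀ (hv₀x.mem_open U.2 hxU) (hv₀f.trans hfv)

set_option backward.isDefEq.respectTransparency false in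
/-- Lower bounds on generic fibre dimensions give a component through the point. -/
theorem exists_generic_of_le_dim_inter' {X Y : Scheme.{u}} (f : X ⟶ Y) [LocallyOfFiniteType f] (x : X) (η₀ : Y)
    (hmax₀ : ∀ w, w ⤳ η₀ → w = η₀)
    (h : ∀ U : X.Opens, x ∈ U → FlatMor.fibreDimAt f x ≤ topologicalKrullDim ↥((U : Set X) ∩ f ⁻¹' {η₀}))
    (hmax : ∀ x' : X, f x' = f x → x' ⤳ x → x' = x) :
    ∃ η : X, η ⤳ x ∧ f η = η₀ ∧ (∀ ζ, ζ ⤳ η → ζ = η) ∧ cdim (f.asFiber η) = FlatMor.fibreDimAt f x := by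
  obtain ⟨s, hs, -⟩ := H06Equidim.exists_trdeg_asFiber f x
  have he : FlatMor.fibreDimAt f x = (s : ℕ) := (cdim_asFiber_eq_fibreDimAt_of_fibre f x hmax).symm.trans hs
  haveI := locallyOfFiniteType_fiberToSpec f η₀
  haveI : IsLocallyNoetherian (f.fiber η₀) := LocallyOfFiniteType.isLocallyNoetherian (f.fiberToSpecResidueField η₀)
  obtain ⟨(V : X.Opens), (hV : IsAffineOpen V), hxV, -⟩ := Opens.isBasis_iff_nbhd.mp X.isBasis_affineOpens
    (show x ∈ (⊤ : X.Opens) from trivial)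
  let k := f.fiberι η₀
  haveI : QuasiCompact (Y.fromSpecResidueField η₀) := ⟨fun U _ _ => Set.subsingleton_of_subsingleton.isCompact⟩
  haveI : QuasiCompact k := MorphismProperty.pullback_fst _ _ inferInstance
  have hc : IsCompact ((k ⁻¹ᵁ V : (f.fiber η₀).Opens) : Set (f.fiber η₀)) := k.isCompact_preimage hV.isCompact
  haveI : CompactSpace (k ⁻¹ᵁ V).toScheme := isCompact_iff_compactSpace.mp hc
  haveI : IsLocallyNoetherian (k ⁻¹ᵁ V).toScheme := isLocallyNoetherian_of_isOpenImmersion (k ⁻¹ᵁ V).ι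
  haveI : IsNoetherian (k ⁻¹ᵁ V).toScheme := {}
  have hfin : (irreducibleComponents (k ⁻¹ᵁ V).toScheme).Finite := NoetherianSpace.finite_irreducibleComponents
  let F := k '' ((k ⁻¹ᵁ V).ι '' {u | ∀ w, w ⤳ u → w = u})
  have hFfin : F.Finite := by
    refine ((Set.Finite.of_finite_image (f := fun u => closure {u}) ?_ ?_).image _).image _
    · exact hfin.subset (Set.image_subset_iff.mpr fun u hu => H06Equidim.closure_singleton_mem_irreducibleComponents u hu)
    · intro a _ b _ hab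
      exact eq_of_closure_singleton_eq hab
  let G := {u ∈ F | (s : WithBot ℕ∞) ≤ cdim (f.asFiber u) ∧ ¬ u ⤳ x}
  have hG : IsClosed (⋃ u ∈ G, closure ({u} : Set X)) :=
    (hFfin.subset fun u hu => hu.1).isClosed_biUnion fun u _ => isClosed_closure
  let U : X.Opens := V ⊓ ⟨_, hG.isOpen_compl⟩
  have hxU : x ∈ U := ⟨hxV, fun hx => by
    obtain ⟨u, hu, hxu⟩ := Set.mem_iUnion₂.mp hx
    exact hu.2.2 (specializes_iff_mem_closure.mpr hxu)⟩
  obtain ⟨v, hvU, hfv, hv⟩ := exists_cdim_eq_of_dim_inter f U η₀ s (he ▸ h U hxU)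
  obtain ⟨ξ, hξ, hξf, hξmax, hξd⟩ := exists_maximal_generization f v
  have hξV : ξ ∈ V := hξ.mem_open V.2 hvU.1
  have hξη : f ξ = η₀ := hξf.trans hfv
  obtain ⟨w, hw⟩ : ξ ∈ Set.range k := by rw [f.range_fiberι]; exact hξη
  have hξF : ξ ∈ F := by
    refine ⟨w, ⟨⟨w, show k w ∈ V by rw [hw]; exact hξV⟩, fun z hz => ?_, rfl⟩, hw⟩
    have hz' : k z.1 = k w := by
      rw [hw]
      refine hξmax _ (((f.range_fiberι η₀).subset (Set.mem_range_self z.1)).trans hξη.symm) ?_
      rw [← hw]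
      exact (hz.map (k ⁻¹ᵁ V).ι.continuous).map k.continuous
    exact (k ⁻¹ᵁ V).ι.isEmbedding.injective (k.isEmbedding.injective hz')
  have hsξ : (s : WithBot ℕ∞) ≤ cdim (f.asFiber ξ) := hξd ▸ hv.trans (cdim_asFiber_le_fibreDimAt f v)
  have hξx : ξ ⤳ x := by
    by_contra hn
    exact hvU.2 (Set.mem_iUnion₂.mpr ⟨ξ, ⟨hξF, hsξ, hn⟩, hξ.mem_closure⟩)
  have hmaxξ : ∀ ζ, ζ ⤳ ξ → ζ = ξ := fun ζ hζ =>
    hξmax ζ ((hmax₀ _ (hξη ▸ hζ.map f.continuous)).trans hξη.symm) hζ
  refine ⟨ξ, hξx, hξη, hmaxξ, le_antisymm ((cdim_asFiber_le_fibreDimAt f ξ).trans (fibreDimAt_le_of_specializes f hξx)) ?_⟩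
  rw [he]; exact hsξ

end Groth.Agent.H06EGA14
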