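import Groth.Agent.H06EGA14.Chevalley
import Groth.Agent.H06EGA14.ValuationDim
import Groth.Agent.H06EGA14.UnivOpen
import Groth.Agent.H06EGA14.EquidimStalk
import Groth.Agent.H06Equidim.AffineSpace
import Groth.Agent.H06EGA14.FiniteBaseChangeAlgebra
import Groth.Agent.H06EGA15.Lifts

/-!
Universal openness of quasi-finite morphisms to affine spaces (EGA IV 14.5.4).
-/

open CategoryTheory CategoryTheory.Limits AlgebraicGeometry TopologicalSpace Topology

set_option backward.isDefEq.respectTransparency false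
set_option linter.style.haveILetI false

universe u

namespace Groth.Agent.H06EGA14

open Groth.Agent.H8Props.FieldDim Groth.Agent.H06Equidim

/-- Over a valuation ring a quasi-finite morphism to an affine space is universally open at the
specializations of a point of the generic fibre of full dimension. -/
theorem isUnivOpenAt_to_affineSpace_valuation {R : CommRingCat.{u}} [IsDomain R] [ValuationRing R]
    {X : Scheme.{u}} (σ : Type u) [Fintype σ] (v : X ⟶ 𝔸(σ; Spec R)) [LocallyOfFinitePresentation v]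
    [LocallyQuasiFinite v] (x η : X) (hη : η ⤳ x)
    (hbot : (v ≫ 𝔸(σ; Spec R) ↘ Spec R) η = (⊥ : PrimeSpectrum R))
    (hdim : cdim ((v ≫ 𝔸(σ; Spec R) ↘ Spec R).asFiber η) = (Fintype.card σ : ℕ)) :
    EGA43.IsUnivOpenAt v x := by
  set q := 𝔸(σ; Spec R) ↘ Spec R with hq
  haveI : LocallyOfFiniteType q := inferInstance
  rw [cdim_asFiber_comp, cdim_asFiber_lqf, zero_add] at hdim
  have hmaxA : ∀ a, a ⤳ v η → a = v η := by
    intro a ha
    refine eq_of_specializes_of_cdim_eq q (v η) (hdim.trans (fibreDimAt_affineSpace σ (v η)).symm) a ha ?_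
    have h1 : q a ⤳ q (v η) := ha.map q.continuous
    rw [Scheme.Hom.comp_apply] at hbot
    rw [hbot] at h1 ⊢
    exact PrimeSpectrum.ext (le_bot_iff.mp ((PrimeSpectrum.le_iff_specializes _ _).mpr h1))
  have hW : IsAffineOpen (⊤ : (𝔸(σ; Spec R)).Opens) := isAffineOpen_top _
  obtain ⟨(V : X.Opens), (hV : IsAffineOpen V), hxV, -⟩ := Opens.isBasis_iff_nbhd.mp X.isBasis_affineOpens
    (show x ∈ (⊤ : X.Opens) from trivial)
  have hVW : V ≤ v ⁻¹ᵁ ⊤ := fun _ _ => trivial
  obtain ⟨c, rfl⟩ : x ∈ Set.range hV.fromSpec := by rw [hV.range_fromSpec]; exact hxV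
  obtain ⟨d, rfl⟩ : η ∈ Set.range hV.fromSpec := by rw [hV.range_fromSpec]; exact hη.mem_open V.2 hxV
  let φ := v.appLE ⊤ V hVW
  let e := MvPolynomial.isEmptyRingEquiv Γ(𝔸(σ; Spec R), ⊤) PEmpty.{u + 1}
  let γ : MvPolynomial PEmpty.{u + 1} Γ(𝔸(σ; Spec R), ⊤) →+* Γ(X, V) := φ.hom.comp e.toRingHom
  have hγ : γ.comp MvPolynomial.C = φ.hom := by
    ext a
    show φ.hom (e (MvPolynomial.C a)) = _
    rw [show e (MvPolynomial.C a) = a from e.apply_symm_apply a]
  have hsq : Spec.map φ ≫ hW.fromSpec = hV.fromSpec ≫ v := IsAffineOpen.SpecMap_appLE_fromSpec v hW hV hVW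
  refine isUnivOpenAt_of_quasiFiniteAt_dominant v hW hV hVW c γ hγ ?_ d
    (hV.fromSpec.isEmbedding.isInducing.specializes_iff.mp hη) ?_ ?_
  · haveI : LocallyQuasiFinite (Spec.map φ) := by
      rw [HasRingHomProperty.Spec_iff (P := @LocallyQuasiFinite)]
      exact HasRingHomProperty.appLE @LocallyQuasiFinite v ‹_› ⟨⊤, hW⟩ ⟨V, hV⟩ hVW
    haveI : IsIso (CommRingCat.ofHom e.toRingHom) := inferInstanceAs (IsIso e.toCommRingCatIso.hom)
    haveI : LocallyQuasiFinite (Spec.map (CommRingCat.ofHom γ)) := by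
      rw [show CommRingCat.ofHom γ = CommRingCat.ofHom e.toRingHom ≫ φ from rfl, Spec.map_comp]
      infer_instance
    exact Scheme.Hom.quasiFiniteAt _ c
  · intro a ha
    let F := Spec.map (CommRingCat.ofHom (MvPolynomial.C (R := Γ(𝔸(σ; Spec R), ⊤)) (σ := PEmpty.{u + 1})))
    have hF : Function.Injective F :=
      PrimeSpectrum.comap_injective_of_surjective _ (MvPolynomial.C_surjective PEmpty.{u + 1})
    have himg : hW.fromSpec (F (Spec.map (CommRingCat.ofHom γ) d)) = v (hV.fromSpec d) := by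
      rw [← Scheme.Hom.comp_apply hV.fromSpec v, ← hsq, Scheme.Hom.comp_apply, ← Scheme.Hom.comp_apply _ F,
        ← Spec.map_comp, show CommRingCat.ofHom MvPolynomial.C ≫ CommRingCat.ofHom γ = φ from
          CommRingCat.hom_ext hγ]
      rfl
    exact hF (hW.fromSpec.isEmbedding.injective
      ((hmaxA _ (himg ▸ (ha.map F.continuous).map hW.fromSpec.continuous)).trans himg.symm))
  · set z := v (hV.fromSpec c)
    let E : Γ(𝔸(σ; Spec R), ⊤) ≃+* MvPolynomial σ R :=
      (Scheme.Γ.mapIso (AffineSpace.SpecIso σ R).op).symm.commRingCatIsoToRingEquiv.trans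
        (Scheme.ΓSpecIso (CommRingCat.of (MvPolynomial σ R))).commRingCatIsoToRingEquiv
    haveI : IsDomain Γ(𝔸(σ; Spec R), ⊤) := E.toMulEquiv.isDomain _
    haveI : IsIntegrallyClosed (MvPolynomial σ R) := isIntegrallyClosed_mvPolynomial R σ
    haveI : IsIntegrallyClosed Γ(𝔸(σ; Spec R), ⊤) := IsIntegrallyClosed.of_equiv E.symm
    let p := hW.primeIdealOf ⟨z, TopologicalSpace.Opens.mem_top z⟩
    haveI : p.asIdeal.IsPrime := p.2
    have hpz : hW.fromSpec p = z := hW.fromSpec_primeIdealOf _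
    letI : Algebra Γ(𝔸(σ; Spec R), ⊤) ((𝔸(σ; Spec R)).presheaf.stalk z) :=
      TopCat.Presheaf.algebra_section_stalk (𝔸(σ; Spec R)).presheaf ⟨z, TopologicalSpace.Opens.mem_top z⟩
    haveI : IsLocalization.AtPrime ((𝔸(σ; Spec R)).presheaf.stalk z) p.asIdeal :=
      hW.isLocalization_stalk ⟨z, TopologicalSpace.Opens.mem_top z⟩
    haveI : IsDomain ((𝔸(σ; Spec R)).presheaf.stalk z) :=
      IsLocalization.isDomain_of_le_nonZeroDivisors (M := p.asIdeal.primeCompl) _ p.asIdeal.primeCompl_le_nonZeroDivisors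
    haveI : IsIntegrallyClosed ((𝔸(σ; Spec R)).presheaf.stalk z) :=
      isIntegrallyClosed_of_isLocalization _ p.asIdeal.primeCompl p.asIdeal.primeCompl_le_nonZeroDivisors
    exact isGeomUnibranch_of_isIntegrallyClosed _

/-- Above a point, in the same fibre over `k w`, base change reaches every generization in the fibre. -/
theorem exists_generization_baseChange {X Y Y' : Scheme.{u}} (f : X ⟶ Y) (g : Y' ⟶ Y) (ξ x : X) (hξ : ξ ⤳ x)
    (hf : f ξ = f x) (x' : ↥(pullback f g)) (hx' : pullback.fst f g x' = x) :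
    ∃ ξ', ξ' ⤳ x' ∧ pullback.fst f g ξ' = ξ ∧ pullback.snd f g ξ' = pullback.snd f g x' := by
  set y' := pullback.snd f g x'
  have hgy : g y' = f x := by
    rw [← hx', ← Scheme.Hom.comp_apply, ← pullback.condition, Scheme.Hom.comp_apply]
  -- the fibres over `y'` and over `g y'`
  let P := pullback (pullback.snd f g) (Y'.fromSpecResidueField y')
  have hres : Spec.map (g.residueFieldMap y') ≫ Y.fromSpecResidueField (g y') =
      Y'.fromSpecResidueField y' ≫ g := g.SpecMap_residueFieldMap_fromSpecResidueField y'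
  have hbig := (IsPullback.of_hasPullback (pullback.snd f g) (Y'.fromSpecResidueField y')).paste_horiz
    (IsPullback.of_hasPullback f g)
  rw [← hres] at hbig
  let q : P ⟶ f.fiber (g y') := pullback.lift (pullback.fst _ _ ≫ pullback.fst f g)
    (pullback.snd _ _ ≫ Spec.map (g.residueFieldMap y'))
    (by simpa only [Category.assoc] using hbig.w)
  have hq : IsPullback q (pullback.snd _ _) (f.fiberToSpecResidueField (g y'))
      (Spec.map (g.residueFieldMap y')) :=
    IsPullback.of_right (h₁₂ := f.fiberι (g y'))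
      (by rw [show q ≫ f.fiberι (g y') = _ from pullback.lift_fst _ _ _]; exact hbig)
      (pullback.lift_snd _ _ _) (IsPullback.of_hasPullback _ _)
  haveI : Flat (Spec.map (g.residueFieldMap y')) := by
    rw [HasRingHomProperty.Spec_iff (P := @Flat)]
    exact RingHom.Flat.of_isField (Field.toIsField _) _
  haveI : Flat q := MorphismProperty.of_isPullback hq.flip inferInstance
  obtain ⟨p, hp, -⟩ := Scheme.exists_preimage_of_isPullback
    (IsPullback.of_hasPullback (pullback.snd f g) (Y'.fromSpecResidueField y')) x'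
    (IsLocalRing.closedPoint (Y'.residueField y')) (by rw [Scheme.fromSpecResidueField_apply])
  obtain ⟨ξ', hξ'⟩ : ξ ∈ Set.range (f.fiberι (g y')) := by
    rw [f.range_fiberι]
    exact hf.trans hgy.symm
  have hqp : f.fiberι (g y') (q p) = x := by
    rw [← Scheme.Hom.comp_apply, show q ≫ f.fiberι (g y') = _ from pullback.lift_fst _ _ _,
      Scheme.Hom.comp_apply, hp, hx']
  have hs : ξ' ⤳ q p := by
    rw [← (f.fiberι (g y')).isEmbedding.isInducing.specializes_iff, hξ', hqp]
    exact hξ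
  obtain ⟨p', hp', hqp'⟩ := Flat.generalizingMap q hs
  have hufst : pullback.fst f g (pullback.fst (pullback.snd f g) (Y'.fromSpecResidueField y') p') = ξ := by
    rw [← hξ', ← hqp', ← Scheme.Hom.comp_apply, ← Scheme.Hom.comp_apply,
      show q ≫ f.fiberι (g y') = _ from pullback.lift_fst _ _ _]
  have husnd : pullback.snd f g (pullback.fst (pullback.snd f g) (Y'.fromSpecResidueField y') p') = y' := by
    rw [← Scheme.Hom.comp_apply, pullback.condition, Scheme.Hom.comp_apply, Scheme.fromSpecResidueField_apply]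
  exact ⟨_, by rw [← hp]; exact hp'.map (Scheme.Hom.continuous _), hufst, husnd⟩

set_option maxHeartbeats 800000 in
/-- A quasi-finite morphism to affine space is universally open at a point if the family is
universally open at the generic point of a component of full dimension of the fibre. -/
theorem isUnivOpenAt_to_affineSpace {X S : Scheme.{u}} (σ : Type u) [Fintype σ] (v : X ⟶ 𝔸(σ; S))
    [LocallyQuasiFinite v] [LocallyOfFinitePresentation v] (f : X ⟶ S) (hv : v ≫ 𝔸(σ; S) ↘ S = f)
    [LocallyOfFiniteType f] (x z : X) (hzx : z ⤳ x) (hfz : f z = f x)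
    (hmax : ∀ w, f w = f z → w ⤳ z → w = z) (hopen : EGA43.IsUnivOpenAt f z)
    (hdz : FlatMor.fibreDimAt f z = (Fintype.card σ : ℕ)) :
    EGA43.IsUnivOpenAt v x := by
  refine H06EGA15.isUnivOpenAt_of_lifts v x fun Y' k x' hx' w hw => ?_
  obtain ⟨R, hR1, hR2, ν, hν1, hν2⟩ := H18HTop.exists_valuation_of_specializes hw
  haveI := hR1; haveI := hR2
  let κ : Spec R ⟶ 𝔸(σ; S) := ν ≫ k
  let g : Spec R ⟶ S := κ ≫ 𝔸(σ; S) ↘ S
  have hA := AffineSpace.isPullback_map (n := σ) g
  let t : Spec R ⟶ 𝔸(σ; Spec R) := hA.lift κ (𝟙 _) (Category.id_comp g).symm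
  have ht1 : t ≫ AffineSpace.map σ g = κ := hA.lift_fst _ _ _
  have ht2 : t ≫ 𝔸(σ; Spec R) ↘ Spec R = 𝟙 _ := hA.lift_snd _ _ _
  let P := pullback f g
  let vR : P ⟶ 𝔸(σ; Spec R) := hA.lift (pullback.fst f g ≫ v) (pullback.snd f g)
    (by rw [Category.assoc, hv]; exact pullback.condition)
  have hvR2 : vR ≫ 𝔸(σ; Spec R) ↘ Spec R = pullback.snd f g := hA.lift_snd _ _ _
  have hP : IsPullback (pullback.fst f g) vR v (AffineSpace.map σ g) :=
    IsPullback.of_bot (v₂₁ := 𝔸(σ; Spec R) ↘ Spec R) (v₂₂ := 𝔸(σ; S) ↘ S) (by rw [hvR2, hv]; exact IsPullback.of_hasPullback f g)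
      (hA.lift_fst _ _ _).symm hA
  haveI : LocallyQuasiFinite vR := MorphismProperty.of_isPullback hP inferInstance
  haveI : LocallyOfFinitePresentation vR := MorphismProperty.of_isPullback hP inferInstance
  let Q := pullback (pullback.snd v k) ν
  obtain ⟨p, hp1, hp2⟩ := Scheme.exists_preimage_of_isPullback
    (IsPullback.of_hasPullback (pullback.snd v k) ν) x' (IsLocalRing.closedPoint R) hν2.symm
  have hbig : IsPullback (pullback.fst (pullback.snd v k) ν ≫ pullback.fst v k) (pullback.snd _ _) v κ :=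
    (IsPullback.of_hasPullback (pullback.snd v k) ν).paste_horiz (IsPullback.of_hasPullback v k)
  let l : Q ⟶ P := hP.lift (pullback.fst (pullback.snd v k) ν ≫ pullback.fst v k) (pullback.snd _ _ ≫ t)
    (by rw [Category.assoc (pullback.snd _ _), ht1]; exact hbig.w)
  have hl : IsPullback l (pullback.snd _ _) vR t :=
    IsPullback.of_right (h₁₂ := pullback.fst f g)
      (by rw [show l ≫ pullback.fst f g = _ from hP.lift_fst _ _ _, ht1]; exact hbig) (hP.lift_snd _ _ _) hP
  have hl1 : pullback.fst f g (l p) = x := by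
    rw [← Scheme.Hom.comp_apply, show l ≫ pullback.fst f g = _ from hP.lift_fst _ _ _,
      Scheme.Hom.comp_apply, hp1, hx']
  have hl2 : pullback.snd f g (l p) = IsLocalRing.closedPoint R := by
    rw [← hvR2, Scheme.Hom.comp_apply, ← Scheme.Hom.comp_apply l, hl.w, Scheme.Hom.comp_apply,
      ← Scheme.Hom.comp_apply t, ht2, hp2]
    rfl
  obtain ⟨z₁, hz₁, hz₁f, hz₁s⟩ := exists_generization_baseChange f g z x hzx hfz (l p) hl1
  obtain ⟨ξ, hξ, hξs, hξmax, -⟩ := exists_maximal_generization (pullback.snd f g) z₁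
  have hsq : ∀ a, f (pullback.fst f g a) = g (pullback.snd f g a) := fun a => by
    rw [← Scheme.Hom.comp_apply, pullback.condition, Scheme.Hom.comp_apply]
  have hξf : pullback.fst f g ξ = z := hmax _ (by rw [hsq, hξs, ← hsq, hz₁f])
    (hz₁f ▸ hξ.map (pullback.fst f g).continuous)
  have hG := IsPullback.of_hasPullback f g
  have hξd : FlatMor.fibreDimAt (pullback.snd f g) ξ = (Fintype.card σ : ℕ) := by
    rw [fibreDimAt_baseChange f hG, hξf, hdz]
  have hξopen : EGA43.IsUnivOpenAt (pullback.snd f g) ξ := isUnivOpenAt_of_isPullback hopen hG ξ hξf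
  have hbot : ∀ a, a ⤳ (⊥ : PrimeSpectrum R) → a = (⊥ : PrimeSpectrum R) := fun a ha =>
    PrimeSpectrum.ext (le_bot_iff.mp ((PrimeSpectrum.le_iff_specializes _ _).mpr ha))
  obtain ⟨η, hη, hηbot, -, hηd⟩ := exists_generic_of_le_dim_inter' (pullback.snd f g) ξ (⊥ : PrimeSpectrum R) hbot
    (fun U hU => le_dim_inter_of_isUnivOpenAt' (pullback.snd f g) ξ hξmax hξopen U hU _
      ((PrimeSpectrum.le_iff_specializes _ _).mp bot_le)) hξmax
  have hopenR : EGA43.IsUnivOpenAt vR (l p) := by
    refine isUnivOpenAt_to_affineSpace_valuation σ vR (l p) η (hη.trans (hξ.trans hz₁)) ?_ ?_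
    · rw [hvR2]; exact hηbot
    · rw [hvR2]; exact hηd.trans hξd
  obtain ⟨b, hb, hbs⟩ := exists_specializes_of_isOpenAt (pullback.snd (pullback.snd v k) ν) p
    (isOpenAt_of_isPullback hopenR hl p rfl) (⊥ : PrimeSpectrum R)
    ((PrimeSpectrum.le_iff_specializes _ _).mp bot_le)
  refine ⟨pullback.fst (pullback.snd v k) ν b, hp1 ▸ hb.map (Scheme.Hom.continuous _), ?_⟩
  rw [← Scheme.Hom.comp_apply, pullback.condition, Scheme.Hom.comp_apply, hbs, hν1]

end Groth.Agent.H06EGA14
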