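import Groth.Agent.H06EGA14.CatenaryFormula

/-!
# The dimension formula on a fibre (EGA IV 13.3.5)
-/

set_option autoImplicit false
set_option linter.style.haveILetI false
set_option backward.isDefEq.respectTransparency false
universe u

open CategoryTheory CategoryTheory.Limits AlgebraicGeometry TopologicalSpace Topology

namespace Groth.Agent.H06EGA14

open H8Props.FieldDim

variable {X Y : Scheme.{u}}

/-- A minimal prime computing the dimension. -/
theorem exists_minimalPrime_dim_eq (R : Type u) [CommRing R] [IsLocalRing R] [IsNoetherianRing R] :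
    ∃ p ∈ minimalPrimes R, ringKrullDim (R ⧸ p) = ringKrullDim R := by
  obtain ⟨n, hn⟩ := H22Alg.exists_nat_ringKrullDim' R
  by_contra hcon
  push Not at hcon
  have h1 : ∀ p ∈ minimalPrimes R, ∃ m : ℕ, ringKrullDim (R ⧸ p) = m ∧ m < n := fun p hp => by
    haveI := hp.1.1
    obtain ⟨m, hm⟩ := H05EGA4.exists_nat_dim_quotient_eq p
    refine ⟨m, hm, lt_of_le_of_ne ?_ fun e => hcon p hp (by rw [hm, hn, e])⟩
    have h2 := (ringKrullDim_quotient_le p).trans hn.le
    rw [hm] at h2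
    exact_mod_cast h2
  obtain ⟨p, hp⟩ := Ideal.nonempty_minimalPrimes (I := (⊥ : Ideal R)) bot_ne_top
  obtain ⟨m, hm, hmn⟩ := h1 p hp
  have h3 : ringKrullDim R ≤ ((n - 1 : ℕ) : WithBot ℕ∞) := by
    rw [← ringKrullDim_eq_of_ringEquiv (RingEquiv.quotientBot R)]
    refine H05EGA4.ringKrullDim_quotient_le_of_minimalPrimes ⊥ fun q hq => ?_
    obtain ⟨k, hk, hkn⟩ := h1 q hq
    rw [hk]
    exact_mod_cast (by omega : k ≤ n - 1)
  rw [hn] at h3
  have h4 : n ≤ n - 1 := by exact_mod_cast h3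
  omega

/-- `w` is a generization of `y` of full dimension. -/
def IsFull (y w : Y) : Prop :=
  ∃ p : PrimeSpectrum (Y.presheaf.stalk y), Y.fromSpecStalk y p = w ∧
    ringKrullDim (Y.presheaf.stalk y ⧸ p.asIdeal) = ringKrullDim (Y.presheaf.stalk y)

theorem IsFull.maximal [IsLocallyNoetherian Y] {y w : Y} (h : IsFull y w) : ∀ z, z ⤳ w → z = w := by
  obtain ⟨p, rfl, hp⟩ := h
  haveI := p.2
  obtain ⟨n, hn⟩ := H22Alg.exists_nat_ringKrullDim' (Y.presheaf.stalk y)
  refine fromSpecStalk_maximal y p ?_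
  rw [← Ideal.height_eq_zero_iff]
  have h4 := H05EGA4.height_add_dim_quotient_le p.asIdeal
  rw [hp, hn] at h4
  obtain ⟨m, hm⟩ := H05EGA4.exists_nat_height_eq p.asIdeal
  rw [hm] at h4 ⊢
  have h5 : m + n ≤ n := by exact_mod_cast h4
  exact_mod_cast (show m = 0 by omega)

theorem fibre_stalk_dim_eq_zero_iff (f : X ⟶ Y) [LocallyOfFiniteType f] (z : X) :
    ringKrullDim ((f.fiber (f z)).presheaf.stalk (f.asFiber z)) = 0 ↔
      cdim (f.asFiber z) = FlatMor.fibreDimAt f z := by
  obtain ⟨t, ht, -⟩ := H06Equidim.exists_trdeg_asFiber f z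
  rw [fibreDimAt_eq_stalk_add f z t ht, ht]
  constructor
  · intro h; rw [h, zero_add]
  · intro h
    refine (withBot_add_nat_cancel (t := t) ?_).symm
    rw [zero_add]; exact h

/-- If `dim O_{X,z} = dim O_{Y,y}` at a maximal point of the fibre, some component through `z` has
generic fibre of the same dimension over a component of full dimension. -/
theorem exists_full_component [IsLocallyNoetherian Y] (f : X ⟶ Y) [LocallyOfFiniteType f] (z : X) (e : ℕ)
    (hfd : FlatMor.fibreDimAt f z = (e : ℕ)) (hz : cdim (f.asFiber z) = (e : WithBot ℕ∞))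
    (hdim : ringKrullDim (X.presheaf.stalk z) = ringKrullDim (Y.presheaf.stalk (f z))) :
    ∃ η : X, η ⤳ z ∧ (∀ ζ, ζ ⤳ η → ζ = η) ∧ IsFull (f z) (f η) ∧ cdim (f.asFiber η) = (e : WithBot ℕ∞) := by
  haveI : IsLocallyNoetherian X := LocallyOfFiniteType.isLocallyNoetherian f
  obtain ⟨p', hp, hpd⟩ := exists_minimalPrime_dim_eq (X.presheaf.stalk z)
  let p : PrimeSpectrum (X.presheaf.stalk z) := ⟨p', hp.1.1⟩
  obtain ⟨d, hd⟩ := H22Alg.exists_nat_ringKrullDim' (Y.presheaf.stalk (f z))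
  have hηz : X.fromSpecStalk z p ⤳ z := by
    have : X.fromSpecStalk z p ∈ Set.range (X.fromSpecStalk z) := ⟨p, rfl⟩
    rwa [Scheme.range_fromSpecStalk] at this
  obtain ⟨c, hc, -⟩ := H06Equidim.exists_trdeg_asFiber f (X.fromSpecStalk z p)
  have hce : c ≤ e := by
    have h1 : cdim (f.asFiber (X.fromSpecStalk z p)) ≤ (e : WithBot ℕ∞) :=
      (H06Equidim.cdim_asFiber_le_fibreDimAt f _).trans ((fibreDimAt_le_of_specializes f hηz).trans hfd.le)
    rw [hc] at h1
    exact_mod_cast h1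
  set p₀ : PrimeSpectrum (Y.presheaf.stalk (f z)) := PrimeSpectrum.comap (f.stalkMap z).hom p
  haveI := p₀.2
  obtain ⟨d₀, hd₀⟩ := H05EGA4.exists_nat_dim_quotient_eq p₀.asIdeal
  have hdd : d₀ ≤ d := by
    have := (ringKrullDim_quotient_le p₀.asIdeal).trans hd.le
    rw [hd₀] at this
    exact_mod_cast this
  have h2 := quotient_dim_add_le f z p d₀ e c hd₀ hz hc.le
  rw [show ringKrullDim (X.presheaf.stalk z ⧸ p.asIdeal) = ringKrullDim (X.presheaf.stalk z) from hpd,
    hdim, hd] at h2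
  have h3 : d + e ≤ d₀ + c := by exact_mod_cast h2
  refine ⟨_, hηz, fromSpecStalk_maximal z p hp, ⟨p₀, ?_, ?_⟩, by rw [hc, show c = e by omega]⟩
  · exact congrArg (fun φ : Spec (X.presheaf.stalk z) ⟶ Y => φ p) (Scheme.SpecMap_stalkMap_fromSpecStalk f)
  · rw [hd₀, hd, show d₀ = d by omega]

/-- A component over a component of full dimension gives the dimension formula from below. -/
theorem add_le_of_isFull [IsLocallyNoetherian Y] (f : X ⟶ Y) [LocallyOfFiniteType f] (x η : X) (hη : η ⤳ x)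
    (hcat : CAlg.IsUniversallyCatenary (Y.presheaf.stalk (f x))) (hfull : IsFull (f x) (f η)) (t e : ℕ)
    (ht : cdim (f.asFiber x) = t) (he : cdim (f.asFiber η) = (e : WithBot ℕ∞)) :
    ringKrullDim (Y.presheaf.stalk (f x)) + (e : ℕ) ≤ ringKrullDim (X.presheaf.stalk x) + (t : ℕ) := by
  obtain ⟨p, rfl⟩ : η ∈ Set.range (X.fromSpecStalk x) := by rw [Scheme.range_fromSpecStalk]; exact hη
  obtain ⟨q, hq, hqd⟩ := hfull
  obtain rfl : q = PrimeSpectrum.comap (f.stalkMap x).hom p := (Y.fromSpecStalk (f x)).isEmbedding.injective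
    (hq.trans (congrArg (fun φ : Spec (X.presheaf.stalk x) ⟶ Y => φ p) (Scheme.SpecMap_stalkMap_fromSpecStalk f)).symm)
  obtain ⟨d, hd⟩ := H22Alg.exists_nat_ringKrullDim' (Y.presheaf.stalk (f x))
  have key := quotient_dim_add_eq_of_catenary f x hcat p d t e (hqd.trans hd) ht he
  rw [hd]
  refine le_trans (le_of_eq ?_) (add_le_add (ringKrullDim_quotient_le p.asIdeal) le_rfl)
  rw [key, Nat.cast_add]

theorem stalk_dim_le_add [IsLocallyNoetherian Y] (f : X ⟶ Y) [LocallyOfFiniteType f] (x : X) :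
    ringKrullDim (X.presheaf.stalk x) ≤ ringKrullDim (Y.presheaf.stalk (f x)) +
      ringKrullDim ((f.fiber (f x)).presheaf.stalk (f.asFiber x)) := by
  haveI : IsLocallyNoetherian X := LocallyOfFiniteType.isLocallyNoetherian f
  rw [← ringKrullDim_eq_of_ringEquiv (H8Props.FibreStalk.asFiberStalkEquiv f x)]
  letI := (f.stalkMap x).hom.toAlgebra
  haveI : IsLocalHom (algebraMap (Y.presheaf.stalk (f x)) (X.presheaf.stalk x)) :=
    inferInstanceAs (IsLocalHom (f.stalkMap x).hom)
  exact H13CInt.ringKrullDim_le_add (Y.presheaf.stalk (f x)) (X.presheaf.stalk x)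

end Groth.Agent.H06EGA14
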