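import Mathlib

/-!
# Lifting points of integral extensions of normal domains along valuations (EGA IV 14.4.1)
-/

set_option autoImplicit false
set_option linter.style.haveILetI false
set_option synthInstance.maxHeartbeats 200000
universe u

open Polynomial

namespace Groth.Agent.H06EGA14

/-- Two homomorphisms into a domain which agree on the invariants of a finite group of automorphisms
differ by an element of the group. -/
theorem exists_eq_comp_of_eqOn_fixed {T Ω : Type u} [CommRing T] [CommRing Ω] [IsDomain Ω]
    {G : Type u} [Group G] [Finite G] (ρ : G → (T →+* T)) (h1 : ρ 1 = RingHom.id T)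
    (hmul : ∀ g k, ρ (g * k) = (ρ g).comp (ρ k)) (φ ψ : T →+* Ω)
    (h : ∀ c, (∀ g, ρ g c = c) → φ c = ψ c) : ∃ g, ψ = φ.comp (ρ g) := by
  classical
  by_contra hcon
  push Not at hcon
  have : ∀ g, ∃ a, ψ a ≠ φ (ρ g a) := fun g => by
    by_contra hg
    push Not at hg
    exact hcon g (RingHom.ext hg)
  choose a ha using this
  haveI := Fintype.ofFinite G
  let P : MvPolynomial (Option G) T :=
    ∏ g : G, (MvPolynomial.X none - ∑ k : G, MvPolynomial.C (ρ g (a k)) * MvPolynomial.X (some k))
  have hfix : ∀ g, MvPolynomial.map (ρ g) P = P := fun g => by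
    simp only [P, map_prod, map_sub, map_sum, map_mul, MvPolynomial.map_X, MvPolynomial.map_C]
    refine Fintype.prod_equiv (Equiv.mulLeft g) _ _ fun g' => ?_
    simp only [Equiv.coe_mulLeft, hmul, RingHom.comp_apply]
  have hmap : MvPolynomial.map φ P = MvPolynomial.map ψ P := by
    ext m
    rw [MvPolynomial.coeff_map, MvPolynomial.coeff_map]
    exact h _ fun g => by
      conv_rhs => rw [← hfix g]
      rw [MvPolynomial.coeff_map]
  let v : Option G → MvPolynomial G Ω := fun o =>
    o.elim (∑ k : G, MvPolynomial.C (ψ (a k)) * MvPolynomial.X k) MvPolynomial.X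
  let e := MvPolynomial.eval₂Hom (MvPolynomial.C : Ω →+* MvPolynomial G Ω) v
  have h0 : e (MvPolynomial.map ψ P) = 0 := by
    simp only [P, map_prod]
    refine Finset.prod_eq_zero (Finset.mem_univ 1) ?_
    simp [e, v, h1]
  rw [← hmap] at h0
  simp only [P, map_prod, Finset.prod_eq_zero_iff, Finset.mem_univ, true_and] at h0
  obtain ⟨g, hg⟩ := h0
  simp only [map_sub, map_sum, map_mul, MvPolynomial.map_X, MvPolynomial.map_C, e,
    MvPolynomial.eval₂Hom_X', MvPolynomial.eval₂Hom_C, sub_eq_zero] at hg
  refine ha g ?_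
  have h2 := congrArg (MvPolynomial.coeff (Finsupp.single g 1)) hg
  simpa [v, MvPolynomial.coeff_sum, MvPolynomial.coeff_C_mul, MvPolynomial.coeff_X,
    Finsupp.single_eq_single_iff] using h2

/-- A homomorphism into an algebraically closed field extends along an injective integral map. -/
theorem exists_extension_of_isIntegral {R T E : Type u} [CommRing R] [CommRing T] [Field E]
    [IsAlgClosed E] [Algebra R T] [Algebra.IsIntegral R T] (hinj : Function.Injective (algebraMap R T))
    (α : R →+* E) : ∃ β : T →+* E, β.comp (algebraMap R T) = α := by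
  haveI : (RingHom.ker α).IsPrime := RingHom.ker_isPrime α
  obtain ⟨Q, hQ, hQR⟩ := Ideal.exists_ideal_over_prime_of_isIntegral (S := T) (RingHom.ker α) ⊥
    (by rw [← RingHom.ker_eq_comap_bot, (RingHom.injective_iff_ker_eq_bot _).mp hinj]; exact bot_le)
  let q := RingHom.ker α
  haveI : Q.IsPrime := hQR.1
  letI : Algebra (R ⧸ q) (T ⧸ Q) := (Ideal.quotientMap Q (algebraMap R T) hQR.2.ge).toAlgebra
  haveI : Module.IsTorsionFree (R ⧸ q) (T ⧸ Q) := by
    haveI : FaithfulSMul (R ⧸ q) (T ⧸ Q) := (faithfulSMul_iff_algebraMap_injective _ _).mpr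
      (Ideal.quotientMap_injective' hQR.2.le)
    infer_instance
  letI : Algebra (R ⧸ q) E := (Ideal.Quotient.lift q α fun _ h => h).toAlgebra
  haveI : Module.IsTorsionFree (R ⧸ q) E := by
    haveI : FaithfulSMul (R ⧸ q) E := (faithfulSMul_iff_algebraMap_injective _ _).mpr
      (RingHom.lift_injective_of_ker_le_ideal q (fun _ h => h) le_rfl)
    infer_instance
  haveI : Algebra.IsIntegral (R ⧸ q) (T ⧸ Q) := by
    refine ⟨fun x => ?_⟩
    obtain ⟨x, rfl⟩ := Ideal.Quotient.mk_surjective x
    obtain ⟨p, hp, hpx⟩ := Algebra.IsIntegral.isIntegral (R := R) x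
    refine ⟨p.map (Ideal.Quotient.mk q), hp.map _, ?_⟩
    rw [Polynomial.eval₂_map, RingHom.algebraMap_toAlgebra, Ideal.quotientMap_comp_mk,
      ← Polynomial.hom_eval₂, hpx, map_zero]
  let β : (T ⧸ Q) →ₐ[R ⧸ q] E := IsAlgClosed.lift
  refine ⟨β.toRingHom.comp (Ideal.Quotient.mk Q), RingHom.ext fun r => ?_⟩
  exact β.commutes (Ideal.Quotient.mk q r)

variable {E : Type u} [Field E] (V : ValuationSubring E)

/-- An integral extension of a map into a valuation ring takes values in the valuation ring. -/
theorem mem_of_isIntegral {R T : Type u} [CommRing R] [CommRing T] [Algebra R T]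
    [Algebra.IsIntegral R T] (α : R →+* V) (β : T →+* E)
    (h : β.comp (algebraMap R T) = V.subtype.comp α) (t : T) : β t ∈ V := by
  obtain ⟨p, hp, hpt⟩ := Algebra.IsIntegral.isIntegral (R := R) t
  have h1 : IsIntegral V (β t) := by
    refine ⟨p.map α, hp.map _, ?_⟩
    rw [Polynomial.eval₂_map]
    have h2 := congrArg β hpt
    rw [Polynomial.hom_eval₂, map_zero] at h2
    rw [← h2, h]
    rfl
  obtain ⟨y, hy⟩ := IsIntegrallyClosed.isIntegral_iff.mp h1
  exact hy ▸ y.2

/-- The residue field of a valuation ring of an algebraically closed field is algebraically closed. -/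
theorem isAlgClosed_residueField [IsAlgClosed E] : IsAlgClosed (IsLocalRing.ResidueField V) := by
  refine IsAlgClosed.of_exists_root _ fun p hp hirr => ?_
  have hsurj : Function.Surjective (IsLocalRing.residue V) := IsLocalRing.residue_surjective
  obtain ⟨P, hP, hdeg, hPm⟩ := Polynomial.lifts_and_degree_eq_and_monic
    ((Polynomial.lifts_iff_coeff_lifts p).mpr fun n => hsurj _) hp
  have hd : (P.map (algebraMap V E)).degree ≠ 0 := by
    rw [Polynomial.degree_map_eq_of_injective (IsFractionRing.injective V E), hdeg]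
    exact (Polynomial.degree_pos_of_irreducible hirr).ne'
  obtain ⟨e, he⟩ := IsAlgClosed.exists_root _ hd
  rw [Polynomial.IsRoot, Polynomial.eval_map] at he
  obtain ⟨y, hy⟩ := IsIntegrallyClosed.isIntegral_iff.mp (show IsIntegral V e from ⟨P, hPm, he⟩)
  refine ⟨IsLocalRing.residue V y, ?_⟩
  rw [← hP, Polynomial.eval_map, Polynomial.eval₂_at_apply]
  have : P.eval y = 0 := by
    apply IsFractionRing.injective V E
    rw [map_zero, ← Polynomial.eval₂_at_apply, hy, he]
  rw [this, map_zero]

/-- Points over the residue field of an integral extension of a normal domain lift to the valuation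
ring. -/
theorem exists_lift_integral [IsAlgClosed E] {R T : Type u} [CommRing R] [IsDomain R]
    [IsIntegrallyClosed R] [CommRing T] [IsDomain T] [Algebra R T] [Module.Finite R T]
    (hinj : Function.Injective (algebraMap R T)) (α : R →+* V)
    (θ : T →+* IsLocalRing.ResidueField V)
    (hθ : θ.comp (algebraMap R T) = (IsLocalRing.residue V).comp α) :
    ∃ β : T →+* V, β.comp (algebraMap R T) = α ∧ (IsLocalRing.residue V).comp β = θ := by
  classical
  haveI := isAlgClosed_residueField V
  let K := FractionRing R
  let Kb := AlgebraicClosure K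
  haveI : FaithfulSMul R Kb := (faithfulSMul_iff_algebraMap_injective _ _).mpr
    ((algebraMap K Kb).injective.comp (IsFractionRing.injective R K))
  haveI : FaithfulSMul R T := (faithfulSMul_iff_algebraMap_injective _ _).mpr hinj
  haveI : Algebra.IsIntegral R T := inferInstance
  let ι : T →ₐ[R] Kb := IsAlgClosed.lift
  obtain ⟨s, hs⟩ := (Module.Finite.fg_top (R := R) (M := T))
  let L₀ : IntermediateField K Kb := IntermediateField.adjoin K (s.image ι : Set Kb)
  haveI : FiniteDimensional K L₀ := IntermediateField.finiteDimensional_adjoin fun x hx => by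
    obtain ⟨t, -, rfl⟩ := Finset.mem_image.mp hx
    exact ((Algebra.IsIntegral.isIntegral (R := R) t).map ι).tower_top
  let L : IntermediateField K Kb := IntermediateField.normalClosure K L₀ Kb
  have hrange : ∀ t, ι t ∈ L := fun t => by
    have ht : t ∈ Submodule.span R (s : Set T) := hs ▸ Submodule.mem_top
    refine (IntermediateField.le_normalClosure L₀) ?_
    refine Submodule.span_induction (fun y hy => ?_) ?_ ?_ ?_ ht
    · exact IntermediateField.subset_adjoin K _ (Finset.mem_image_of_mem ι hy)
    · rw [map_zero]; exact zero_mem _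
    · intro a b _ _ ha hb; rw [map_add]; exact add_mem ha hb
    · intro r a _ ha
      rw [map_smul, ← algebraMap_smul K r (ι a)]
      exact L₀.smul_mem ha
  let T' := integralClosure R L
  let ι' : T →ₐ[R] L :=
    { toRingHom := ι.toRingHom.codRestrict L.toSubfield.toSubring hrange
      commutes' := fun r => Subtype.ext ((ι.commutes r).trans rfl) }
  let j : T →ₐ[R] T' := ι'.codRestrict T' fun t => (Algebra.IsIntegral.isIntegral (R := R) t).map ι'
  have hιinj : Function.Injective ι := by
    refine (RingHom.injective_iff_ker_eq_bot ι.toRingHom).mpr (Ideal.eq_bot_of_comap_eq_bot (R := R) ?_)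
    refine le_bot_iff.mp fun r hr => ?_
    have h0 : ι (algebraMap R T r) = 0 := hr
    rw [ι.commutes] at h0
    exact (FaithfulSMul.algebraMap_injective R Kb) (h0.trans (map_zero _).symm)
  have hjinj : Function.Injective j := fun a b h =>
    hιinj (congrArg (fun z : T' => ((z : L) : Kb)) h)
  haveI : Algebra.IsIntegral R T' := inferInstance
  letI : Algebra T T' := j.toRingHom.toAlgebra
  haveI : IsScalarTower R T T' := IsScalarTower.of_algebraMap_eq fun r => (j.commutes r).symm
  haveI : Algebra.IsIntegral T T' := ⟨fun x => IsIntegral.tower_top (Algebra.IsIntegral.isIntegral (R := R) x)⟩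
  have hRT' : Function.Injective (algebraMap R T') := fun a b h =>
    hinj (hjinj (by rwa [AlgHom.commutes, AlgHom.commutes]))
  obtain ⟨β₀, hβ₀⟩ := exists_extension_of_isIntegral (T := T') hRT' (V.subtype.comp α)
  let β₁ : T' →+* V := β₀.codRestrict V.toSubring (mem_of_isIntegral V α β₀ hβ₀)
  have hβ₁ : β₁.comp (algebraMap R T') = α := RingHom.ext fun r => Subtype.ext (RingHom.congr_fun hβ₀ r)
  obtain ⟨θ', hθ'⟩ := exists_extension_of_isIntegral (T := T') (E := IsLocalRing.ResidueField V) hjinj θ
  let G := L ≃ₐ[K] L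
  haveI : Finite G := inferInstance
  let ρ : G → (T' →+* T') := fun g =>
    ((g.toAlgHom.restrictScalars R).comp T'.val).toRingHom.codRestrict T'.toSubring
      fun x => x.2.map (g.toAlgHom.restrictScalars R)
  have hagree : ∀ c, (∀ g, ρ g c = c) → ((IsLocalRing.residue V).comp β₁) c = θ' c := by
    intro c hc
    have hR : ∀ r, ((IsLocalRing.residue V).comp β₁) (algebraMap R T' r) = θ' (algebraMap R T' r) := fun r => by
      rw [RingHom.comp_apply, ← RingHom.comp_apply β₁, hβ₁, ← RingHom.comp_apply (IsLocalRing.residue V) α,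
        ← hθ, RingHom.comp_apply, ← hθ', RingHom.comp_apply]
      exact congrArg θ' (IsScalarTower.algebraMap_apply R T T' r).symm
    obtain ⟨q, hq⟩ := ExpChar.exists K
    haveI : Normal K L := inferInstance
    have hint : IsIntegral K (c : L) := Algebra.IsIntegral.isIntegral _
    have hsep : (minpoly K (c : L)).natSepDegree = 1 := by
      rw [Polynomial.natSepDegree_eq_of_splits (E := L) _ (Normal.splits ‹_› (c : L))]
      have : ((minpoly K (c : L)).aroots L).toFinset = {(c : L)} := by
        ext y
        rw [Multiset.mem_toFinset, Polynomial.mem_aroots, Finset.mem_singleton]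
        refine ⟨fun ⟨_, hy⟩ => ?_, fun hy => by subst hy; exact ⟨minpoly.ne_zero hint, minpoly.aeval K _⟩⟩
        obtain ⟨σ, hσ⟩ := minpoly.exists_algEquiv_of_root' hint.isAlgebraic hy
        rw [← hσ]
        exact congrArg Subtype.val (hc σ)
      rw [this, Finset.card_singleton]
    obtain ⟨n, y, hy⟩ := (minpoly.natSepDegree_eq_one_iff_pow_mem q).mp hsep
    have hy' : IsIntegral R y := by
      refine (isIntegral_algHom_iff (IsScalarTower.toAlgHom R K L) (algebraMap K L).injective).mp ?_
      rw [IsScalarTower.coe_toAlgHom', hy]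
      exact IsIntegral.pow c.2 _
    obtain ⟨r, rfl⟩ := IsIntegrallyClosed.isIntegral_iff.mp hy'
    have hcr : c ^ q ^ n = algebraMap R T' r := Subtype.ext
      (hy.symm.trans (IsScalarTower.algebraMap_apply R K L r).symm)
    rcases hq with _ | ⟨hp⟩
    · rw [one_pow, pow_one] at hcr
      rw [hcr]
      exact hR r
    haveI : CharP R q := RingHom.charP (algebraMap R K) (IsFractionRing.injective R K) q
    haveI := Fact.mk hp
    haveI : CharP (IsLocalRing.ResidueField V) q :=
      CharP.of_ringHom_of_ne_zero ((IsLocalRing.residue V).comp α) q hp.ne_zero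
    haveI : ExpChar (IsLocalRing.ResidueField V) q := ExpChar.prime hp
    haveI : IsReduced (IsLocalRing.ResidueField V) := inferInstance
    have h1 : ((IsLocalRing.residue V).comp β₁ c - θ' c) ^ q ^ n = 0 := by
      rw [sub_pow_expChar_pow, ← map_pow, ← map_pow, hcr, hR, sub_self]
    exact sub_eq_zero.mp (eq_zero_of_pow_eq_zero h1)
  obtain ⟨g, hg⟩ := exists_eq_comp_of_eqOn_fixed ρ (RingHom.ext fun x => rfl)
    (fun g k => RingHom.ext fun x => rfl) _ θ' hagree
  refine ⟨(β₁.comp (ρ g)).comp j.toRingHom, RingHom.ext fun r => ?_, ?_⟩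
  · show β₁ (ρ g (j (algebraMap R T r))) = α r
    rw [j.commutes, ← hβ₁]
    refine congrArg β₁ (Subtype.ext ?_)
    show g (algebraMap R L r) = algebraMap R L r
    rw [IsScalarTower.algebraMap_apply R K L, g.commutes]
  · rw [← RingHom.comp_assoc, ← RingHom.comp_assoc, ← hg]
    exact hθ'

end Groth.Agent.H06EGA14
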