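import Mathlib
import Groth.Prelude.Def_EGA43
import Groth.Agent.H06EGA14.Lifting
import Groth.Agent.H28Top.Spectral

/-!
# Universal openness from lifting of geometric points over valuation rings (EGA IV 14.5.1)
-/

set_option autoImplicit false
set_option linter.style.haveILetI false
set_option synthInstance.maxHeartbeats 200000
universe u

open CategoryTheory CategoryTheory.Limits AlgebraicGeometry TopologicalSpace Topology TensorProduct

namespace Groth.Agent.H06EGA14

/-- Points over the residue fields of valuation rings with algebraically closed fraction field lift. -/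
def GeomLifts (A₀ : Type u) {C : Type u} [CommRing A₀] [CommRing C] [Algebra A₀ C] (c : Ideal C) : Prop :=
  ∀ (E : Type u) [Field E] [IsAlgClosed E] (V : ValuationSubring E) (α : A₀ →+* V)
    (θ : C →+* IsLocalRing.ResidueField V),
    θ.comp (algebraMap A₀ C) = (IsLocalRing.residue V).comp α → RingHom.ker θ = c →
    ∃ β : C →+* V, β.comp (algebraMap A₀ C) = α ∧ (IsLocalRing.residue V).comp β = θ

/-- Generizations lift to points off `V(b)`. -/
theorem exists_prime_of_geomLifts {A₀ C A' : Type u} [CommRing A₀] [CommRing C] [CommRing A']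
    [Algebra A₀ C] [Algebra A₀ A'] {c : Ideal C} (h : GeomLifts A₀ c) (b : C ⊗[A₀] A')
    (P : Ideal (C ⊗[A₀] A')) [P.IsPrime] (hb : b ∉ P)
    (hPc : P.comap (Algebra.TensorProduct.includeLeft (R := A₀) (S := A₀) : C →ₐ[A₀] C ⊗[A₀] A') = c)
    (q : Ideal A') [q.IsPrime]
    (hq : q ≤ P.comap (Algebra.TensorProduct.includeRight : A' →ₐ[A₀] C ⊗[A₀] A')) :
    ∃ Q : Ideal (C ⊗[A₀] A'), Q.IsPrime ∧ b ∉ Q ∧
      Q.comap (Algebra.TensorProduct.includeRight : A' →ₐ[A₀] C ⊗[A₀] A') = q := by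
  classical
  let L₀ := P.ResidueField
  let π : C ⊗[A₀] A' →+* L₀ := algebraMap _ _
  let ψ : A' →+* L₀ := π.comp (Algebra.TensorProduct.includeRight : A' →ₐ[A₀] C ⊗[A₀] A').toRingHom
  let p := RingHom.ker ψ
  haveI : p.IsPrime := RingHom.ker_isPrime ψ
  letI : Algebra (A' ⧸ p) L₀ := (RingHom.kerLift ψ).toAlgebra
  haveI : FaithfulSMul (A' ⧸ p) L₀ := (faithfulSMul_iff_algebraMap_injective _ _).mpr (RingHom.kerLift_injective ψ)
  obtain ⟨τ, t, ht⟩ := exists_isTranscendenceBasis' (A' ⧸ p) L₀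
  have hqp : q ≤ p := fun a ha => (Ideal.algebraMap_residueField_eq_zero (I := P)).mpr (hq ha)
  haveI : IsDomain (A' ⧸ q) := Ideal.Quotient.isDomain q
  let R₂ := MvPolynomial τ (A' ⧸ q)
  let e₂ : R₂ →+* L₀ := MvPolynomial.eval₂Hom (Ideal.Quotient.lift q ψ fun a ha => hqp ha) t
  let P₂ := RingHom.ker e₂
  haveI : P₂.IsPrime := RingHom.ker_isPrime e₂
  let F₂ := FractionRing R₂
  let E := AlgebraicClosure F₂
  let i₂ : R₂ →+* E := (algebraMap F₂ E).comp (algebraMap R₂ F₂)
  have hi₂ : Function.Injective i₂ := (algebraMap F₂ E).injective.comp (IsFractionRing.injective R₂ F₂)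
  have hunits : ∀ y : P₂.primeCompl, IsUnit (i₂ y) := fun y => isUnit_iff_ne_zero.mpr fun h0 =>
    y.2 (by rw [hi₂ (h0.trans (map_zero i₂).symm)]; exact zero_mem _)
  let iL : Localization.AtPrime P₂ →+* E := IsLocalization.lift (M := P₂.primeCompl) hunits
  obtain ⟨V, hmem, hlocal⟩ := IsLocalRing.exists_factor_valuationRing (R := Localization.AtPrime P₂) iL
  let ρ : R₂ →+* V := (iL.codRestrict V.toSubring hmem).comp (algebraMap R₂ (Localization.AtPrime P₂))
  have hρ : ∀ y, (ρ y : E) = i₂ y := fun y => IsLocalization.lift_eq hunits y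
  haveI := isAlgClosed_residueField V
  have hρker : RingHom.ker ((IsLocalRing.residue V).comp ρ) = P₂ := by
    ext y
    rw [RingHom.mem_ker, RingHom.comp_apply, IsLocalRing.residue_eq_zero_iff,
      ← IsLocalization.AtPrime.to_map_mem_maximal_iff (Localization.AtPrime P₂) P₂ y,
      IsLocalRing.mem_maximalIdeal, IsLocalRing.mem_maximalIdeal, mem_nonunits_iff, mem_nonunits_iff]
    haveI := hlocal
    exact not_congr ⟨fun hu => IsUnit.of_map (iL.codRestrict V.toSubring hmem) _ hu, fun hu => hu.map (iL.codRestrict V.toSubring hmem)⟩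
  -- the residue field of `P` embeds in that of `V`
  let T₂ := Algebra.adjoin (A' ⧸ p) (Set.range t)
  haveI : Algebra.IsAlgebraic T₂ L₀ := ht.isAlgebraic
  let pr : R₂ →+* T₂ := e₂.codRestrict T₂.toSubring fun y => by
    induction y using MvPolynomial.induction_on with
    | C a =>
      obtain ⟨a, rfl⟩ := Ideal.Quotient.mk_surjective a
      rw [MvPolynomial.eval₂Hom_C]
      exact T₂.algebraMap_mem (Ideal.Quotient.mk p a)
    | add f g hf hg => rw [map_add]; exact add_mem hf hg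
    | mul_X f i hf =>
      rw [map_mul, MvPolynomial.eval₂Hom_X']
      exact mul_mem hf (Algebra.subset_adjoin ⟨i, rfl⟩)
  have hpr : Function.Surjective pr := by
    rintro ⟨z, hz⟩
    suffices ∃ y, e₂ y = z from this.imp fun y hy => Subtype.ext hy
    induction hz using Algebra.adjoin_induction with
    | mem z hz => obtain ⟨i, rfl⟩ := hz; exact ⟨MvPolynomial.X i, MvPolynomial.eval₂Hom_X' _ _ i⟩
    | algebraMap a =>
      obtain ⟨a, rfl⟩ := Ideal.Quotient.mk_surjective a
      exact ⟨MvPolynomial.C (Ideal.Quotient.mk q a), MvPolynomial.eval₂Hom_C _ _ _⟩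
    | add x y _ _ hx hy =>
      obtain ⟨f, rfl⟩ := hx; obtain ⟨g, rfl⟩ := hy; exact ⟨f + g, map_add _ _ _⟩
    | mul x y _ _ hx hy =>
      obtain ⟨f, rfl⟩ := hx; obtain ⟨g, rfl⟩ := hy; exact ⟨f * g, map_mul _ _ _⟩
  have hprker : RingHom.ker pr ≤ RingHom.ker ((IsLocalRing.residue V).comp ρ) := fun y hy =>
    hρker.ge (congrArg Subtype.val hy : e₂ y = 0)
  let κT : T₂ →+* IsLocalRing.ResidueField V := pr.liftOfSurjective hpr ⟨(IsLocalRing.residue V).comp ρ, hprker⟩
  have hκTcomp : ∀ y, κT (pr y) = IsLocalRing.residue V (ρ y) := fun y =>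
    RingHom.congr_fun (pr.liftOfRightInverse_comp _ (Function.rightInverse_surjInv hpr)
      ⟨(IsLocalRing.residue V).comp ρ, hprker⟩) y
  letI : Algebra T₂ (IsLocalRing.ResidueField V) := κT.toAlgebra
  haveI : Module.IsTorsionFree T₂ (IsLocalRing.ResidueField V) := by
    haveI : FaithfulSMul T₂ (IsLocalRing.ResidueField V) := by
      refine (faithfulSMul_iff_algebraMap_injective _ _).mpr ((injective_iff_map_eq_zero κT).mpr fun z hz => ?_)
      obtain ⟨y, rfl⟩ := hpr z
      exact Subtype.ext (hρker.le ((hκTcomp y).symm.trans hz) : e₂ y = 0)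
    infer_instance
  let ε : L₀ →ₐ[T₂] IsLocalRing.ResidueField V := IsAlgClosed.lift
  have hε : ∀ y, ε (e₂ y) = IsLocalRing.residue V (ρ y) := fun y =>
    (ε.commutes (pr y)).trans (hκTcomp y)
  -- the two homomorphisms
  let α' : A' →+* V := ρ.comp (MvPolynomial.C.comp (Ideal.Quotient.mk q))
  let θ : C →+* IsLocalRing.ResidueField V := ε.toRingHom.comp
    (π.comp (Algebra.TensorProduct.includeLeft (R := A₀) (S := A₀) : C →ₐ[A₀] C ⊗[A₀] A').toRingHom)
  have hα'res : ∀ a, IsLocalRing.residue V (α' a) = ε (ψ a) := fun a => by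
    show IsLocalRing.residue V (ρ (MvPolynomial.C (Ideal.Quotient.mk q a))) = _
    rw [← hε]
    exact congrArg ε (MvPolynomial.eval₂Hom_C _ _ _)
  obtain ⟨β, hβ, hβθ⟩ := h E V (α'.comp (algebraMap A₀ A')) θ (RingHom.ext fun a => by
      refine Eq.trans ?_ (hα'res (algebraMap A₀ A' a)).symm
      show ε (π ((Algebra.TensorProduct.includeLeft (R := A₀) (S := A₀) : C →ₐ[A₀] C ⊗[A₀] A') (algebraMap A₀ C a))) =
        ε (π ((Algebra.TensorProduct.includeRight : A' →ₐ[A₀] C ⊗[A₀] A') (algebraMap A₀ A' a)))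
      rw [AlgHom.commutes, AlgHom.commutes]) (by
      rw [RingHom.ker_comp_of_injective _ ε.toRingHom.injective, ← hPc]
      ext x
      exact Ideal.algebraMap_residueField_eq_zero)
  letI : Algebra A₀ V := (α'.comp (algebraMap A₀ A')).toAlgebra
  let βa : C →ₐ[A₀] V := { β with commutes' := fun a => RingHom.congr_fun hβ a }
  let αa : A' →ₐ[A₀] V := { α' with commutes' := fun a => rfl }
  let Θ : C ⊗[A₀] A' →ₐ[A₀] V := Algebra.TensorProduct.lift βa αa fun _ _ => Commute.all _ _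
  have hΘ : ∀ z, IsLocalRing.residue V (Θ z) = ε (π z) := by
    intro z
    induction z with
    | zero => simp
    | add x y hx hy => simp [map_add, hx, hy]
    | tmul x a =>
      rw [Algebra.TensorProduct.lift_tmul, map_mul]
      show IsLocalRing.residue V (β x) * IsLocalRing.residue V (α' a) = _
      rw [show IsLocalRing.residue V (β x) = θ x from RingHom.congr_fun hβθ x, hα'res]
      show ε (π (x ⊗ₜ[A₀] (1 : A'))) * ε (π ((1 : C) ⊗ₜ[A₀] a)) = _
      rw [← map_mul, ← map_mul, Algebra.TensorProduct.tmul_mul_tmul, mul_one, one_mul]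
  refine ⟨RingHom.ker Θ.toRingHom, RingHom.ker_isPrime _, fun hbQ => hb ?_, ?_⟩
  · have h1 := hΘ b
    rw [show Θ b = 0 from hbQ, map_zero] at h1
    exact (Ideal.algebraMap_residueField_eq_zero (I := P)).mp ((map_eq_zero ε).mp h1.symm)
  · ext a
    show Θ ((1 : C) ⊗ₜ[A₀] a) = 0 ↔ a ∈ q
    rw [Algebra.TensorProduct.lift_tmul, map_one, one_mul]
    show ρ (MvPolynomial.C (Ideal.Quotient.mk q a)) = 0 ↔ _
    rw [← Subtype.coe_inj, hρ]
    refine (map_eq_zero_iff i₂ hi₂).trans ?_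
    rw [MvPolynomial.C_eq_zero, Ideal.Quotient.eq_zero_iff_mem]

/-- Universal openness of a morphism locally of finite presentation at a point where geometric points
lift over valuation rings. -/
theorem isUnivOpenAt_of_geomLifts {X Y : Scheme.{u}} (f : X ⟶ Y) [LocallyOfFinitePresentation f]
    {W : Y.Opens} (hW : IsAffineOpen W) {V : X.Opens} (hV : IsAffineOpen V) (hVW : V ≤ f ⁻¹ᵁ W)
    (c : Spec Γ(X, V))
    (h : letI := (f.appLE W V hVW).hom.toAlgebra
      GeomLifts Γ(Y, W) c.asIdeal) :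
    EGA43.IsUnivOpenAt f (hV.fromSpec c) := by
  letI := (f.appLE W V hVW).hom.toAlgebra
  haveI hfp : Algebra.FinitePresentation Γ(Y, W) Γ(X, V) := f.finitePresentation_appLE hW hV hVW
  have hsq : Spec.map (CommRingCat.ofHom (algebraMap Γ(Y, W) Γ(X, V))) ≫ hW.fromSpec =
      hV.fromSpec ≫ f := IsAffineOpen.SpecMap_appLE_fromSpec f hW hV hVW
  have hxV : hV.fromSpec c ∈ V := show hV.fromSpec c ∈ (V : Set X) from
    hV.range_fromSpec ▸ Set.mem_range_self c
  intro Y' g x' hx'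
  have hy' : g (pullback.snd f g x') ∈ W := by
    rw [← Scheme.Hom.comp_apply (pullback.snd f g) g, ← pullback.condition, Scheme.Hom.comp_apply, hx']
    exact hVW hxV
  obtain ⟨(W' : Y'.Opens), (hW' : IsAffineOpen W'), hyW', hW'W⟩ := Opens.isBasis_iff_nbhd.mp
    Y'.isBasis_affineOpens (show pullback.snd f g x' ∈ g ⁻¹ᵁ W from hy')
  letI := (g.appLE W W' hW'W).hom.toAlgebra
  let B := Γ(Y', W')
  have hk : hW'.fromSpec ≫ g = Spec.map (CommRingCat.ofHom (algebraMap Γ(Y, W) B)) ≫ hW.fromSpec :=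
    (IsAffineOpen.SpecMap_appLE_fromSpec g hW hW' hW'W).symm
  let m := pullback.map (Spec.map (CommRingCat.ofHom (algebraMap Γ(Y, W) Γ(X, V))))
    (Spec.map (CommRingCat.ofHom (algebraMap Γ(Y, W) B))) f g hV.fromSpec hW'.fromSpec hW.fromSpec hsq hk.symm
  let j := (pullbackSpecIso Γ(Y, W) Γ(X, V) B).inv ≫ m
  have hj1 : j ≫ pullback.fst f g = Spec.map (CommRingCat.ofHom
      (Algebra.TensorProduct.includeLeft (R := Γ(Y, W)) (S := Γ(Y, W)) :
        Γ(X, V) →ₐ[Γ(Y, W)] Γ(X, V) ⊗[Γ(Y, W)] B).toRingHom) ≫ hV.fromSpec := by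
    simp only [j, m, Category.assoc, pullback.lift_fst]
    rw [pullbackSpecIso_inv_fst_assoc]
    rfl
  have hj2 : j ≫ pullback.snd f g = Spec.map (CommRingCat.ofHom
      (Algebra.TensorProduct.includeRight : B →ₐ[Γ(Y, W)] Γ(X, V) ⊗[Γ(Y, W)] B).toRingHom) ≫ hW'.fromSpec := by
    simp only [j, m, Category.assoc, pullback.lift_snd]
    rw [pullbackSpecIso_inv_snd_assoc]
    rfl
  have hjr : Set.range j = pullback.fst f g ⁻¹' Set.range hV.fromSpec ∩ pullback.snd f g ⁻¹' Set.range hW'.fromSpec := by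
    rw [Scheme.Hom.comp_base, TopCat.coe_comp, Set.range_comp,
      (Set.range_eq_univ.mpr (Scheme.homeoOfIso (pullbackSpecIso Γ(Y, W) Γ(X, V) B).symm).surjective :
        Set.range ⇑(pullbackSpecIso Γ(Y, W) Γ(X, V) B).inv = Set.univ),
      Set.image_univ]
    exact Scheme.Pullback.range_map _ _ _ _ _ _ _ _ _
  obtain ⟨P, rfl⟩ : x' ∈ Set.range j := by
    rw [hjr, hV.range_fromSpec, hW'.range_fromSpec]
    exact ⟨by rw [Set.mem_preimage, hx']; exact hxV, hyW'⟩
  intro N hN
  obtain ⟨_, ⟨b, rfl⟩, hPb, hbN⟩ := PrimeSpectrum.isTopologicalBasis_basic_opens.mem_nhds_iff.mp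
    (j.continuous.continuousAt.preimage_mem_nhds hN)
  let ρ := (Algebra.TensorProduct.includeRight : B →ₐ[Γ(Y, W)] Γ(X, V) ⊗[Γ(Y, W)] B).toRingHom
  let S : Set (PrimeSpectrum B) := PrimeSpectrum.comap ρ '' (PrimeSpectrum.basicOpen b : Set _)
  have hS : IsConstructible S := by
    refine PrimeSpectrum.isConstructible_comap_image ?_ PrimeSpectrum.isConstructible_basicOpen
    have h1 : (algebraMap B (B ⊗[Γ(Y, W)] Γ(X, V))).FinitePresentation :=
      RingHom.finitePresentation_algebraMap.mpr inferInstance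
    let e := (Algebra.TensorProduct.comm Γ(Y, W) B Γ(X, V)).toRingEquiv
    have h2 : ρ = e.toRingHom.comp (algebraMap B (B ⊗[Γ(Y, W)] Γ(X, V))) :=
      RingHom.ext fun a => rfl
    rw [h2]
    exact RingHom.finitePresentation_respectsIso.1 _ e h1
  haveI : P.asIdeal.IsPrime := P.2
  have hgen : ∀ q, q ⤳ PrimeSpectrum.comap ρ P → q ∈ S := by
    intro q hq
    haveI : q.asIdeal.IsPrime := q.2
    have hPc : P.asIdeal.comap (Algebra.TensorProduct.includeLeft (R := Γ(Y, W)) (S := Γ(Y, W)) :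
        Γ(X, V) →ₐ[Γ(Y, W)] Γ(X, V) ⊗[Γ(Y, W)] B) = c.asIdeal := by
      have h4 := hx'
      rw [← Scheme.Hom.comp_apply, hj1, Scheme.Hom.comp_apply] at h4
      exact congrArg PrimeSpectrum.asIdeal (hV.fromSpec.isEmbedding.injective h4)
    obtain ⟨Q, hQ, hbQ, hQq⟩ := exists_prime_of_geomLifts h b P.asIdeal hPb hPc q.asIdeal
      ((PrimeSpectrum.le_iff_specializes q (PrimeSpectrum.comap ρ P)).mpr hq)
    exact ⟨⟨Q, hQ⟩, hbQ, PrimeSpectrum.ext hQq⟩
  have hnhd : S ∈ 𝓝 (PrimeSpectrum.comap ρ P) := by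
    rw [mem_nhds_iff]
    refine ⟨(closure Sᶜ)ᶜ, Set.compl_subset_comm.mp subset_closure, isClosed_closure.isOpen_compl,
      fun hmem => ?_⟩
    obtain ⟨e, he, hsp⟩ := H28Top.exists_specializes_of_mem_closure
      (H28Top.isClosed_constr_of_isConstructible hS.compl) hmem
    exact he (hgen e hsp)
  have hmem := hW'.fromSpec.isOpenEmbedding.isOpenMap.image_mem_nhds hnhd
  have hpt : hW'.fromSpec (PrimeSpectrum.comap ρ P) = pullback.snd f g (j P) := by
    rw [← Scheme.Hom.comp_apply j, hj2]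
    rfl
  rw [← hpt]
  refine Filter.mem_of_superset hmem ?_
  rintro _ ⟨_, ⟨Q, hQ, rfl⟩, rfl⟩
  exact ⟨j Q, hbN hQ, congrArg (fun φ : Spec (CommRingCat.of (Γ(X, V) ⊗[Γ(Y, W)] B)) ⟶ Y' => φ Q) hj2⟩

end Groth.Agent.H06EGA14
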