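import Mathlib
import Groth.Prelude.Def_CAlg2
import Groth.Agent.H06EGA14.Lifting
import Groth.Agent.H7Flat.SpecializationDense

/-!
# Lifting points over valuation rings above geometrically unibranch points (EGA IV 14.4.1)
-/

set_option autoImplicit false
set_option linter.style.haveILetI false
set_option synthInstance.maxHeartbeats 200000
universe u

namespace Groth.Agent.H06EGA14

theorem isIntegrallyClosed_mvPolynomial (R : Type u) [CommRing R] [IsDomain R] [IsIntegrallyClosed R]
    (σ : Type u) [Finite σ] : IsIntegrallyClosed (MvPolynomial σ R) :=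
  haveI := H7Flat.isIntegrallyClosed_mvPolynomial_fin R (Nat.card σ)
  IsIntegrallyClosed.of_equiv (MvPolynomial.renameEquiv R (Finite.equivFin σ).symm).toRingEquiv

variable {E : Type u} [Field E] [IsAlgClosed E] (V : ValuationSubring E)

/-- Lifting to a domain which is birational to an integral extension of a polynomial ring over a normal
domain. -/
theorem exists_lift_polynomial {A' D : Type u} [CommRing A'] [IsDomain A'] [IsIntegrallyClosed A']
    [CommRing D] [IsDomain D] (σ : Type u) [Finite σ] (e : MvPolynomial σ A' →+* D)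
    (he : Function.Injective e) (s : Finset D) (hs : ∀ z ∈ s, e.IsIntegralElem z) (r : D)
    (hr : r ∈ Subring.closure (Set.range e ∪ (s : Set D)))
    (hclear : ∀ d : D, ∃ m : ℕ, r ^ m * d ∈ Subring.closure (Set.range e ∪ (s : Set D)))
    (α' : A' →+* V) (θ : D →+* IsLocalRing.ResidueField V)
    (hθ : θ.comp (e.comp MvPolynomial.C) = (IsLocalRing.residue V).comp α') (hθr : θ r ≠ 0) :
    ∃ β : D →+* V, β.comp (e.comp MvPolynomial.C) = α' ∧ (IsLocalRing.residue V).comp β = θ := by
  classical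
  haveI := isIntegrallyClosed_mvPolynomial A' σ
  let R := MvPolynomial σ A'
  letI : Algebra R D := e.toAlgebra
  let T₀ : Subalgebra R D := Algebra.adjoin R (s : Set D)
  have hmem : ∀ d, d ∈ Subring.closure (Set.range e ∪ (s : Set D)) → d ∈ T₀ := fun d hd => by
    refine (Subring.closure_le.mpr ?_ : _ ≤ T₀.toSubring) hd
    rintro x (⟨y, rfl⟩ | hx)
    · exact T₀.algebraMap_mem y
    · exact Algebra.subset_adjoin hx
  haveI : Module.Finite R T₀ :=
    ⟨(Submodule.fg_top _).mpr (fg_adjoin_of_finite s.finite_toSet fun z hz => hs z hz)⟩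
  choose v hv using fun i => IsLocalRing.residue_surjective (θ (e (MvPolynomial.X i)))
  let αR : R →+* V := MvPolynomial.eval₂Hom α' v
  have hcompat : (θ.comp T₀.val.toRingHom).comp (algebraMap R T₀) = (IsLocalRing.residue V).comp αR := by
    refine MvPolynomial.ringHom_ext (fun a => ?_) fun i => ?_
    · exact (RingHom.congr_fun hθ a).trans
        (congrArg _ (MvPolynomial.eval₂Hom_C α' v a).symm)
    · exact (hv i).symm.trans (congrArg _ (MvPolynomial.eval₂Hom_X' α' v i).symm)
  obtain ⟨β₁, hβ₁, hβ₁θ⟩ := exists_lift_integral V (R := R) (T := T₀)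
    (fun a b h => he (congrArg Subtype.val h)) αR (θ.comp T₀.val.toRingHom) hcompat
  let r₀ : T₀ := ⟨r, hmem r hr⟩
  have hr0 : r ≠ 0 := fun h => hθr (by rw [h, map_zero])
  have hr₀u : IsUnit (β₁ r₀) := by
    rw [← IsLocalRing.residue_ne_zero_iff_isUnit]
    exact fun h => hθr ((RingHom.congr_fun hβ₁θ r₀).symm.trans h)
  choose m hm using hclear
  have hind : ∀ (d : D) (k : ℕ) (hk : r ^ k * d ∈ T₀),
      β₁ ⟨r ^ m d * d, hmem _ (hm d)⟩ * β₁ r₀ ^ k = β₁ ⟨r ^ k * d, hk⟩ * β₁ r₀ ^ m d := fun d k hk => by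
    rw [← map_pow, ← map_pow, ← map_mul, ← map_mul]
    exact congrArg β₁ (Subtype.ext (by simp [r₀]; ring))
  let u := hr₀u.unit
  let β : D → V := fun d => β₁ ⟨r ^ m d * d, hmem _ (hm d)⟩ * ↑(u ^ m d)⁻¹
  have hβ : ∀ (d : D) (k : ℕ) (hk : r ^ k * d ∈ T₀), β d * β₁ r₀ ^ k = β₁ ⟨r ^ k * d, hk⟩ := fun d k hk => by
    show β₁ _ * ↑(u ^ m d)⁻¹ * β₁ r₀ ^ k = _
    rw [mul_right_comm, hind d k hk, show β₁ r₀ ^ m d = ↑(u ^ m d) by simp [u], Units.mul_inv_cancel_right]
  have hT₀ : ∀ t : T₀, β t = β₁ t := fun t => by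
    have h1 := hβ t 0 (by simp)
    simp only [pow_zero, mul_one] at h1
    rw [h1]
    congr 1
    exact Subtype.ext (one_mul _)
  have hcancel : ∀ {a b : V} (k : ℕ), a * β₁ r₀ ^ k = b * β₁ r₀ ^ k → a = b := fun k h =>
    (hr₀u.pow k).mul_left_injective h
  let βh : D →+* V :=
    { toFun := β
      map_one' := (hT₀ 1).trans (map_one _)
      map_zero' := (hT₀ 0).trans (map_zero _)
      map_mul' := fun a b => by
        refine hcancel (m a + m b) ?_
        rw [hβ (a * b) (m a + m b) (by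
          rw [show r ^ (m a + m b) * (a * b) = r ^ m a * a * (r ^ m b * b) by ring]
          exact mul_mem (hmem _ (hm a)) (hmem _ (hm b)))]
        rw [show β a * β b * β₁ r₀ ^ (m a + m b) = (β a * β₁ r₀ ^ m a) * (β b * β₁ r₀ ^ m b) by ring,
          hβ a _ (hmem _ (hm a)), hβ b _ (hmem _ (hm b)), ← map_mul]
        exact congrArg β₁ (Subtype.ext (by simp; ring))
      map_add' := fun a b => by
        refine hcancel (m a + m b) ?_
        have ha : r ^ (m a + m b) * a ∈ T₀ := by
          rw [show r ^ (m a + m b) * a = r ^ m b * (r ^ m a * a) by ring]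
          exact mul_mem (pow_mem r₀.2 _) (hmem _ (hm a))
        have hb : r ^ (m a + m b) * b ∈ T₀ := by
          rw [show r ^ (m a + m b) * b = r ^ m a * (r ^ m b * b) by ring]
          exact mul_mem (pow_mem r₀.2 _) (hmem _ (hm b))
        rw [add_mul, hβ a _ ha, hβ b _ hb, hβ (a + b) (m a + m b) (by rw [mul_add]; exact add_mem ha hb),
          ← map_add]
        exact congrArg β₁ (Subtype.ext (by simp; ring)) }
  refine ⟨βh, RingHom.ext fun a => ?_, RingHom.ext fun d => ?_⟩
  · show β (algebraMap R T₀ (MvPolynomial.C a) : T₀) = α' a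
    rw [hT₀]
    exact (RingHom.congr_fun hβ₁ _).trans (MvPolynomial.eval₂Hom_C α' v a)
  · have h1 := congrArg (IsLocalRing.residue V) (hβ d (m d) (hmem _ (hm d)))
    rw [map_mul, map_pow, ← RingHom.comp_apply _ β₁ r₀, ← RingHom.comp_apply _ β₁, hβ₁θ] at h1
    simp only [RingHom.comp_apply] at h1
    change IsLocalRing.residue V (β d) * θ r ^ m d = θ (r ^ m d * d) at h1
    rw [map_mul θ, map_pow θ, mul_comm (θ r ^ m d) (θ d)] at h1
    show IsLocalRing.residue V (β₁ _ * ↑(u ^ m d)⁻¹) = θ d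
    rw [map_mul]
    exact mul_right_cancel₀ (pow_ne_zero _ hθr) h1

theorem exists_map_integralClosure {R F : Type u} [CommRing R] [IsDomain R] [Field F] (f : R →+* F)
    (hf : Function.Injective f) :
    ∃ η : integralClosure R (FractionRing R) →+* F,
      ∀ a, η (algebraMap R (integralClosure R (FractionRing R)) a) = f a :=
  ⟨(IsFractionRing.lift hf).comp (integralClosure R (FractionRing R)).val.toRingHom,
    fun a => IsFractionRing.lift_algebraMap hf a⟩

theorem nilradical_ne_top (A : Type u) [CommRing A] [Nontrivial A] : nilradical A ≠ ⊤ := fun h => by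
  obtain ⟨n, hn⟩ := mem_nilradical.mp (h ▸ Submodule.mem_top : (1 : A) ∈ nilradical A)
  exact one_ne_zero ((one_pow n).symm.trans hn)

/-- Over a geometrically unibranch local ring the residue of the normalisation is determined. -/
theorem eq_of_comp_eq_of_isGeomUnibranch {A Ω : Type u} [CommRing A] [IsLocalRing A] [Field Ω]
    (hA : CAlg2.IsGeomUnibranch A) (χ₁ χ₂ : CAlg2.normRed A →+* Ω) (χ : A →+* Ω)
    (hχ : RingHom.ker χ = IsLocalRing.maximalIdeal A)
    (h₁ : ∀ a, χ₁ (algebraMap (CAlg2.red A) (CAlg2.normRed A) (Ideal.Quotient.mk _ a)) = χ a)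
    (h₂ : ∀ a, χ₂ (algebraMap (CAlg2.red A) (CAlg2.normRed A) (Ideal.Quotient.mk _ a)) = χ a) :
    χ₁ = χ₂ := by
  obtain ⟨⟨_, _⟩, hpi⟩ := hA
  have hmax : ∀ ψ : CAlg2.normRed A →+* Ω,
      (∀ a, ψ (algebraMap (CAlg2.red A) (CAlg2.normRed A) (Ideal.Quotient.mk _ a)) = χ a) →
      RingHom.ker ψ = IsLocalRing.maximalIdeal (CAlg2.normRed A) := fun ψ hψ => by
    haveI : (RingHom.ker ψ).IsPrime := RingHom.ker_isPrime ψ
    refine IsLocalRing.eq_maximalIdeal
      (Ideal.isMaximal_of_isIntegral_of_isMaximal_comap (R := CAlg2.red A) _ ?_)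
    have h : ((RingHom.ker ψ).comap (algebraMap (CAlg2.red A) (CAlg2.normRed A))).comap
        (Ideal.Quotient.mk (nilradical A)) = IsLocalRing.maximalIdeal A := by
      rw [← hχ]
      ext a
      rw [Ideal.mem_comap, Ideal.mem_comap, RingHom.mem_ker, RingHom.mem_ker, hψ]
    rw [← Ideal.map_comap_of_surjective _ Ideal.Quotient.mk_surjective
      ((RingHom.ker ψ).comap (algebraMap (CAlg2.red A) (CAlg2.normRed A))), h]
    exact Ideal.IsMaximal.map_of_surjective_of_ker_le Ideal.Quotient.mk_surjective (by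
      rw [Ideal.mk_ker]; exact IsLocalRing.le_maximalIdeal (nilradical_ne_top A))
  let m' := IsLocalRing.maximalIdeal (CAlg2.normRed A)
  letI : Field (CAlg2.normRed A ⧸ m') := Ideal.Quotient.field m'
  let φ₁ : CAlg2.normRed A ⧸ m' →+* Ω := Ideal.Quotient.lift m' χ₁ fun a ha => (hmax _ h₁).ge ha
  let φ₂ : CAlg2.normRed A ⧸ m' →+* Ω := Ideal.Quotient.lift m' χ₂ fun a ha => (hmax _ h₂).ge ha
  suffices φ₁ = φ₂ from RingHom.ext fun a => RingHom.congr_fun this (Ideal.Quotient.mk m' a)
  refine RingHom.ext fun x => ?_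
  obtain ⟨n, b, hb⟩ := hpi m' x
  haveI : ExpChar Ω (ringExpChar (CAlg2.normRed A ⧸ m')) :=
    expChar_of_injective_ringHom φ₁.injective _
  have h : (φ₁ x - φ₂ x) ^ ringExpChar (CAlg2.normRed A ⧸ m') ^ n = 0 := by
    rw [sub_pow_expChar_pow, ← map_pow, ← map_pow, ← hb]
    exact sub_eq_zero.mpr ((h₁ b).trans (h₂ b).symm)
  exact sub_eq_zero.mp (eq_zero_of_pow_eq_zero h)

variable {A₀ C Ω : Type u} [CommRing A₀] [CommRing C] [Algebra A₀ C] [Field Ω]

/-- The localised domain of the component `P₁` above the point `p`. -/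
theorem exists_component_domain (p : Ideal A₀) [p.IsPrime]
    (hred : IsDomain (CAlg2.red (Localization.AtPrime p)))
    (P₁ : Ideal C) [P₁.IsPrime] (hq₀p : P₁.comap (algebraMap A₀ C) ≤ p)
    (hq₀ : P₁.comap (algebraMap A₀ C) ∈ minimalPrimes A₀) (θ : C →+* Ω)
    (hp : RingHom.ker (θ.comp (algebraMap A₀ C)) = p) (hθP : P₁ ≤ RingHom.ker θ) :
    ∃ (D₁ : Type u) (_ : CommRing D₁) (_ : IsDomain D₁) (cF : C →+* D₁)
      (j : CAlg2.red (Localization.AtPrime p) →+* D₁) (θ₁ : D₁ →+* Ω),
      Function.Injective j ∧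
      (∀ a, j (Ideal.Quotient.mk _ (algebraMap A₀ (Localization.AtPrime p) a)) = cF (algebraMap A₀ C a)) ∧
      θ₁.comp cF = θ ∧ (∀ c, cF c = 0 → c ∈ P₁) ∧
      (∀ d, ∃ (c : C) (u : CAlg2.red (Localization.AtPrime p)), d = cF c * j u) ∧
      RingHom.ker (Ideal.Quotient.mk (nilradical (Localization.AtPrime p)) |>.comp
        (algebraMap A₀ (Localization.AtPrime p))) = P₁.comap (algebraMap A₀ C) := by
  classical
  let A := Localization.AtPrime p
  set q₀ := P₁.comap (algebraMap A₀ C) with hq₀def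
  let ιA : A₀ →+* CAlg2.red A := (Ideal.Quotient.mk (nilradical A)).comp (algebraMap A₀ A)
  have hker : RingHom.ker ιA = q₀ := by
    haveI : q₀.IsPrime := Ideal.IsPrime.comap _
    have hle : RingHom.ker ιA ≤ q₀ := fun a ha => by
      obtain ⟨n, hn⟩ := mem_nilradical.mp (Ideal.Quotient.eq_zero_iff_mem.mp ha)
      rw [← map_pow, IsLocalization.map_eq_zero_iff p.primeCompl] at hn
      obtain ⟨t, ht⟩ := hn
      refine Ideal.IsPrime.mem_of_pow_mem ‹_› n ((Ideal.IsPrime.mem_or_mem ‹_› ?_).resolve_left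
        fun h => t.2 (hq₀p h))
      rw [ht]
      exact q₀.zero_mem
    haveI : (RingHom.ker ιA).IsPrime := RingHom.ker_isPrime _
    exact le_antisymm hle (hq₀.2 ⟨inferInstance, bot_le⟩ hle)
  let C₁ := C ⧸ P₁
  haveI : IsDomain C₁ := Ideal.Quotient.isDomain P₁
  let M := p.primeCompl.map ((Ideal.Quotient.mk P₁).comp (algebraMap A₀ C)).toMonoidHom
  have hM : M ≤ nonZeroDivisors C₁ := by
    rintro _ ⟨y, hy, rfl⟩
    refine mem_nonZeroDivisors_of_ne_zero fun h => hy ?_
    exact hq₀p (show algebraMap A₀ C y ∈ P₁ from (Ideal.Quotient.eq_zero_iff_mem (I := P₁)).mp h)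
  let D₁ := Localization M
  haveI : IsDomain D₁ := IsLocalization.isDomain_localization hM
  let cF : C →+* D₁ := (algebraMap C₁ D₁).comp (Ideal.Quotient.mk P₁)
  let θC : C₁ →+* Ω := Ideal.Quotient.lift P₁ θ fun a ha => hθP ha
  let θ₁ : D₁ →+* Ω := IsLocalization.lift (M := M) (g := θC) fun y => by
    obtain ⟨_, a, ha, rfl⟩ := y
    exact isUnit_iff_ne_zero.mpr fun h => ha (hp.le h)
  have hunit : ∀ y : p.primeCompl, IsUnit (cF (algebraMap A₀ C y)) := fun y =>
    IsLocalization.map_units D₁ (⟨_, y, y.2, rfl⟩ : M)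
  let jA : A →+* D₁ :=
    IsLocalization.lift (M := p.primeCompl) (S := A) (g := cF.comp (algebraMap A₀ C)) hunit
  let j : CAlg2.red A →+* D₁ :=
    Ideal.Quotient.lift (nilradical A) jA fun a ha => ((mem_nilradical.mp ha).map jA).eq_zero
  have hjA : ∀ a, jA (algebraMap A₀ A a) = cF (algebraMap A₀ C a) := fun a => IsLocalization.lift_eq hunit a
  have hcF : ∀ c, cF c = 0 → c ∈ P₁ := fun c hc =>
    (Ideal.Quotient.eq_zero_iff_mem (I := P₁)).mp ((IsLocalization.to_map_eq_zero_iff D₁ hM).mp hc)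
  refine ⟨D₁, inferInstance, inferInstance, cF, j, θ₁, ?_, hjA, ?_, hcF, ?_, hker⟩
  · rw [RingHom.injective_iff_ker_eq_bot, eq_bot_iff]
    intro x hx
    obtain ⟨x, rfl⟩ := Ideal.Quotient.mk_surjective x
    obtain ⟨a, t, rfl⟩ := IsLocalization.exists_mk'_eq p.primeCompl x
    have hx' : jA (IsLocalization.mk' A a t) = 0 := hx
    have h1 : cF (algebraMap A₀ C a) = 0 := by
      rw [← hjA, ← IsLocalization.mk'_spec A a t, map_mul, hx', zero_mul]
    have h3 : ιA a = 0 := hker.ge (hcF _ h1 : a ∈ q₀)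
    refine (Submodule.mem_bot _).mpr ?_
    rw [IsLocalization.mk'_eq_mul_mk'_one, map_mul]
    exact mul_eq_zero_of_left h3 _
  · exact RingHom.ext fun c => IsLocalization.lift_eq _ _
  · intro d
    obtain ⟨c, ⟨_, t, ht, rfl⟩, rfl⟩ := IsLocalization.exists_mk'_eq M d
    obtain ⟨c, rfl⟩ := Ideal.Quotient.mk_surjective c
    refine ⟨c, Ideal.Quotient.mk _ (IsLocalization.mk' A 1 ⟨t, ht⟩), ?_⟩
    show _ = cF c * jA (IsLocalization.mk' A 1 ⟨t, ht⟩)
    refine (IsLocalization.mk'_eq_iff_eq_mul).mpr ?_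
    show cF c = cF c * jA _ * cF (algebraMap A₀ C t)
    have h2 : jA (IsLocalization.mk' A 1 ⟨t, ht⟩) * cF (algebraMap A₀ C t) = 1 := by
      rw [← hjA, ← map_mul, IsLocalization.mk'_spec A 1 ⟨t, ht⟩, map_one, map_one]
    rw [mul_assoc, h2, mul_one]

omit [Algebra A₀ C] [Field Ω] in
/-- Clearing denominators: algebraic independence over the reduced local ring. -/
theorem algebraicIndependent_of_comp {D S σ : Type u} [CommRing S] [CommRing D] [IsDomain D]
    (p : Ideal A₀) [p.IsPrime] [IsLocalRing (Localization.AtPrime p)] (x : σ → D)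
    [Algebra (CAlg2.red (Localization.AtPrime p)) D] (h : ∀ g : MvPolynomial σ A₀,
      MvPolynomial.eval₂ ((algebraMap (CAlg2.red (Localization.AtPrime p)) D).comp
        ((Ideal.Quotient.mk _).comp (algebraMap A₀ (Localization.AtPrime p)))) x g = 0 →
      MvPolynomial.map ((Ideal.Quotient.mk (nilradical (Localization.AtPrime p))).comp
        (algebraMap A₀ (Localization.AtPrime p))) g = 0) :
    AlgebraicIndependent (CAlg2.red (Localization.AtPrime p)) x := by
  let A := Localization.AtPrime p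
  rw [algebraicIndependent_iff_injective_aeval, injective_iff_map_eq_zero]
  intro f hf
  obtain ⟨f, rfl⟩ := MvPolynomial.map_surjective _ (Ideal.Quotient.mk_surjective (I := nilradical A)) f
  letI : Algebra (MvPolynomial σ A₀) (MvPolynomial σ A) := (MvPolynomial.map (algebraMap A₀ A)).toAlgebra
  haveI : IsLocalization (p.primeCompl.map (MvPolynomial.C (σ := σ))) (MvPolynomial σ A) :=
    MvPolynomial.isLocalization p.primeCompl A
  obtain ⟨⟨g, ⟨_, t, ht, rfl⟩⟩, hg⟩ :=
    IsLocalization.surj (p.primeCompl.map (MvPolynomial.C (σ := σ))) f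
  change f * MvPolynomial.map (algebraMap A₀ A) (MvPolynomial.C t) =
    MvPolynomial.map (algebraMap A₀ A) g at hg
  have h1 : MvPolynomial.map (Ideal.Quotient.mk (nilradical A)) f *
      MvPolynomial.map ((Ideal.Quotient.mk (nilradical A)).comp (algebraMap A₀ A)) (MvPolynomial.C t) =
      MvPolynomial.map ((Ideal.Quotient.mk (nilradical A)).comp (algebraMap A₀ A)) g := by
    have h2 := congrArg (MvPolynomial.map (Ideal.Quotient.mk (nilradical A))) hg
    rw [map_mul, MvPolynomial.map_map, MvPolynomial.map_map] at h2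
    exact h2
  have h3 := h g (by
    rw [← MvPolynomial.eval₂_map, ← h1, MvPolynomial.eval₂_mul,
      show MvPolynomial.eval₂ (algebraMap (CAlg2.red A) D) x (MvPolynomial.map _ f) = 0 from hf, zero_mul])
  rw [h3, MvPolynomial.map_C] at h1
  have hu : IsUnit (MvPolynomial.C (σ := σ) (((Ideal.Quotient.mk (nilradical A)).comp (algebraMap A₀ A)) t)) :=
    ((IsLocalization.map_units A (⟨t, ht⟩ : p.primeCompl)).map (Ideal.Quotient.mk (nilradical A))).map
      (MvPolynomial.C (σ := σ))
  exact (hu.mul_left_eq_zero).mp h1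

set_option maxHeartbeats 1000000 in
/-- Lifting of points over valuation rings above a geometrically unibranch point, at a point of a
quasi-finite algebra over a polynomial ring dominating the component. -/
theorem exists_lift_of_isGeomUnibranch (p : Ideal A₀) [p.IsPrime]
    (hA : CAlg2.IsGeomUnibranch (Localization.AtPrime p))
    (σ : Type u) [Finite σ] (γ : MvPolynomial σ A₀ →ₐ[A₀] C)
    (P₁ : Ideal C) [P₁.IsPrime] (hq₀p : P₁.comap (algebraMap A₀ C) ≤ p)
    (hq₀ : P₁.comap (algebraMap A₀ C) ∈ minimalPrimes A₀)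
    (hγ : ∀ f, γ f ∈ P₁ → ∀ k, MvPolynomial.coeff k f ∈ P₁.comap (algebraMap A₀ C))
    (s : Finset C) (hs : ∀ z ∈ s, γ.toRingHom.IsIntegralElem z) (r : C)
    (hr : r ∈ Subring.closure (Set.range γ ∪ (s : Set C)))
    (hclear : ∀ c : C, ∃ m : ℕ, r ^ m * c ∈ Subring.closure (Set.range γ ∪ (s : Set C)))
    (α : A₀ →+* V) (θ : C →+* IsLocalRing.ResidueField V)
    (hθ : θ.comp (algebraMap A₀ C) = (IsLocalRing.residue V).comp α)
    (hp : RingHom.ker (θ.comp (algebraMap A₀ C)) = p) (hθr : θ r ≠ 0) (hθP : P₁ ≤ RingHom.ker θ) :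
    ∃ β : C →+* V, β.comp (algebraMap A₀ C) = α ∧ (IsLocalRing.residue V).comp β = θ := by
  classical
  obtain ⟨⟨_, _⟩, -⟩ := id hA
  haveI := isAlgClosed_residueField V
  let A := Localization.AtPrime p
  -- the valuation ring receives the normalisation
  have hαu : ∀ y : p.primeCompl, IsUnit (α y) := fun y => by
    rw [← IsLocalRing.residue_ne_zero_iff_isUnit]
    intro h
    exact y.2 (hp.le (show θ (algebraMap A₀ C y) = 0 from (RingHom.congr_fun hθ y).trans h))
  let αA : A →+* V := IsLocalization.lift (M := p.primeCompl) (S := A) hαu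
  have hαA : ∀ a, αA (algebraMap A₀ A a) = α a := fun a => IsLocalization.lift_eq hαu a
  let αr : CAlg2.red A →+* V := Ideal.Quotient.lift (nilradical A) αA fun a ha =>
    ((mem_nilradical.mp ha).map αA).eq_zero
  obtain ⟨α₀', hα₀'⟩ := exists_extension_of_isIntegral (T := CAlg2.normRed A)
    (fun a b h => IsFractionRing.injective (CAlg2.red A) (FractionRing (CAlg2.red A)) (congrArg Subtype.val h))
    (V.subtype.comp αr)
  obtain ⟨α', hα'⟩ : ∃ α' : CAlg2.normRed A →+* V,
      ∀ a, α' (algebraMap A₀ A a |> Ideal.Quotient.mk (nilradical A) |> algebraMap _ (CAlg2.normRed A)) = α a :=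
    ⟨α₀'.codRestrict V.toSubring (mem_of_isIntegral V αr α₀' hα₀'), fun a =>
      Subtype.ext ((RingHom.congr_fun hα₀' _).trans (congrArg Subtype.val (hαA a)))⟩
  obtain ⟨D₁, _, _, cF, j, θ₁, hjinj, hjι, hθ₁, hcF, hsplit, hker⟩ :=
    exists_component_domain p ‹_› P₁ hq₀p hq₀ θ hp hθP
  let F := FractionRing D₁
  let jF : CAlg2.red A →+* F := (algebraMap D₁ F).comp j
  have hjFinj : Function.Injective jF := (IsFractionRing.injective D₁ F).comp hjinj
  obtain ⟨η, hη⟩ : ∃ η : CAlg2.normRed A →+* F, ∀ a, η (algebraMap _ (CAlg2.normRed A) a) = jF a :=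
    exists_map_integralClosure jF hjFinj
  let S : Subalgebra D₁ F := Algebra.adjoin D₁ (Set.range η)
  have hSint : ∀ z ∈ S, IsIntegral D₁ z := by
    refine fun z hz => (Algebra.adjoin_le (S := integralClosure D₁ F) ?_ hz : z ∈ integralClosure D₁ F)
    rintro _ ⟨a, rfl⟩
    obtain ⟨f, hf, hfa⟩ := Algebra.IsIntegral.isIntegral (R := CAlg2.red A) a
    refine ⟨f.map j, hf.map _, ?_⟩
    rw [Polynomial.eval₂_map]
    have h2 := congrArg η hfa
    rwa [Polynomial.hom_eval₂, map_zero, show η.comp (algebraMap (CAlg2.red A) (CAlg2.normRed A)) = jF from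
      RingHom.ext hη] at h2
  haveI : Algebra.IsIntegral D₁ S :=
    ⟨fun z => (isIntegral_algHom_iff S.val Subtype.val_injective).mp (hSint z z.2)⟩
  obtain ⟨θS, hθS⟩ := exists_extension_of_isIntegral (R := D₁) (T := S)
    (fun a b h => IsFractionRing.injective D₁ F (congrArg Subtype.val h)) θ₁
  let ηS : CAlg2.normRed A →+* S := η.codRestrict S.toSubring fun a => Algebra.subset_adjoin ⟨a, rfl⟩
  have hηS : ∀ u, ηS (algebraMap _ (CAlg2.normRed A) u) = algebraMap D₁ S (j u) := fun u =>
    Subtype.ext (hη u)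
  let gS : C →+* S := (algebraMap D₁ S).comp cF
  let ιA : A₀ →+* CAlg2.normRed A :=
    (algebraMap (CAlg2.red A) (CAlg2.normRed A)).comp ((Ideal.Quotient.mk (nilradical A)).comp (algebraMap A₀ A))
  have hgη : gS.comp (algebraMap A₀ C) = ηS.comp ιA := RingHom.ext fun a => by
    show algebraMap D₁ S (cF (algebraMap A₀ C a)) =
      ηS (algebraMap (CAlg2.red A) (CAlg2.normRed A) (Ideal.Quotient.mk (nilradical A) (algebraMap A₀ A a)))
    rw [hηS, ← hjι]
  have hθgS : θS.comp gS = θ := by rw [← RingHom.comp_assoc, hθS, hθ₁]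
  have hagree : θS.comp ηS = (IsLocalRing.residue V).comp α' := by
    refine eq_of_comp_eq_of_isGeomUnibranch hA _ _ ((IsLocalRing.residue V).comp αA) ?_ ?_ ?_
    · haveI : (RingHom.ker ((IsLocalRing.residue V).comp αA)).IsPrime := RingHom.ker_isPrime _
      refine le_antisymm (IsLocalRing.le_maximalIdeal Ideal.IsPrime.ne_top') ?_
      rw [← Localization.AtPrime.map_eq_maximalIdeal, Ideal.map_le_iff_le_comap]
      intro a ha
      show IsLocalRing.residue V (αA (algebraMap A₀ A a)) = 0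
      rw [hαA]
      exact (RingHom.congr_fun hθ a).symm.trans (hp.ge ha)
    · intro a
      refine RingHom.congr_fun (?_ : (θS.comp ηS).comp ((algebraMap (CAlg2.red A) (CAlg2.normRed A)).comp
        (Ideal.Quotient.mk (nilradical A))) = (IsLocalRing.residue V).comp αA) a
      refine IsLocalization.ringHom_ext p.primeCompl (RingHom.ext fun a => ?_)
      show θS (ηS (ιA a)) = IsLocalRing.residue V (αA (algebraMap A₀ A a))
      rw [hαA, ← RingHom.comp_apply ηS, ← hgη, RingHom.comp_apply, ← RingHom.comp_apply θS, hθgS]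
      exact RingHom.congr_fun hθ a
    · intro a
      refine RingHom.congr_fun (?_ : ((IsLocalRing.residue V).comp α').comp ((algebraMap (CAlg2.red A) (CAlg2.normRed A)).comp
        (Ideal.Quotient.mk (nilradical A))) = (IsLocalRing.residue V).comp αA) a
      refine IsLocalization.ringHom_ext p.primeCompl (RingHom.ext fun a => ?_)
      show IsLocalRing.residue V (α' (ιA a)) = IsLocalRing.residue V (αA (algebraMap A₀ A a))
      rw [hαA]
      exact congrArg _ (hα' a)
  let eS : MvPolynomial σ (CAlg2.normRed A) →+* S :=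
    MvPolynomial.eval₂Hom ηS fun i => gS (γ (MvPolynomial.X i))
  have heS : eS.comp (MvPolynomial.map ιA) = gS.comp γ.toRingHom := by
    refine MvPolynomial.ringHom_ext (fun a => ?_) fun i => ?_
    · simp only [eS, RingHom.comp_apply, MvPolynomial.map_C, MvPolynomial.eval₂Hom_C,
        AlgHom.toRingHom_eq_coe, RingHom.coe_coe, MvPolynomial.algHom_C]
      exact (RingHom.congr_fun hgη a).symm
    · simp [eS]
  have heinj : Function.Injective eS := by
    letI : Algebra (CAlg2.red A) S := (ηS.comp (algebraMap (CAlg2.red A) (CAlg2.normRed A))).toAlgebra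
    letI : Algebra (CAlg2.normRed A) S := ηS.toAlgebra
    haveI : IsScalarTower (CAlg2.red A) (CAlg2.normRed A) S := IsScalarTower.of_algebraMap_eq fun _ => rfl
    have hind : AlgebraicIndependent (CAlg2.red A) fun i => gS (γ (MvPolynomial.X i)) := by
      refine algebraicIndependent_of_comp (S := S) p _ fun g hg => MvPolynomial.ext _ _ fun k => ?_
      have h1 : gS (γ g) = 0 := by
        rw [show gS (γ g) = eS (MvPolynomial.map ιA g) from (RingHom.congr_fun heS g).symm]
        rw [← hg]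
        exact MvPolynomial.eval₂Hom_map_hom ..
      have h2 : γ g ∈ P₁ := hcF _ (IsFractionRing.injective D₁ F
        ((congrArg Subtype.val h1).trans (map_zero (algebraMap D₁ F)).symm))
      rw [MvPolynomial.coeff_map, MvPolynomial.coeff_zero]
      exact hker.ge (hγ g h2 k)
    exact algebraicIndependent_iff_injective_aeval.mp
      (hind.extendScalars_of_isIntegral (S := CAlg2.normRed A))
  let G := Subring.closure (Set.range eS ∪ ((s.image gS : Finset S) : Set S))
  have himg : ∀ z, z ∈ Subring.closure (Set.range γ ∪ (s : Set C)) → gS z ∈ G := fun z hz => by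
    have h1 : gS z ∈ (Subring.closure (Set.range γ ∪ (s : Set C))).map gS := ⟨z, hz, rfl⟩
    rw [RingHom.map_closure] at h1
    refine Subring.closure_mono ?_ h1
    rintro _ ⟨w, (⟨g, rfl⟩ | hw), rfl⟩
    · exact Or.inl ⟨_, RingHom.congr_fun heS g⟩
    · exact Or.inr (Finset.mem_image_of_mem gS hw)
  have hηmem : ∀ a, ηS a ∈ G := fun a =>
    Subring.subset_closure (Or.inl ⟨MvPolynomial.C a, MvPolynomial.eval₂Hom_C _ _ a⟩)
  have hclearS : ∀ d : S, ∃ m : ℕ, gS r ^ m * d ∈ G := by
    let good : Subalgebra D₁ S :=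
      { carrier := {d | ∃ m : ℕ, gS r ^ m * d ∈ G}
        mul_mem' := fun {a b} ⟨m, hm⟩ ⟨k, hk⟩ => ⟨m + k, by
          rw [show gS r ^ (m + k) * (a * b) = gS r ^ m * a * (gS r ^ k * b) by ring]
          exact mul_mem hm hk⟩
        add_mem' := fun {a b} ⟨m, hm⟩ ⟨k, hk⟩ => ⟨m + k, by
          rw [show gS r ^ (m + k) * (a + b) = gS r ^ k * (gS r ^ m * a) + gS r ^ m * (gS r ^ k * b) by ring]
          exact add_mem (mul_mem (pow_mem (himg r hr) _) hm) (mul_mem (pow_mem (himg r hr) _) hk)⟩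
        algebraMap_mem' := fun d => by
          obtain ⟨c, u, rfl⟩ := hsplit d
          obtain ⟨m, hm⟩ := hclear c
          refine ⟨m, ?_⟩
          rw [map_mul, ← hηS, show algebraMap D₁ S (cF c) = gS c from rfl, ← mul_assoc, ← map_pow, ← map_mul]
          exact mul_mem (himg _ hm) (hηmem _) }
    have hle : S ≤ good.map S.val := Algebra.adjoin_le (by
      rintro _ ⟨a, rfl⟩
      exact ⟨ηS a, ⟨0, by rw [pow_zero, one_mul]; exact hηmem a⟩, rfl⟩)
    rintro ⟨z, hz⟩
    obtain ⟨w, hw, hwz⟩ := hle hz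
    obtain rfl : w = ⟨z, hz⟩ := Subtype.ext hwz
    exact hw
  have hCη : eS.comp MvPolynomial.C = ηS := RingHom.ext fun a => MvPolynomial.eval₂Hom_C _ _ a
  haveI : IsIntegrallyClosed (CAlg2.normRed A) :=
    integralClosure.isIntegrallyClosedOfFiniteExtension (R := CAlg2.red A) (FractionRing (CAlg2.red A))
  obtain ⟨β, hβA, hβθ⟩ := exists_lift_polynomial V σ eS heinj (s.image gS)
    (fun z hz => by
      obtain ⟨w, hw, rfl⟩ := Finset.mem_image.mp hz
      obtain ⟨f, hf, hfw⟩ := hs w hw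
      refine ⟨f.map (MvPolynomial.map ιA), hf.map _, ?_⟩
      rw [Polynomial.eval₂_map, heS, ← Polynomial.hom_eval₂, hfw, map_zero])
    (gS r) (himg r hr) hclearS α' θS (by rw [hCη]; exact hagree)
    (by rwa [← RingHom.comp_apply θS, hθgS])
  refine ⟨β.comp gS, RingHom.ext fun a => ?_, ?_⟩
  · rw [RingHom.comp_apply, RingHom.comp_apply, ← RingHom.comp_apply gS, hgη, RingHom.comp_apply,
      ← RingHom.comp_apply β, ← hCη, hβA]
    exact hα' a
  · rw [← RingHom.comp_assoc, hβθ, hθgS]

end Groth.Agent.H06EGA14
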