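import Mathlib
import Groth.Prelude.Def_EGA43
import Groth.Agent.H06EGA14.GeomCriterion
import Groth.Agent.H06EGA14.UnibranchLifting
import Groth.Agent.H06EGA14.UnibranchEquiv

/-!
# Chevalley's criterion for universal openness (EGA IV 14.4)
-/

set_option autoImplicit false
set_option linter.style.haveILetI false
universe u

open CategoryTheory CategoryTheory.Limits AlgebraicGeometry TopologicalSpace Topology

namespace Groth.Agent.H06EGA14

theorem isPrime_map_C {σ R : Type u} [CommRing R] (q : Ideal R) [q.IsPrime] :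
    (q.map (MvPolynomial.C : R →+* MvPolynomial σ R)).IsPrime := by
  rw [← Ideal.Quotient.isDomain_iff_prime]
  exact (MvPolynomial.quotientEquivQuotientMvPolynomial q).symm.toMulEquiv.isDomain _

/-- Geometric points lift at a point where the ring is quasi-finite over a polynomial algebra over a
unibranch base, dominating the base. -/
theorem geomLifts_of_quasiFiniteAt {A₀ C : Type u} [CommRing A₀] [CommRing C] [Algebra A₀ C]
    [Algebra.FiniteType A₀ C] {σ : Type u} [Finite σ] (γ : MvPolynomial σ A₀ →ₐ[A₀] C)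
    (c η : Ideal C) [c.IsPrime] [η.IsPrime]
    (hqf : letI := γ.toRingHom.toAlgebra; Algebra.QuasiFiniteAt (MvPolynomial σ A₀) c)
    (hηc : η ≤ c) (hmin : η.comap γ.toRingHom ∈ minimalPrimes (MvPolynomial σ A₀))
    (hA : CAlg2.IsGeomUnibranch (Localization.AtPrime (c.comap (algebraMap A₀ C)))) :
    GeomLifts A₀ c := by
  letI := γ.toRingHom.toAlgebra
  haveI : IsScalarTower A₀ (MvPolynomial σ A₀) C :=
    IsScalarTower.of_algebraMap_eq fun a => (γ.commutes a).symm
  haveI : Algebra.FiniteType (MvPolynomial σ A₀) C :=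
    Algebra.FiniteType.of_restrictScalars_finiteType A₀ _ C
  haveI := hqf
  obtain ⟨S', hS', r, hrc, hbij⟩ :=
    Algebra.QuasiFiniteAt.exists_fg_and_exists_notMem_and_awayMap_bijective (R := MvPolynomial σ A₀) c
  obtain ⟨s, hs⟩ := id hS'
  have hsS' : ∀ z ∈ s, z ∈ S' := fun z hz =>
    show z ∈ Subalgebra.toSubmodule S' from hs ▸ Submodule.subset_span hz
  have hsub : ∀ x ∈ S', x ∈ Subring.closure (Set.range γ ∪ (s : Set C)) := by
    intro x hx
    have hx' : x ∈ Submodule.span (MvPolynomial σ A₀) (s : Set C) := by rw [hs]; exact hx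
    induction hx' using Submodule.span_induction with
    | mem z hz => exact Subring.subset_closure (Or.inr hz)
    | zero => exact zero_mem _
    | add a b ha hb iha ihb =>
      exact add_mem (iha (show a ∈ Subalgebra.toSubmodule S' from hs ▸ ha))
        (ihb (show b ∈ Subalgebra.toSubmodule S' from hs ▸ hb))
    | smul a z hz ih =>
      rw [Algebra.smul_def]
      exact mul_mem (Subring.subset_closure (Or.inl ⟨a, rfl⟩))
        (ih (show z ∈ Subalgebra.toSubmodule S' from hs ▸ hz))
  have hclear : ∀ x : C, ∃ m : ℕ, r.1 ^ m * x ∈ Subring.closure (Set.range γ ∪ (s : Set C)) := by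
    intro x
    obtain ⟨y, hy⟩ := hbij.2 (algebraMap C _ x)
    obtain ⟨⟨z, ⟨_, m, rfl⟩⟩, hz⟩ := IsLocalization.surj (Submonoid.powers r) y
    have h0 := congrArg (Localization.awayMap S'.val.toRingHom r) hz
    rw [map_mul, hy] at h0
    have h1 : algebraMap C (Localization.Away (S'.val.toRingHom r)) (x * r.1 ^ m) =
        algebraMap C _ (S'.val.toRingHom z) := by
      rw [map_mul]
      refine Eq.trans ?_ (h0.trans (IsLocalization.map_eq _ z))
      congr 1
      show _ = IsLocalization.map _ _ _ _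
      rw [IsLocalization.map_eq]
      show _ = algebraMap C _ (r.1 ^ m)
      rw [map_pow]
    obtain ⟨⟨_, k, rfl⟩, hk⟩ := IsLocalization.exists_of_eq (M := Submonoid.powers (S'.val.toRingHom r)) h1
    refine ⟨k + m, hsub _ ?_⟩
    have h2 : r.1 ^ (k + m) * x = r.1 ^ k * z.1 := by
      rw [pow_add, mul_assoc, mul_comm (r.1 ^ m)]
      exact hk
    rw [h2]
    exact mul_mem (pow_mem r.2 k) z.2
  intro E _ _ V α θ hθ hker
  set q₀ := η.comap (algebraMap A₀ C) with hq₀
  have hQ : q₀.map (MvPolynomial.C : A₀ →+* MvPolynomial σ A₀) = η.comap γ.toRingHom := by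
    haveI : q₀.IsPrime := Ideal.IsPrime.comap _
    haveI : (η.comap γ.toRingHom).IsPrime := Ideal.IsPrime.comap _
    have hle : q₀.map (MvPolynomial.C : A₀ →+* MvPolynomial σ A₀) ≤ η.comap γ.toRingHom := by
      rw [Ideal.map_le_iff_le_comap, Ideal.comap_comap]
      intro a ha
      show γ (MvPolynomial.C a) ∈ η
      rw [← MvPolynomial.algebraMap_eq, γ.commutes]
      exact ha
    exact le_antisymm hle (hmin.2 ⟨isPrime_map_C q₀, bot_le⟩ hle)
  have hq₀min : q₀ ∈ minimalPrimes A₀ := by
    haveI : q₀.IsPrime := Ideal.IsPrime.comap _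
    refine ⟨⟨inferInstance, bot_le⟩, ?_⟩
    rintro q ⟨hq, -⟩ hle
    haveI := hq
    have h1 : q₀.map (MvPolynomial.C : A₀ →+* MvPolynomial σ A₀) ≤ q.map MvPolynomial.C :=
      hQ.trans_le (hmin.2 ⟨isPrime_map_C q, bot_le⟩ ((Ideal.map_mono hle).trans hQ.le))
    intro a ha
    have h2 := h1 (Ideal.mem_map_of_mem _ ha)
    rw [MvPolynomial.mem_map_C_iff] at h2
    simpa using h2 0
  refine exists_lift_of_isGeomUnibranch V (c.comap (algebraMap A₀ C)) hA σ γ η
    (Ideal.comap_mono hηc) hq₀min (fun f hf k => ?_) s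
    (fun z hz => IsIntegral.of_mem_of_fg S' hS' z (hsS' z hz)) r.1 (hsub _ r.2) hclear α θ hθ ?_ ?_ ?_
  · exact MvPolynomial.mem_map_C_iff.mp (hQ.ge hf) k
  · rw [← hker]; rfl
  · intro h0; exact hrc (hker.le h0)
  · exact hηc.trans hker.ge

/-- A morphism `Spec S ⟶ Spec R` quasi-finite at a point gives a quasi-finite prime. -/
theorem quasiFiniteAt_of_specMap {R S : CommRingCat.{u}} (φ : R ⟶ S) (x : Spec S)
    (h : (Spec.map φ).QuasiFiniteAt x) :
    letI := φ.hom.toAlgebra; haveI : x.asIdeal.IsPrime := x.2; Algebra.QuasiFiniteAt R x.asIdeal := by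
  algebraize [φ.hom]
  haveI : x.asIdeal.IsPrime := x.2
  let := Localization.AtPrime.algebraOfLiesOver (x.asIdeal.under R) x.asIdeal
  haveI : Algebra.QuasiFinite (Localization.AtPrime (x.asIdeal.under R))
      (Localization.AtPrime x.asIdeal) := by
    rw [← RingHom.quasiFinite_algebraMap]
    exact (RingHom.QuasiFinite.respectsIso.arrow_mk_iso_iff (Scheme.arrowStalkMapSpecIso φ x)).mp h
  exact .trans _ (Localization.AtPrime (x.asIdeal.under R)) _

set_option backward.isDefEq.respectTransparency false in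
/-- Chevalley's criterion: a morphism which near `x` is quasi-finite over an affine space over a
unibranch point and has a component dominating that space is universally open at `x`. -/
theorem isUnivOpenAt_of_quasiFiniteAt_dominant {X Y : Scheme.{u}} (f : X ⟶ Y)
    [LocallyOfFinitePresentation f]
    {W : Y.Opens} (hW : IsAffineOpen W) {V : X.Opens} (hV : IsAffineOpen V) (hVW : V ≤ f ⁻¹ᵁ W)
    (c : Spec Γ(X, V)) {σ : Type u} [Finite σ] (γ : MvPolynomial σ Γ(Y, W) →+* Γ(X, V))
    (hγ : γ.comp MvPolynomial.C = (f.appLE W V hVW).hom)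
    (hqf : (Spec.map (CommRingCat.ofHom γ)).QuasiFiniteAt c)
    (η : Spec Γ(X, V)) (hη : η ⤳ c)
    (hmax : ∀ a, a ⤳ Spec.map (CommRingCat.ofHom γ) η → a = Spec.map (CommRingCat.ofHom γ) η)
    (hy : CAlg2.IsGeomUnibranch (Y.presheaf.stalk (f (hV.fromSpec c)))) :
    EGA43.IsUnivOpenAt f (hV.fromSpec c) := by
  letI := (f.appLE W V hVW).hom.toAlgebra
  haveI : Algebra.FiniteType Γ(Y, W) Γ(X, V) :=
    haveI : LocallyOfFiniteType f := inferInstance
    f.finiteType_appLE hW hV hVW
  let γa : MvPolynomial σ Γ(Y, W) →ₐ[Γ(Y, W)] Γ(X, V) :=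
    { γ with commutes' := fun a => RingHom.congr_fun hγ a }
  refine isUnivOpenAt_of_geomLifts f hW hV hVW c ?_
  haveI : c.asIdeal.IsPrime := c.2
  haveI : η.asIdeal.IsPrime := η.2
  refine geomLifts_of_quasiFiniteAt γa c.asIdeal η.asIdeal (quasiFiniteAt_of_specMap _ c hqf)
    ((PrimeSpectrum.le_iff_specializes η c).mpr hη) ?_ ?_
  · refine ⟨⟨Ideal.IsPrime.comap _, bot_le⟩, ?_⟩
    rintro q ⟨hq, -⟩ hle
    exact (congrArg PrimeSpectrum.asIdeal (hmax ⟨q, hq⟩ ((PrimeSpectrum.le_iff_specializes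
      (⟨q, hq⟩ : PrimeSpectrum (MvPolynomial σ Γ(Y, W))) _).mp hle))).ge
  · set p : PrimeSpectrum Γ(Y, W) := PrimeSpectrum.comap (algebraMap Γ(Y, W) Γ(X, V)) c
    have hp : hW.fromSpec p = f (hV.fromSpec c) := by
      have hsq := IsAffineOpen.SpecMap_appLE_fromSpec f hW hV hVW
      exact congrArg (fun φ : Spec Γ(X, V) ⟶ Y => φ c) hsq
    rw [← hp] at hy
    have hpW : hW.fromSpec p ∈ W := show hW.fromSpec p ∈ (W : Set Y) from
      hW.range_fromSpec ▸ Set.mem_range_self p
    letI : Algebra Γ(Y, W) (Y.presheaf.stalk (hW.fromSpec p)) :=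
      TopCat.Presheaf.algebra_section_stalk Y.presheaf ⟨hW.fromSpec p, hpW⟩
    haveI : IsLocalization.AtPrime (Y.presheaf.stalk (hW.fromSpec p)) p.asIdeal :=
      hW.isLocalization_stalk' p hpW
    exact isGeomUnibranch_of_ringEquiv
      (IsLocalization.algEquiv p.asIdeal.primeCompl (Y.presheaf.stalk (hW.fromSpec p))
        (Localization.AtPrime p.asIdeal)).toRingEquiv hy

end Groth.Agent.H06EGA14
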