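import Groth.Agent.H06EGA14.UnibranchEquiv
import Groth.Agent.H06EGA14.UnibranchLifting
import Groth.Agent.H3CAlg.UnibranchInj
import Groth.Agent.S1373

/-!
# Universal openness of integral extensions over geometrically unibranch domains (EGA IV 14.4.1)
-/

set_option autoImplicit false
set_option linter.style.haveILetI false
set_option backward.isDefEq.respectTransparency false
universe u

open CategoryTheory CategoryTheory.Limits AlgebraicGeometry TopologicalSpace Topology

namespace Groth.Agent.H06EGA14

/-- Being geometrically unibranch descends to quotients with nil kernel. -/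
theorem isGeomUnibranch_of_surjective {A B : Type u} [CommRing A] [CommRing B] [IsLocalRing A]
    [IsLocalRing B] (f : A →+* B) (hs : Function.Surjective f) (hk : ∀ a, f a = 0 → IsNilpotent a)
    (h : CAlg2.IsGeomUnibranch A) : CAlg2.IsGeomUnibranch B := by
  let e₁ : CAlg2.red A ≃+* CAlg2.red B := RingEquiv.ofBijective
    (Ideal.quotientMap (nilradical B) f fun a ha => mem_nilradical.mpr ((mem_nilradical.mp ha).map f))
    ⟨by
      refine Ideal.quotientMap_injective' fun a ha => ?_
      obtain ⟨m, hm⟩ := mem_nilradical.mp ha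
      obtain ⟨n, hn⟩ := hk (a ^ m) (by rw [map_pow, hm])
      exact mem_nilradical.mpr ⟨m * n, by rw [pow_mul, hn]⟩, Ideal.quotientMap_surjective hs⟩
  obtain ⟨⟨_, _⟩, hpi⟩ := h
  haveI hdom : IsDomain (CAlg2.red B) := e₁.symm.toMulEquiv.isDomain _
  let φ : FractionRing (CAlg2.red A) ≃+* FractionRing (CAlg2.red B) :=
    IsFractionRing.ringEquivOfRingEquiv e₁
  have hφ : ∀ a, φ (algebraMap _ _ a) = algebraMap _ _ (e₁ a) := fun a =>
    IsFractionRing.ringEquivOfRingEquiv_algebraMap e₁ a
  have hmap : ∀ x : FractionRing (CAlg2.red A),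
      IsIntegral (CAlg2.red A) x → IsIntegral (CAlg2.red B) (φ x) := by
    rintro x ⟨g, hg, hfx⟩
    refine ⟨g.map e₁.toRingHom, hg.map _, ?_⟩
    rw [Polynomial.eval₂_map,
      show (algebraMap (CAlg2.red B) _).comp e₁.toRingHom = φ.toRingHom.comp (algebraMap (CAlg2.red A) _) from
        RingHom.ext fun a => (hφ a).symm]
    exact (Polynomial.hom_eval₂ _ _ _ _).symm.trans (by rw [hfx]; exact map_zero φ)
  have hinv : ∀ y : FractionRing (CAlg2.red B),
      IsIntegral (CAlg2.red B) y → IsIntegral (CAlg2.red A) (φ.symm y) := by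
    rintro y ⟨g, hg, hfy⟩
    refine ⟨g.map e₁.symm.toRingHom, hg.map _, ?_⟩
    rw [Polynomial.eval₂_map,
      show (algebraMap (CAlg2.red A) _).comp e₁.symm.toRingHom = φ.symm.toRingHom.comp (algebraMap (CAlg2.red B) _) from
        RingHom.ext fun b => φ.injective ((hφ _).trans
          ((congrArg _ (e₁.apply_symm_apply b)).trans (φ.apply_symm_apply _).symm))]
    exact (Polynomial.hom_eval₂ _ _ _ _).symm.trans (by rw [hfy]; exact map_zero φ.symm)
  let N : CAlg2.normRed A ≃+* CAlg2.normRed B :=
    { toFun := fun x => ⟨φ x.1, hmap x.1 x.2⟩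
      invFun := fun y => ⟨φ.symm y.1, hinv y.1 y.2⟩
      left_inv := fun x => Subtype.ext (φ.symm_apply_apply x.1)
      right_inv := fun y => Subtype.ext (φ.apply_symm_apply y.1)
      map_mul' := fun x y => Subtype.ext (map_mul φ x.1 y.1)
      map_add' := fun x y => Subtype.ext (map_add φ x.1 y.1) }
  refine ⟨⟨hdom, ?_⟩, ?_⟩
  · haveI : Nontrivial (CAlg2.normRed B) := N.symm.toEquiv.nontrivial
    exact IsLocalRing.of_surjective' N.toRingHom N.surjective
  · intro m' hm'
    let _g : CAlg2.normRed B →+* CAlg2.normRed B ⧸ m' := Ideal.Quotient.mk m'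
    intro y
    obtain ⟨y, rfl⟩ := Ideal.Quotient.mk_surjective y
    let m := m'.comap N.toRingHom
    haveI : m.IsMaximal := Ideal.comap_isMaximal_of_surjective _ N.surjective
    let κe : CAlg2.normRed A ⧸ m ≃+* CAlg2.normRed B ⧸ m' :=
      Ideal.quotientEquiv m m' N (Ideal.map_comap_of_surjective _ N.surjective m').symm
    obtain ⟨n, a, ha⟩ := hpi m (Ideal.Quotient.mk m (N.symm y))
    refine ⟨n, f a, ?_⟩
    have hq : ringExpChar (CAlg2.normRed A ⧸ m) = ringExpChar (CAlg2.normRed B ⧸ m') := by
      letI : Field (CAlg2.normRed A ⧸ m) := Ideal.Quotient.field m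
      letI : Field (CAlg2.normRed B ⧸ m') := Ideal.Quotient.field m'
      haveI := expChar_of_injective_ringHom (f := κe.toRingHom) κe.injective
        (ringExpChar (CAlg2.normRed A ⧸ m))
      exact (ringExpChar.eq _ _).symm
    rw [← hq]
    have h3 : ∀ z, κe (Ideal.Quotient.mk m z) = Ideal.Quotient.mk m' (N z) := fun z =>
      Ideal.quotientEquiv_mk ..
    have h2 := congrArg κe ha
    rw [map_pow, RingHom.comp_apply, h3, h3, N.apply_symm_apply] at h2
    refine Eq.trans (congrArg (Ideal.Quotient.mk m') (Subtype.ext ?_)) h2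
    show algebraMap (CAlg2.red B) _ (Ideal.Quotient.mk _ (f a)) = φ (algebraMap (CAlg2.red A) _ (Ideal.Quotient.mk _ a))
    rw [hφ]
    rfl

/-- An integral extension of an integrally closed domain by a domain is open. -/
theorem isOpenMap_comap_of_isIntegrallyClosed (R S : Type u) [CommRing R] [IsDomain R]
    [IsIntegrallyClosed R] [CommRing S] [IsDomain S] [Algebra R S] [FaithfulSMul R S]
    [Algebra.IsIntegral R S] : IsOpenMap (PrimeSpectrum.comap (algebraMap R S)) := by
  rw [PrimeSpectrum.isTopologicalBasis_basic_opens.isOpenMap_iff]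
  rintro _ ⟨b, rfl⟩
  set g := minpoly R b with hg
  have hgm : g.Monic := minpoly.monic (Algebra.IsIntegral.isIntegral b)
  have key : PrimeSpectrum.comap (algebraMap R S) '' (PrimeSpectrum.basicOpen b : Set _) =
      ⋃ i ∈ Finset.range g.natDegree, (PrimeSpectrum.basicOpen (g.coeff i) : Set _) := by
    ext p
    simp only [Set.mem_image, Set.mem_iUnion₂, Finset.mem_range, SetLike.mem_coe,
      PrimeSpectrum.mem_basicOpen, exists_prop]
    constructor
    · rintro ⟨Q, hQ, rfl⟩
      by_contra! hall
      refine hQ (Q.2.mem_of_pow_mem g.natDegree ?_)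
      have h0 : Polynomial.aeval b g = 0 := minpoly.aeval R b
      rw [Polynomial.aeval_eq_sum_range, Finset.sum_range_succ, hgm.coeff_natDegree, one_smul,
        add_eq_zero_iff_neg_eq] at h0
      rw [← h0]
      exact neg_mem (Submodule.sum_mem _ fun i hi => by
        rw [Algebra.smul_def]
        exact Q.asIdeal.mul_mem_right _ (hall i (Finset.mem_range.mp hi)))
    · rintro ⟨i, hi, hip⟩
      by_contra! hall
      haveI := p.2
      have hb : b ∈ (p.asIdeal.map (algebraMap R S)).radical := by
        rw [Ideal.radical_eq_sInf, Submodule.mem_sInf]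
        rintro Q ⟨hQp, hQ⟩
        haveI := hQ
        obtain ⟨Q', hle, hQ', hQ'p⟩ := Ideal.exists_ideal_le_liesOver_of_le (R := R) (p := p.asIdeal)
          (q := Ideal.under R Q) (Q : Ideal S) (Ideal.map_le_iff_le_comap.1 hQp)
        have := hall ⟨Q', hQ'⟩
        exact hle (by_contra fun hn => this hn (PrimeSpectrum.ext hQ'p.over.symm))
      obtain ⟨m, hm⟩ := hb
      obtain ⟨f, hfm, hfa, hf⟩ := Polynomial.exists_monic_aeval_eq_zero_forall_mem_of_mem_map
        (Ideal.mul_mem_left _ b hm : b * b ^ m ∈ p.asIdeal.map (algebraMap R S))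
      rw [← pow_succ'] at hfa
      have hf' : ∀ j < (Polynomial.expand R (m + 1) f).natDegree,
          (Polynomial.expand R (m + 1) f).coeff j ∈ p.asIdeal := fun j hj => by
        rw [Polynomial.natDegree_expand] at hj
        rw [Polynomial.coeff_expand (Nat.succ_pos m)]
        split_ifs with hdvd
        · refine hf _ (ne_of_lt ?_)
          obtain ⟨c, rfl⟩ := hdvd
          rw [Nat.mul_div_cancel_left _ (Nat.succ_pos m)]
          exact Nat.lt_of_mul_lt_mul_left (by rwa [mul_comm f.natDegree] at hj)
        · exact zero_mem _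
      have hfm' : (Polynomial.expand R (m + 1) f).Monic := hfm.expand (Nat.succ_pos m)
      have hfa' : Polynomial.aeval b (Polynomial.expand R (m + 1) f) = 0 := by
        rw [Polynomial.expand_aeval]; exact hfa
      have h1 := Polynomial.coeff_mem_radical_span_coeff_of_dvd (Polynomial.expand R (m + 1) f) g hfm' hgm
        (minpoly.isIntegrallyClosed_dvd (Algebra.IsIntegral.isIntegral _) hfa') i hi.ne
      refine hip ((p.2.radical_le_iff.2 ?_) h1)
      rw [Ideal.span_le]
      rintro _ ⟨j, hj, rfl⟩
      exact hf' j hj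
  show IsOpen (PrimeSpectrum.comap (algebraMap R S) '' (PrimeSpectrum.basicOpen b : Set _))
  rw [key]
  exact isOpen_biUnion fun i _ => (PrimeSpectrum.basicOpen (g.coeff i)).isOpen

/-- Integrality of polynomial base change. -/
theorem isIntegral_mvPolynomial_map {R S : Type u} [CommRing R] [CommRing S] (i : R →+* S)
    (hi : i.IsIntegral) (σ : Type u) :
    RingHom.IsIntegral (R := MvPolynomial σ R) (A := MvPolynomial σ S) (MvPolynomial.map i) := by
  letI : Algebra (MvPolynomial σ R) (MvPolynomial σ S) := (MvPolynomial.map i).toAlgebra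
  suffices Algebra.IsIntegral (MvPolynomial σ R) (MvPolynomial σ S) from this.isIntegral
  refine ⟨fun z => ?_⟩
  induction z using MvPolynomial.induction_on with
  | C a =>
    obtain ⟨q, hq, hqa⟩ := hi a
    refine ⟨q.map MvPolynomial.C, hq.map _, ?_⟩
    rw [Polynomial.eval₂_map, show (algebraMap (MvPolynomial σ R) (MvPolynomial σ S)).comp MvPolynomial.C =
      (MvPolynomial.C).comp i from RingHom.ext fun r => MvPolynomial.map_C _ r,
      ← Polynomial.hom_eval₂, hqa, map_zero]
  | add p q hp hq => exact hp.add hq
  | mul_X p n hp =>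
    refine hp.mul ?_
    rw [show (MvPolynomial.X n : MvPolynomial σ S) = algebraMap (MvPolynomial σ R) _ (MvPolynomial.X n) from
      (MvPolynomial.map_X i n).symm]
    exact isIntegral_algebraMap

/-- ... and remains so universally. -/
theorem universallyOpen_of_isIntegrallyClosed (R S : Type u) [CommRing R] [IsDomain R]
    [IsIntegrallyClosed R] [CommRing S] [IsDomain S] [Algebra R S] [FaithfulSMul R S]
    [Algebra.IsIntegral R S] : UniversallyOpen (Spec.map (CommRingCat.ofHom (algebraMap R S))) := by
  rw [Groth.Agent.S1373.result]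
  intro n
  let σ := ULift.{u} (Fin n)
  let φ : MvPolynomial σ R →+* MvPolynomial σ S := MvPolynomial.map (algebraMap R S)
  suffices h : IsOpenMap (PrimeSpectrum.comap φ) from
    ((topologically @IsOpenMap).arrow_mk_iso_iff
      (AffineSpace.mapSpecMap (n := σ) (CommRingCat.ofHom (algebraMap R S)))).2 h
  letI := φ.toAlgebra
  haveI : IsIntegrallyClosed (MvPolynomial σ R) := isIntegrallyClosed_mvPolynomial R σ
  haveI : FaithfulSMul (MvPolynomial σ R) (MvPolynomial σ S) :=
    (faithfulSMul_iff_algebraMap_injective _ _).2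
      (MvPolynomial.map_injective _ (FaithfulSMul.algebraMap_injective R S))
  haveI : Algebra.IsIntegral (MvPolynomial σ R) (MvPolynomial σ S) :=
    ⟨isIntegral_mvPolynomial_map (algebraMap R S) (algebraMap_isIntegral_iff.2 inferInstance) σ⟩
  exact isOpenMap_comap_of_isIntegrallyClosed (MvPolynomial σ R) (MvPolynomial σ S)

/-- Universal homeomorphisms are universally open. -/
theorem universallyOpen_of_universallyInjective {X Y : Scheme.{u}} (g : X ⟶ Y) [UniversallyInjective g]
    [UniversallyClosed g] [Surjective g] : UniversallyOpen g := by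
  refine ⟨fun P T i₁ i₂ g' hsq => ?_⟩
  haveI : UniversallyInjective g' := MorphismProperty.of_isPullback hsq.flip ‹_›
  haveI : UniversallyClosed g' := MorphismProperty.of_isPullback hsq.flip ‹_›
  haveI : Surjective g' := MorphismProperty.of_isPullback hsq.flip ‹_›
  intro U hU
  rw [← isClosed_compl_iff, ← Set.image_compl_eq ⟨g'.injective, g'.surjective⟩]
  exact g'.isClosedMap _ hU.isClosed_compl

theorem universallyOpen_of_comp_surjective {X Y Z : Scheme.{u}} (q : X ⟶ Y) (g : Y ⟶ Z) [Surjective q]
    [UniversallyOpen (q ≫ g)] : UniversallyOpen g := by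
  refine ⟨fun P T i₁ i₂ g' hsq => ?_⟩
  have hsq' := (IsPullback.of_hasPullback q i₁).paste_vert hsq.flip
  haveI : UniversallyOpen (pullback.snd q i₁ ≫ g') := MorphismProperty.of_isPullback hsq' ‹_›
  haveI : Surjective (pullback.snd q i₁) := inferInstance
  intro U hU
  have h := (pullback.snd q i₁ ≫ g').isOpenMap _ (hU.preimage (pullback.snd q i₁).continuous)
  rwa [Scheme.Hom.comp_base, TopCat.coe_comp, Set.image_comp,
    Set.image_preimage_eq U (pullback.snd q i₁).surjective] at h

theorem surjective_Spec_of_injective_isIntegral {R S : Type u} [CommRing R] [CommRing S] (i : R →+* S)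
    (hinj : Function.Injective i) (hi : i.IsIntegral) : Surjective (Spec.map (CommRingCat.ofHom i)) := by
  refine ⟨fun q => ?_⟩
  letI := i.toAlgebra
  haveI : Algebra.IsIntegral R S := ⟨hi⟩
  obtain ⟨Q, -, hQ, hQq⟩ := Ideal.exists_ideal_over_prime_of_isIntegral q.asIdeal (⊥ : Ideal S)
    (le_of_eq_of_le (by rw [← RingHom.ker_eq_comap_bot]; exact (RingHom.injective_iff_ker_eq_bot _).1 hinj) bot_le)
  exact ⟨⟨Q, hQ⟩, PrimeSpectrum.ext hQq⟩

theorem injective_of_comp_injective {R S K : Type u} [CommRing R] [CommRing S] [IsDomain S]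
    [CommRing K] [IsDomain K] (j : R →+* S) (g : S →+* K) (hj : j.IsIntegral)
    (h : Function.Injective (g.comp j)) : Function.Injective g := by
  letI := j.toAlgebra
  haveI : Algebra.IsIntegral R S := ⟨hj⟩
  haveI : Nontrivial R := (g.comp j).domain_nontrivial
  haveI : (RingHom.ker g).IsPrime := RingHom.ker_isPrime g
  rw [RingHom.injective_iff_ker_eq_bot]
  refine Ideal.eq_bot_of_comap_eq_bot (R := R) ?_
  rw [RingHom.comap_ker]
  exact (RingHom.injective_iff_ker_eq_bot _).1 h

/-- An integral extension by a domain, dominated by a normal domain, is universally open. -/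
theorem universallyOpen_of_dominated {B B' T K : Type u} [CommRing B] [CommRing B'] [IsDomain B']
    [IsIntegrallyClosed B'] [CommRing T] [Field K] (j : B →+* B') (hj : j.IsIntegral) (i : B →+* T)
    (hint : i.IsIntegral) (e : T →+* K) (he : Function.Injective e) (g : B' →+* K)
    (hginj : Function.Injective g) (hg : g.comp j = e.comp i)
    [UniversallyOpen (Spec.map (CommRingCat.ofHom j))] :
    UniversallyOpen (Spec.map (CommRingCat.ofHom i)) := by
  letI : Algebra B' K := g.toAlgebra
  let S := integralClosure B' K
  haveI : FaithfulSMul B' S := (faithfulSMul_iff_algebraMap_injective _ _).2 fun a b h =>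
    hginj (congrArg Subtype.val h)
  let t : T →+* S := e.codRestrict S fun z => by
    show IsIntegral B' (e z)
    obtain ⟨q, hq, hqz⟩ := hint z
    refine ⟨q.map j, hq.map _, ?_⟩
    rw [Polynomial.eval₂_map, show (algebraMap B' K).comp j = _ from hg, ← Polynomial.hom_eval₂, hqz, map_zero]
  have hcomp : t.comp i = (algebraMap B' S).comp j :=
    RingHom.ext fun z => Subtype.ext (RingHom.congr_fun hg z).symm
  have htint : t.IsIntegral := by
    refine RingHom.IsIntegral.tower_top i t ?_
    rw [hcomp]
    exact RingHom.IsIntegral.trans j (algebraMap B' S) hj (algebraMap_isIntegral_iff.2 inferInstance)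
  haveI := surjective_Spec_of_injective_isIntegral t
    (fun a b h => he (congrArg Subtype.val h)) htint
  haveI : UniversallyOpen (Spec.map (CommRingCat.ofHom (algebraMap B' S))) :=
    universallyOpen_of_isIntegrallyClosed B' S
  haveI : UniversallyOpen (Spec.map (CommRingCat.ofHom t) ≫ Spec.map (CommRingCat.ofHom i)) := by
    rw [← Spec.map_comp, ← CommRingCat.ofHom_comp, hcomp, CommRingCat.ofHom_comp, Spec.map_comp]
    infer_instance
  exact universallyOpen_of_comp_surjective (Spec.map (CommRingCat.ofHom t)) _

theorem universallyOpen_mvPolynomial_map {A A' : Type u} [CommRing A] [CommRing A'] (ι : A →+* A')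
    (hι : Function.Injective ι) (hint : ι.IsIntegral)
    (hui : UniversallyInjective (Spec.map (CommRingCat.ofHom ι))) (σ : Type u) :
    UniversallyOpen (Spec.map (CommRingCat.ofHom (R := MvPolynomial σ A) (S := MvPolynomial σ A')
      (MvPolynomial.map ι))) := by
  haveI : UniversallyInjective (Spec.map (CommRingCat.ofHom (R := MvPolynomial σ A) (S := MvPolynomial σ A')
      (MvPolynomial.map ι))) := by
    rw [H3CAlg.UnibranchInj.universallyInjective_iff]
    intro L _ φ₁ φ₂ e
    rw [H3CAlg.UnibranchInj.universallyInjective_iff] at hui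
    refine MvPolynomial.ringHom_ext (RingHom.congr_fun (hui L (φ₁.comp MvPolynomial.C)
      (φ₂.comp MvPolynomial.C) (RingHom.ext fun a => ?_))) fun n => ?_
    · simpa using RingHom.congr_fun e (MvPolynomial.C a)
    · simpa using RingHom.congr_fun e (MvPolynomial.X n)
  have hj := isIntegral_mvPolynomial_map ι hint σ
  haveI := surjective_Spec_of_injective_isIntegral (R := MvPolynomial σ A) (S := MvPolynomial σ A')
    (MvPolynomial.map ι) (MvPolynomial.map_injective _ hι) hj
  haveI : IsIntegralHom (Spec.map (CommRingCat.ofHom (R := MvPolynomial σ A) (S := MvPolynomial σ A')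
      (MvPolynomial.map ι))) := IsIntegralHom.SpecMap_iff.mpr hj
  exact universallyOpen_of_universallyInjective _

theorem universallyOpen_Spec_C (A : Type u) [CommRing A] (σ : Type u) [Finite σ] :
    UniversallyOpen (Spec.map (CommRingCat.ofHom (MvPolynomial.C : A →+* MvPolynomial σ A))) := by
  show UniversallyOpen (Spec.map (CommRingCat.ofHom (algebraMap A (MvPolynomial σ A))))
  haveI : Flat (Spec.map (CommRingCat.ofHom (algebraMap A (MvPolynomial σ A)))) := by
    rw [HasRingHomProperty.Spec_iff (P := @Flat)]
    exact RingHom.flat_algebraMap_iff.2 inferInstance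
  haveI : LocallyOfFinitePresentation (Spec.map (CommRingCat.ofHom (algebraMap A (MvPolynomial σ A)))) := by
    rw [HasRingHomProperty.Spec_iff (P := @LocallyOfFinitePresentation)]
    exact RingHom.finitePresentation_algebraMap.mpr inferInstance
  infer_instance

theorem universallyOpen_polynomial_aux {A A' T K : Type u} [CommRing A] [CommRing A'] [IsDomain A']
    [IsIntegrallyClosed A'] [CommRing T] [Field K] (ι : A →+* A') (hι : Function.Injective ι)
    (hιint : ι.IsIntegral) (hui : UniversallyInjective (Spec.map (CommRingCat.ofHom ι)))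
    {σ : Type u} [Finite σ] (i : MvPolynomial σ A →+* T) (hinj : Function.Injective i)
    (hint : i.IsIntegral) (e : T →+* K) (he : Function.Injective e) (η : A' →+* K)
    (hη : ∀ a, η (ι a) = e (i (MvPolynomial.C a))) :
    UniversallyOpen (Spec.map (CommRingCat.ofHom (i.comp MvPolynomial.C))) := by
  let g : MvPolynomial σ A' →+* K := MvPolynomial.eval₂Hom η fun n => e (i (MvPolynomial.X n))
  have hg : g.comp (MvPolynomial.map ι) = e.comp i := by
    refine MvPolynomial.ringHom_ext (fun a => ?_) fun n => ?_
    · simp only [g, RingHom.comp_apply, MvPolynomial.map_C, MvPolynomial.eval₂Hom_C]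
      exact hη a
    · simp only [g, RingHom.comp_apply, MvPolynomial.map_X, MvPolynomial.eval₂Hom_X']
  have hgj : Function.Injective (g.comp (MvPolynomial.map ι)) := hg ▸ he.comp hinj
  have hj := isIntegral_mvPolynomial_map ι hιint σ
  have hginj : Function.Injective g := injective_of_comp_injective (R := MvPolynomial σ A)
    (S := MvPolynomial σ A') (K := K) (MvPolynomial.map ι) g hj hgj
  haveI : IsIntegrallyClosed (MvPolynomial σ A') := isIntegrallyClosed_mvPolynomial A' σ
  haveI := universallyOpen_mvPolynomial_map ι hι hιint hui σ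
  haveI := universallyOpen_of_dominated (B := MvPolynomial σ A) (B' := MvPolynomial σ A')
    (MvPolynomial.map ι) hj i hint e he g hginj hg
  haveI := universallyOpen_Spec_C A σ
  rw [CommRingCat.ofHom_comp, Spec.map_comp]
  infer_instance

/-- A domain integral over a polynomial algebra over a geometrically unibranch domain. -/
theorem universallyOpen_of_isIntegral_polynomial (A : Type u) [CommRing A] [IsDomain A]
    (hA : ∀ (p : Ideal A) [p.IsPrime], CAlg2.IsGeomUnibranch (Localization.AtPrime p))
    {σ : Type u} [Finite σ] (T : Type u) [CommRing T] [IsDomain T] (i : MvPolynomial σ A →+* T)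
    (hinj : Function.Injective i) (hint : i.IsIntegral) :
    UniversallyOpen (Spec.map (CommRingCat.ofHom (i.comp MvPolynomial.C))) := by
  haveI : IsIntegrallyClosed (integralClosure A (FractionRing A)) :=
    integralClosure.isIntegrallyClosedOfFiniteExtension (FractionRing A)
  obtain ⟨η, hη⟩ := exists_map_integralClosure ((algebraMap T (FractionRing T)).comp (i.comp MvPolynomial.C))
    ((IsFractionRing.injective T (FractionRing T)).comp (hinj.comp (MvPolynomial.C_injective σ A)))
  exact universallyOpen_polynomial_aux (algebraMap A (integralClosure A (FractionRing A)))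
    (fun a b e => IsFractionRing.injective A (FractionRing A) (congrArg Subtype.val e))
    (algebraMap_isIntegral_iff.2 inferInstance) (H3CAlg.UnibranchInj.result.2 hA) i hinj hint
    (algebraMap T (FractionRing T)) (IsFractionRing.injective T _) η hη

end Groth.Agent.H06EGA14
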