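import Groth.Agent.H06EGA14.Chevalley2
import Groth.Agent.H06EGA14.UnivOpenNormal

/-!
# Chevalley's criterion for irreducible schemes, without Noetherian hypotheses (EGA IV 14.4.1)
-/

set_option autoImplicit false
set_option linter.style.haveILetI false
set_option backward.isDefEq.respectTransparency false
universe u

open CategoryTheory CategoryTheory.Limits AlgebraicGeometry TopologicalSpace Topology

namespace Groth.Agent.H06EGA14

open H8Props.FieldDim

theorem surjective_Spec_of_nil {R S : Type u} [CommRing R] [CommRing S] (f : R →+* S)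
    (hs : Function.Surjective f) (hk : ∀ z, f z = 0 → IsNilpotent z) :
    Surjective (Spec.map (CommRingCat.ofHom f)) := by
  refine ⟨fun P => ?_⟩
  haveI := P.2
  have hle : RingHom.ker f ≤ P.asIdeal := fun z hz => by
    obtain ⟨n, hn⟩ := hk z hz
    exact P.2.mem_of_pow_mem n (hn ▸ zero_mem _)
  refine ⟨⟨P.asIdeal.map f, Ideal.map_isPrime_of_surjective hs hle⟩, PrimeSpectrum.ext ?_⟩
  show (P.asIdeal.map f).comap f = P.asIdeal
  rw [Ideal.comap_map_of_surjective f hs, ← RingHom.ker_eq_comap_bot, sup_eq_left]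
  exact hle

theorem isGeomUnibranch_localization_red {A₀ : Type u} [CommRing A₀]
    (hA : ∀ (p : Ideal A₀) [p.IsPrime], CAlg2.IsGeomUnibranch (Localization.AtPrime p))
    (p : Ideal (A₀ ⧸ nilradical A₀)) [p.IsPrime] : CAlg2.IsGeomUnibranch (Localization.AtPrime p) := by
  let q : A₀ →+* A₀ ⧸ nilradical A₀ := Ideal.Quotient.mk _
  let f : Localization.AtPrime (p.comap q) →+* Localization.AtPrime p :=
    Localization.localRingHom (p.comap q) p q rfl
  refine isGeomUnibranch_of_surjective f
    (RingHom.surjectiveOnStalks_of_surjective Ideal.Quotient.mk_surjective p _) (fun z hz => ?_) (hA _)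
  obtain ⟨a, b, rfl⟩ := IsLocalization.exists_mk'_eq (p.comap q).primeCompl z
  rw [Localization.localRingHom_mk', IsLocalization.mk'_eq_zero_iff] at hz
  obtain ⟨⟨t, ht⟩, hta⟩ := hz
  obtain ⟨t, rfl⟩ := Ideal.Quotient.mk_surjective t
  rw [← map_mul] at hta
  obtain ⟨n, hn⟩ := mem_nilradical.1 (Ideal.Quotient.eq_zero_iff_mem.1 hta)
  refine ⟨n, ?_⟩
  rw [← IsLocalization.mk'_pow, IsLocalization.mk'_eq_zero_iff]
  exact ⟨⟨t ^ n, fun h => ht ((Ideal.IsPrime.comap q).mem_of_pow_mem n h : t ∈ p.comap q)⟩, by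
    rw [← mul_pow]; exact hn⟩

/-- The integral case, with nilpotents. -/
theorem universallyOpen_of_isIntegral_polynomial_nil {A₀ T₀ : Type u} [CommRing A₀] [CommRing T₀]
    [(nilradical A₀).IsPrime] [(nilradical T₀).IsPrime]
    (hA : ∀ (p : Ideal A₀) [p.IsPrime], CAlg2.IsGeomUnibranch (Localization.AtPrime p))
    {σ : Type u} [Finite σ] (τ : MvPolynomial σ A₀ →+* T₀) (hint : τ.IsIntegral)
    (hdom : ∀ f, τ f ∈ nilradical T₀ → ∀ m, MvPolynomial.coeff m f ∈ nilradical A₀) :
    UniversallyOpen (Spec.map (CommRingCat.ofHom (τ.comp MvPolynomial.C))) := by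
  let q : A₀ →+* A₀ ⧸ nilradical A₀ := Ideal.Quotient.mk _
  let qT : T₀ →+* T₀ ⧸ nilradical T₀ := Ideal.Quotient.mk _
  let i : MvPolynomial σ (A₀ ⧸ nilradical A₀) →+* T₀ ⧸ nilradical T₀ :=
    MvPolynomial.eval₂Hom (Ideal.Quotient.lift _ ((qT.comp τ).comp MvPolynomial.C) fun a ha =>
      Ideal.Quotient.eq_zero_iff_mem.2 (mem_nilradical.2
        (((mem_nilradical.1 ha).map MvPolynomial.C).map τ)))
      fun n => qT (τ (MvPolynomial.X n))
  have hi : i.comp (MvPolynomial.map q) = qT.comp τ := by
    refine MvPolynomial.ringHom_ext (fun a => ?_) fun n => ?_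
    · simp only [i, q, RingHom.comp_apply, MvPolynomial.map_C, MvPolynomial.eval₂Hom_C]
      rfl
    · simp only [i, RingHom.comp_apply, MvPolynomial.map_X, MvPolynomial.eval₂Hom_X']
  have hsur : Function.Surjective (MvPolynomial.map (σ := σ) q) :=
    MvPolynomial.map_surjective q Ideal.Quotient.mk_surjective
  have hinj : Function.Injective i := by
    refine (injective_iff_map_eq_zero i).2 fun f hf => ?_
    obtain ⟨f, rfl⟩ := hsur f
    have h1 : qT (τ f) = 0 := (RingHom.congr_fun hi f).symm.trans hf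
    ext m
    rw [MvPolynomial.coeff_map, MvPolynomial.coeff_zero]
    exact Ideal.Quotient.eq_zero_iff_mem.2 (hdom f (Ideal.Quotient.eq_zero_iff_mem.1 h1) m)
  have hint' : i.IsIntegral := by
    refine RingHom.IsIntegral.tower_top (R := MvPolynomial σ A₀) (S := MvPolynomial σ (A₀ ⧸ nilradical A₀))
      (T := T₀ ⧸ nilradical T₀) (MvPolynomial.map q) i ?_
    rw [hi]
    exact hint.trans τ qT (RingHom.isIntegral_of_surjective qT Ideal.Quotient.mk_surjective)
  haveI := universallyOpen_of_isIntegral_polynomial (A₀ ⧸ nilradical A₀)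
    (isGeomUnibranch_localization_red hA) (T₀ ⧸ nilradical T₀) i hinj hint'
  haveI := surjective_Spec_of_nil qT Ideal.Quotient.mk_surjective
    fun z hz => mem_nilradical.1 (Ideal.Quotient.eq_zero_iff_mem.1 hz)
  haveI : UniversallyOpen (Spec.map (CommRingCat.ofHom q)) := by
    haveI : IsClosedImmersion (Spec.map (CommRingCat.ofHom q)) :=
      IsClosedImmersion.spec_of_surjective _ Ideal.Quotient.mk_surjective
    haveI := surjective_Spec_of_nil q Ideal.Quotient.mk_surjective
      fun z hz => mem_nilradical.1 (Ideal.Quotient.eq_zero_iff_mem.1 hz)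
    exact universallyOpen_of_universallyInjective _
  haveI : UniversallyOpen (Spec.map (CommRingCat.ofHom qT) ≫
      Spec.map (CommRingCat.ofHom (τ.comp MvPolynomial.C))) := by
    rw [← Spec.map_comp, ← CommRingCat.ofHom_comp,
      show qT.comp (τ.comp MvPolynomial.C) = (i.comp MvPolynomial.C).comp q from RingHom.ext fun a => by
        rw [RingHom.comp_apply (i.comp MvPolynomial.C), RingHom.comp_apply i, ← MvPolynomial.map_C q a,
          ← RingHom.comp_apply i, hi]
        rfl, CommRingCat.ofHom_comp, Spec.map_comp]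
    infer_instance
  exact universallyOpen_of_comp_surjective (Spec.map (CommRingCat.ofHom qT)) _

theorem universallyOpen_away_of_bijective {A₀ C S : Type u} [CommRing A₀] [CommRing C] [CommRing S]
    [Algebra A₀ C] (a : A₀ →+* S) (v : S →+* C) (hva : v.comp a = algebraMap A₀ C) (r : S)
    (hbij : Function.Bijective (Localization.awayMap v r))
    [UniversallyOpen (Spec.map (CommRingCat.ofHom a))] :
    UniversallyOpen (Spec.map (CommRingCat.ofHom (algebraMap A₀ (Localization.Away (v r))))) := by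
  let e : CommRingCat.of (Localization.Away r) ≅ CommRingCat.of (Localization.Away (v r)) :=
    (RingEquiv.ofBijective _ hbij).toCommRingCatIso
  have he : CommRingCat.ofHom (algebraMap A₀ (Localization.Away (v r))) =
      CommRingCat.ofHom a ≫ CommRingCat.ofHom (algebraMap S (Localization.Away r)) ≫ e.hom := by
    ext z
    show algebraMap A₀ _ z = Localization.awayMap v r (algebraMap S _ (a z))
    rw [IsScalarTower.algebraMap_apply A₀ C (Localization.Away (v r)), ← hva, Localization.awayMap,
      IsLocalization.Away.map, IsLocalization.map_eq, RingHom.comp_apply]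
  rw [he, Spec.map_comp, Spec.map_comp, Category.assoc]
  haveI : IsOpenImmersion (Spec.map (CommRingCat.ofHom (algebraMap S (Localization.Away r)))) :=
    IsOpenImmersion.of_isLocalization r
  infer_instance

/-- The algebra: over an irreducible geometrically unibranch base, an algebra which near `c` is
quasi-finite over a polynomial algebra dominated by it is universally open near `c`. -/
theorem exists_universallyOpen_away {A₀ C : Type u} [CommRing A₀] [CommRing C] [Algebra A₀ C]
    [Algebra.FiniteType A₀ C] [(nilradical A₀).IsPrime] [(nilradical C).IsPrime]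
    (hA : ∀ (p : Ideal A₀) [p.IsPrime], CAlg2.IsGeomUnibranch (Localization.AtPrime p))
    {σ : Type u} [Finite σ] (γ : MvPolynomial σ A₀ →ₐ[A₀] C) (c : Ideal C) [c.IsPrime]
    (hqf : letI := γ.toRingHom.toAlgebra; Algebra.QuasiFiniteAt (MvPolynomial σ A₀) c)
    (hdom : ∀ f, γ f ∈ nilradical C → ∀ m, MvPolynomial.coeff m f ∈ nilradical A₀) :
    ∃ r ∉ c, UniversallyOpen (Spec.map (CommRingCat.ofHom (algebraMap A₀ (Localization.Away r)))) := by
  letI := γ.toRingHom.toAlgebra
  haveI : IsScalarTower A₀ (MvPolynomial σ A₀) C :=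
    IsScalarTower.of_algebraMap_eq fun a => (γ.commutes a).symm
  haveI : Algebra.FiniteType (MvPolynomial σ A₀) C :=
    Algebra.FiniteType.of_restrictScalars_finiteType A₀ _ C
  haveI := hqf
  obtain ⟨S', hS', r, hrc, hbij⟩ :=
    Algebra.QuasiFiniteAt.exists_fg_and_exists_notMem_and_awayMap_bijective (R := MvPolynomial σ A₀) c
  refine ⟨r.1, hrc, ?_⟩
  haveI : (nilradical S').IsPrime := by
    have : nilradical S' = (nilradical C).comap S'.val.toRingHom := by
      ext z
      exact ⟨fun hz => mem_nilradical.2 ((mem_nilradical.1 hz).map S'.val), fun hz =>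
        mem_nilradical.2 ((IsNilpotent.map_iff (f := S'.val) Subtype.val_injective).1 (mem_nilradical.1 hz))⟩
    rw [this]
    infer_instance
  haveI : Algebra.IsIntegral (MvPolynomial σ A₀) S' :=
    haveI : Module.Finite (MvPolynomial σ A₀) S' := Module.Finite.iff_fg.2 hS'
    inferInstance
  let τ : MvPolynomial σ A₀ →+* S' := algebraMap (MvPolynomial σ A₀) S'
  haveI := universallyOpen_of_isIntegral_polynomial_nil (A₀ := A₀) (T₀ := S') hA τ
    (algebraMap_isIntegral_iff.2 ‹_›)
    fun f hf => hdom f (mem_nilradical.2 ((mem_nilradical.1 hf).map S'.val))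
  exact universallyOpen_away_of_bijective (S := S') (τ.comp MvPolynomial.C) S'.val.toRingHom
    (RingHom.ext fun z => γ.commutes z) r hbij

/-- Chevalley's criterion for irreducible source and base. -/
theorem universallyOpen_of_irreducible {X Y : Scheme.{u}} [IrreducibleSpace X] [IrreducibleSpace Y]
    (hY : ∀ y : Y, CAlg2.IsGeomUnibranch (Y.presheaf.stalk y)) (f : X ⟶ Y) [LocallyOfFiniteType f]
    (hmaxY : ∀ w, w ⤳ f (genericPoint X) → w = f (genericPoint X))
    (hdim : ∀ x, FlatMor.fibreDimAt f x ≤ cdim (f.asFiber (genericPoint X))) : UniversallyOpen f := by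
  suffices key : ∀ x : X, ∃ (U : Scheme.{u}) (j : U ⟶ X), IsOpenImmersion j ∧ x ∈ Set.range j ∧
      UniversallyOpen (j ≫ f) by
    choose U j hj hx hUO using key
    haveI := hj
    refine (IsZariskiLocalAtSource.iff_of_iSup_eq_top (P := @UniversallyOpen)
      (fun x : X => (j x).opensRange) (top_le_iff.1 fun x _ => Opens.mem_iSup.2 ⟨x, hx x⟩)).2 fun x => ?_
    haveI := hUO x
    rw [← (j x).isoOpensRange_inv_comp, Category.assoc]
    infer_instance
  intro x
  obtain ⟨(W : Y.Opens), (hW : IsAffineOpen W), hxW, -⟩ := Opens.isBasis_iff_nbhd.mp Y.isBasis_affineOpens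
    (show f x ∈ (⊤ : Y.Opens) from trivial)
  obtain ⟨(V : X.Opens), (hV : IsAffineOpen V), hxV, hVW⟩ := Opens.isBasis_iff_nbhd.mp X.isBasis_affineOpens
    (show x ∈ f ⁻¹ᵁ W from hxW)
  obtain ⟨q, rfl⟩ : x ∈ Set.range hV.fromSpec := by rw [hV.range_fromSpec]; exact hxV
  obtain ⟨η, hη⟩ : genericPoint X ∈ Set.range hV.fromSpec := by
    rw [hV.range_fromSpec]; exact (genericPoint_specializes _).mem_open V.2 hxV
  letI := (f.appLE W V hVW).hom.toAlgebra
  haveI : Algebra.FiniteType Γ(Y, W) Γ(X, V) := f.finiteType_appLE hW hV hVW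
  let φ := Spec.map (CommRingCat.ofHom (algebraMap Γ(Y, W) Γ(X, V)))
  haveI : LocallyOfFiniteType φ := (HasRingHomProperty.Spec_iff (P := @LocallyOfFiniteType)).mpr
    (RingHom.finiteType_algebraMap.mpr inferInstance)
  have hsq : φ ≫ hW.fromSpec = hV.fromSpec ≫ f := IsAffineOpen.SpecMap_appLE_fromSpec f hW hV hVW
  obtain ⟨a, ha, -⟩ := H06Equidim.exists_trdeg_asFiber φ η
  have hcη : cdim (f.asFiber (hV.fromSpec η)) = a := by
    have h1 : cdim ((hV.fromSpec ≫ f).asFiber η) = cdim ((φ ≫ hW.fromSpec).asFiber η) := by rw [hsq]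
    rw [H06Equidim.cdim_asFiber_comp, H06Equidim.cdim_asFiber_comp, cdim_asFiber_openImmersion hV.fromSpec,
      cdim_asFiber_openImmersion hW.fromSpec, zero_add, add_zero, ha] at h1
    exact h1
  rw [← hη] at hmaxY hdim
  have hqd : FlatMor.fibreDimAt φ q ≤ (a : ℕ) := by
    rw [← fibreDimAt_comp_openImmersion φ hW.fromSpec q, hsq,
      fibreDimAt_openImmersion_comp hV.fromSpec f q, ← hcη]
    exact hdim _
  obtain ⟨σ, _, γ, hσ, hqf⟩ := exists_quasiFiniteAt_map q a hqd
  let G := Spec.map (CommRingCat.ofHom γ.toRingHom)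
  let π := Spec.map (CommRingCat.ofHom (algebraMap Γ(Y, W) (MvPolynomial σ Γ(Y, W))))
  haveI : LocallyOfFiniteType π := (HasRingHomProperty.Spec_iff (P := @LocallyOfFiniteType)).mpr
    (RingHom.finiteType_algebraMap.mpr inferInstance)
  have hGπ : G ≫ π = φ := by
    rw [← Spec.map_comp, ← CommRingCat.ofHom_comp, AlgHom.toRingHom_eq_coe, γ.comp_algebraMap]
  haveI : LocallyOfFiniteType G :=
    haveI : LocallyOfFiniteType (G ≫ π) := hGπ ▸ inferInstance
    locallyOfFiniteType_of_comp G π
  have hall : ∀ z : Spec Γ(X, V), η ⤳ z := fun z => hV.fromSpec.isEmbedding.isInducing.specializes_iff.mp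
    (hη ▸ genericPoint_specializes _)
  have hcd : cdim (π.asFiber (G η)) = FlatMor.fibreDimAt π (G η) := by
    refine le_antisymm (H06Equidim.cdim_asFiber_le_fibreDimAt π _) ?_
    rw [(affineSpace_fibre σ (G η)).1]
    have h1 : cdim ((G ≫ π).asFiber η) = (a : WithBot ℕ∞) := by rw [hGπ]; exact ha
    rw [H06Equidim.cdim_asFiber_comp] at h1
    refine le_trans ?_ (le_trans h1.ge ((add_le_add ((H06Equidim.cdim_asFiber_le_fibreDimAt G η).trans
      (fibreDimAt_le_zero_of_quasiFiniteAt G
        ((hall q).mem_open G.quasiFiniteLocus.2 (show q ∈ G.quasiFiniteLocus from hqf)))) le_rfl).trans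
          (zero_add _).le))
    exact_mod_cast hσ
  have hnilC : nilradical Γ(X, V) = η.asIdeal := by
    refine le_antisymm ?_ ?_
    · rw [nilradical_eq_sInf]; exact sInf_le η.2
    · rw [nilradical_eq_sInf]
      exact le_sInf fun P hP => (PrimeSpectrum.le_iff_specializes η ⟨P, hP⟩).mpr (hall ⟨P, hP⟩)
  have hφη : hW.fromSpec (φ η) = f (hV.fromSpec η) := by
    exact congrArg (fun ψ : Spec Γ(X, V) ⟶ Y => ψ η) hsq
  have hallA : ∀ p : Spec Γ(Y, W), φ η ⤳ p := fun p => by
    refine hW.fromSpec.isEmbedding.isInducing.specializes_iff.mp ?_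
    rw [hφη, show f (hV.fromSpec η) = genericPoint Y from
      (hmaxY _ (genericPoint_specializes _)).symm]
    exact genericPoint_specializes _
  have hnilA : nilradical Γ(Y, W) = (φ η).asIdeal := by
    refine le_antisymm ?_ ?_
    · rw [nilradical_eq_sInf]; exact sInf_le (φ η).2
    · rw [nilradical_eq_sInf]
      exact le_sInf fun P hP => (PrimeSpectrum.le_iff_specializes (φ η) ⟨P, hP⟩).mpr (hallA ⟨P, hP⟩)
  haveI : (nilradical Γ(X, V)).IsPrime := hnilC ▸ η.2
  haveI : (nilradical Γ(Y, W)).IsPrime := hnilA ▸ (φ η).2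
  have hdom : ∀ p, γ p ∈ nilradical Γ(X, V) → ∀ m, MvPolynomial.coeff m p ∈ nilradical Γ(Y, W) := by
    intro p hp m
    let Q : PrimeSpectrum (MvPolynomial σ Γ(Y, W)) := ⟨_, isPrime_map_C (σ := σ) (nilradical Γ(Y, W))⟩
    have hle : Q.asIdeal ≤ (G η).asIdeal := by
      refine Ideal.map_le_iff_le_comap.2 fun z hz => ?_
      show γ (MvPolynomial.C z) ∈ η.asIdeal
      rw [← MvPolynomial.algebraMap_eq, γ.commutes]
      exact hnilA.le hz
    have hQ : Q = G η := H06Equidim.eq_of_specializes_of_cdim_eq π (G η) hcd Q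
      ((PrimeSpectrum.le_iff_specializes Q (G η)).mp hle) (by
        rw [show π (G η) = φ η by rw [← Scheme.Hom.comp_apply, hGπ]]
        refine PrimeSpectrum.ext ?_
        show Q.asIdeal.comap MvPolynomial.C = (φ η).asIdeal
        rw [← hnilA]
        refine le_antisymm (fun z hz => ?_) Ideal.le_comap_map
        simpa using MvPolynomial.mem_map_C_iff.1 hz 0)
    exact MvPolynomial.mem_map_C_iff.1
      ((congrArg PrimeSpectrum.asIdeal hQ).ge (show γ p ∈ η.asIdeal from hnilC ▸ hp)) m
  haveI : q.asIdeal.IsPrime := q.2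
  obtain ⟨r, hrq, hUO⟩ := exists_universallyOpen_away (fun p hp => by
      haveI := hp
      let y : Spec Γ(Y, W) := ⟨p, hp⟩
      have hpW : hW.fromSpec y ∈ W := show hW.fromSpec y ∈ (W : Set Y) from
        hW.range_fromSpec ▸ Set.mem_range_self y
      letI : Algebra Γ(Y, W) (Y.presheaf.stalk (hW.fromSpec y)) :=
        TopCat.Presheaf.algebra_section_stalk Y.presheaf ⟨hW.fromSpec y, hpW⟩
      haveI : IsLocalization.AtPrime (Y.presheaf.stalk (hW.fromSpec y)) p :=
        hW.isLocalization_stalk' y hpW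
      exact isGeomUnibranch_of_ringEquiv
        (IsLocalization.algEquiv p.primeCompl (Y.presheaf.stalk (hW.fromSpec y))
          (Localization.AtPrime p)).toRingEquiv (hY _))
    γ q.asIdeal (quasiFiniteAt_of_specMap _ q hqf) hdom
  let l := Spec.map (CommRingCat.ofHom (algebraMap Γ(X, V) (Localization.Away r)))
  haveI : IsOpenImmersion l := IsOpenImmersion.of_isLocalization r
  refine ⟨_, l ≫ hV.fromSpec, inferInstance, ?_, ?_⟩
  · obtain ⟨z, hz⟩ : q ∈ Set.range (PrimeSpectrum.comap (algebraMap Γ(X, V) (Localization.Away r))) := by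
      rw [PrimeSpectrum.localization_away_comap_range _ r]; exact hrq
    exact ⟨z, congrArg hV.fromSpec hz⟩
  · rw [Category.assoc, ← hsq, ← Category.assoc, ← Spec.map_comp, ← CommRingCat.ofHom_comp,
      ← IsScalarTower.algebraMap_eq]
    haveI := hUO
    infer_instance

end Groth.Agent.H06EGA14
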