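import Groth.Agent.H06EGA14.OpenFibreDim
import Groth.Agent.H3CAlg.PruferFibreDim

/-!
Dimensions of the components of the fibres of open morphisms.
-/

set_option autoImplicit false
set_option backward.isDefEq.respectTransparency false
set_option linter.style.haveILetI false

open CategoryTheory CategoryTheory.Limits AlgebraicGeometry TopologicalSpace Topology

universe u

namespace Groth.Agent.H06EGA14.CompDims

open Groth.Agent.H8Props.FieldDim Groth.Agent.H06Equidim

variable {X Y : Scheme.{u}}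

/-- The maximal points of the fibres. -/
def IsFibMax (f : X ⟶ Y) (x : X) : Prop := ∀ x' : X, f x' = f x → x' ⤳ x → x' = x

/-- The set of dimensions of the components of a fibre. -/
def compDims (f : X ⟶ Y) (z : Y) : Set (WithBot ℕ∞) :=
  (fun Z : Set ↥(f.fiber z) => topologicalKrullDim ↥Z) '' irreducibleComponents ↥(f.fiber z)

theorem mem_compDims_iff (f : X ⟶ Y) (z : Y) (d : WithBot ℕ∞) :
    d ∈ compDims f z ↔ ∃ x : X, f x = z ∧ IsFibMax f x ∧ cdim (f.asFiber x) = d := by
  constructor
  · rintro ⟨Z, hZ, rfl⟩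
    obtain ⟨u, rfl, hu⟩ := H06EGA14.exists_eq_closure_singleton hZ
    refine ⟨f.fiberι z u, (f.range_fiberι z).subset (Set.mem_range_self u), fun x' hx' hsp => ?_,
      H3CAlg.PruferFibreDim.cdim_asFiber_fiberι f z u⟩
    obtain ⟨u', rfl⟩ : x' ∈ Set.range (f.fiberι z) := by
      rw [f.range_fiberι]
      exact hx'.trans ((f.range_fiberι z).subset (Set.mem_range_self u))
    rw [hu u' ((f.fiberι z).isEmbedding.isInducing.specializes_iff.mp hsp)]
  · rintro ⟨x, rfl, hx, rfl⟩
    refine ⟨closure {f.asFiber x}, closure_singleton_mem_irreducibleComponents _ fun u hu => ?_, rfl⟩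
    apply (f.fiberι (f x)).isEmbedding.injective
    have h1 := hu.map (f.fiberι (f x)).continuous
    rw [f.fiberι_asFiber] at h1 ⊢
    exact hx _ ((f.range_fiberι _).subset (Set.mem_range_self u)) h1

theorem finite_compDims [IsLocallyNoetherian Y] (f : X ⟶ Y) [LocallyOfFiniteType f] [QuasiCompact f] (z : Y) :
    (compDims f z).Finite := by
  haveI := locallyOfFiniteType_fiberToSpec f z
  haveI : IsLocallyNoetherian (f.fiber z) := LocallyOfFiniteType.isLocallyNoetherian (f.fiberToSpecResidueField z)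
  haveI : QuasiCompact (f.fiberToSpecResidueField z) :=
    MorphismProperty.pullback_snd (P := @QuasiCompact) f (Y.fromSpecResidueField z) inferInstance
  haveI : CompactSpace (f.fiber z) := QuasiCompact.compactSpace_of_compactSpace (f.fiberToSpecResidueField z)
  haveI : IsNoetherian (f.fiber z) := ⟨⟩
  exact NoetherianSpace.finite_irreducibleComponents.image _

/-- Over a generization, an open morphism has a component of the same dimension. -/
theorem exists_over_generization [IsLocallyNoetherian Y] (f : X ⟶ Y) [LocallyOfFiniteType f]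
    (hf : IsOpenMap f.base) (ξ : X) (hξmax : IsFibMax f ξ) (y' : Y) (h : y' ⤳ f ξ) :
    ∃ t : X, t ⤳ ξ ∧ f t = y' ∧ IsFibMax f t ∧ cdim (f.asFiber t) = cdim (f.asFiber ξ) := by
  let I := Scheme.IdealSheafData.vanishingIdeal (X := Y) ⟨closure {y'}, isClosed_closure⟩
  let i := I.subschemeι
  have hr : Set.range i = closure {y'} := by
    show Set.range I.subschemeι = _
    rw [Scheme.IdealSheafData.range_subschemeι, Scheme.IdealSheafData.coe_support_vanishingIdeal]
    rfl
  obtain ⟨η₀, hη₀⟩ : y' ∈ Set.range i := hr ▸ subset_closure rfl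
  obtain ⟨y₀, hy₀⟩ : f ξ ∈ Set.range i := hr ▸ h.mem_closure
  haveI : IsLocallyNoetherian I.subscheme := LocallyOfFiniteType.isLocallyNoetherian i
  let a := pullback.fst f i
  let b := pullback.snd f i
  have hP : IsPullback a b f i := IsPullback.of_hasPullback f i
  have hsq : ∀ q, f (a q) = i (b q) := fun q => by
    rw [← Scheme.Hom.comp_apply, hP.w, Scheme.Hom.comp_apply]
  obtain ⟨x', hx', hbx'⟩ := Scheme.exists_preimage_of_isPullback hP ξ y₀ hy₀.symm
  have hmax' : ∀ q, b q = b x' → q ⤳ x' → q = x' := fun q hq hqx => by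
    refine a.isEmbedding.injective ((hξmax _ ?_ ?_).trans hx'.symm)
    · rw [hsq, hq, ← hsq, hx']
    · exact hx' ▸ hqx.map a.continuous
  have hopen : EGA43.IsOpenAt b.base x' := by
    intro U hU
    obtain ⟨U₀, hU₀s, hU₀, hxU₀⟩ := mem_nhds_iff.mp hU
    obtain ⟨U'', hU'', hpre⟩ := a.isEmbedding.isInducing.isOpen_iff.mp hU₀
    refine mem_nhds_iff.mpr ⟨i ⁻¹' (f '' U''), ?_, (hf U'' hU'').preimage i.continuous, a x', hpre.ge hxU₀, hsq x'⟩
    rintro t ⟨z, hz, hzt⟩
    obtain ⟨p, hp1, hp2⟩ := Scheme.exists_preimage_of_isPullback hP z t hzt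
    exact ⟨p, hU₀s (hpre.le (show a p ∈ U'' by rw [hp1]; exact hz)), hp2⟩
  have hmax₀ : ∀ w, w ⤳ η₀ → w = η₀ := fun w hw => by
    refine i.isEmbedding.injective ?_
    have h1 : i w ⤳ y' := hη₀ ▸ hw.map i.continuous
    have h2 : y' ⤳ i w := specializes_iff_mem_closure.mpr (hr ▸ Set.mem_range_self w)
    rw [(h1.antisymm h2).eq, hη₀]
  obtain ⟨η, hηx, hbη, hηmax, hd⟩ := exists_generic_of_isOpenAt b x' hmax' hopen η₀
    (i.isEmbedding.isInducing.specializes_iff.mp (by rw [hη₀, hbx', hy₀]; exact h)) hmax₀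
  rw [← cdim_asFiber_eq_fibreDimAt_of_fibre b x' hmax', cdim_asFiber_baseChange f hP,
    cdim_asFiber_baseChange f hP, hx'] at hd
  have hηξ : a η ⤳ ξ := hx' ▸ hηx.map a.continuous
  have hfη : f (a η) = y' := by rw [hsq, hbη, hη₀]
  have htmax : IsFibMax f (a η) := fun w hw hwη => by
    obtain ⟨q, hq1, -⟩ := Scheme.exists_preimage_of_isPullback hP w η₀ (by rw [hw, hfη, hη₀])
    rw [← hq1, hηmax q (a.isEmbedding.isInducing.specializes_iff.mp (hq1 ▸ hwη))]
  refine ⟨a η, hηξ, hfη, htmax, le_antisymm ?_ hd⟩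
  rw [cdim_asFiber_eq_fibreDimAt_of_fibre f _ htmax, cdim_asFiber_eq_fibreDimAt_of_fibre f ξ hξmax]
  exact H8Props.FieldDim.fibreDimAt_le_of_specializes f hηξ

theorem compDims_subset_of_specializes [IsLocallyNoetherian Y] (f : X ⟶ Y) [LocallyOfFiniteType f]
    (hf : IsOpenMap f.base) {y' z : Y} (h : y' ⤳ z) : compDims f z ⊆ compDims f y' := by
  intro d hd
  obtain ⟨ξ, rfl, hξ, rfl⟩ := (mem_compDims_iff f z d).1 hd
  obtain ⟨t, -, ht, htmax, htd⟩ := exists_over_generization f hf ξ hξ y' h
  exact (mem_compDims_iff f y' _).2 ⟨t, ht, htmax, htd⟩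

/-- A dimension occurring over a point occurs near it in its closure. -/
theorem exists_open_inter_closure [IsLocallyNoetherian Y] (f : X ⟶ Y) [LocallyOfFiniteType f] [QuasiCompact f]
    (hf : IsOpenMap f.base) (η : Y) (d : WithBot ℕ∞) (hd : d ∈ compDims f η) :
    ∃ V : Set Y, IsOpen V ∧ η ∈ V ∧ ∀ z ∈ V, η ⤳ z → d ∈ compDims f z := by
  obtain ⟨w, hwη, hw, rfl⟩ := (mem_compDims_iff f η d).1 hd
  haveI := locallyOfFiniteType_fiberToSpec f η
  haveI : IsLocallyNoetherian (f.fiber η) := LocallyOfFiniteType.isLocallyNoetherian (f.fiberToSpecResidueField η)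
  haveI : QuasiCompact (f.fiberToSpecResidueField η) :=
    MorphismProperty.pullback_snd (P := @QuasiCompact) f (Y.fromSpecResidueField η) inferInstance
  haveI : CompactSpace (f.fiber η) := QuasiCompact.compactSpace_of_compactSpace (f.fiberToSpecResidueField η)
  haveI : IsNoetherian (f.fiber η) := ⟨⟩
  let T : Set X := {t | f t = η ∧ IsFibMax f t ∧ t ≠ w}
  have hT : T.Finite := by
    refine ((NoetherianSpace.finite_irreducibleComponents (α := ↥(f.fiber η))).preimage
      (f := fun u : f.fiber η => closure {u}) (fun a _ b _ hab => H06EGA14.eq_of_closure_singleton_eq hab)).image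
      (f.fiberι η) |>.subset ?_
    rintro t ⟨ht, htmax, -⟩
    obtain ⟨u, rfl⟩ : t ∈ Set.range (f.fiberι η) := by rw [f.range_fiberι]; exact ht
    refine ⟨u, closure_singleton_mem_irreducibleComponents _ fun u' hu' => (f.fiberι η).isEmbedding.injective
      (htmax _ ?_ (hu'.map (f.fiberι η).continuous)), rfl⟩
    exact ((f.range_fiberι η).subset (Set.mem_range_self u')).trans ht.symm
  let U : Set X := (⋃ t ∈ T, closure {t})ᶜ
  have hU : IsOpen U := (hT.isClosed_biUnion fun t _ => isClosed_closure).isOpen_compl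
  have hwU : w ∈ U := by
    intro hh
    simp only [Set.mem_iUnion] at hh
    obtain ⟨t, ⟨ht, -, hne⟩, htw⟩ := hh
    exact hne (hw t (ht.trans hwη.symm) (specializes_iff_mem_closure.2 htw))
  refine ⟨f '' U, hf U hU, ⟨w, hwU, hwη⟩, ?_⟩
  rintro z ⟨u, huU, rfl⟩ hηz
  obtain ⟨v, hvu, hvz, hvmax, -⟩ := exists_maximal_generization f u
  obtain ⟨t, htv, htη, htmax, htd⟩ := exists_over_generization f hf v hvmax η (by rw [hvz]; exact hηz)
  have htw : t = w := by
    by_contra hne
    apply (hvu.mem_open hU huU : v ∈ U)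
    simp only [Set.mem_iUnion]
    exact ⟨t, ⟨htη, htmax, hne⟩, htv.mem_closure⟩
  exact (mem_compDims_iff f _ _).2 ⟨v, hvz, hvmax, htd.symm.trans (htw ▸ rfl)⟩

theorem exists_nhd_compDims_eq [IsLocallyNoetherian Y] (f : X ⟶ Y) [LocallyOfFiniteType f] [QuasiCompact f]
    (hf : IsOpenMap f.base) (y : Y)
    (h : ∀ η : Y, y ∈ closure {η} → closure {η} ∈ irreducibleComponents (Y : Type u) → compDims f y = compDims f η) :
    ∃ V ∈ 𝓝 y, ∀ z ∈ V, compDims f z = compDims f y := by
  obtain ⟨W, hyW, -, hW⟩ := H06Equidim.exists_nhd_components_mem y ⊤ trivial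
  have hle : ∀ z ∈ W, compDims f z ⊆ compDims f y := fun z hz => by
    obtain ⟨η₀, hη₀, hT⟩ := exists_component_generization z
    rw [h η₀ (hW η₀ (hη₀.mem_open W.2 hz) (eq_of_specializes_of_component hT)).mem_closure hT]
    exact compDims_subset_of_specializes f hf hη₀
  obtain ⟨(A : Y.Opens), (hA : IsAffineOpen A), hyA, -⟩ := Opens.isBasis_iff_nbhd.mp Y.isBasis_affineOpens
    (show y ∈ (⊤ : Y.Opens) from trivial)
  haveI : IsNoetherianRing Γ(Y, A) := IsLocallyNoetherian.component_noetherian ⟨A, hA⟩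
  haveI : NoetherianSpace ((A : Set Y) : Type u) := noetherianSpace_of_isAffineOpen A hA
  have hge : ∀ d ∈ compDims f y, ∀ᶠ z in 𝓝 y, d ∈ compDims f z := by
    intro d hd
    let S : Set ↥(A : Set Y) := {z | d ∉ compDims f z.1}
    have hnot : (⟨y, hyA⟩ : ↥(A : Set Y)) ∉ closure S := by
      intro hcl
      haveI : QuasiSober ↥(A : Set Y) := A.2.isOpenEmbedding_subtypeVal.quasiSober
      haveI : NoetherianSpace ↥(closure S) := inferInstance
      haveI : QuasiSober ↥(closure S) := isClosed_closure.isClosedEmbedding_subtypeVal.quasiSober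
      let y₁ : ↥(closure S) := ⟨⟨y, hyA⟩, hcl⟩
      obtain ⟨C, hC, hyC⟩ : ∃ C ∈ irreducibleComponents ↥(closure S), y₁ ∈ C :=
        ⟨irreducibleComponent y₁, irreducibleComponent_mem_irreducibleComponents y₁, mem_irreducibleComponent⟩
      obtain ⟨γ, hγ⟩ := QuasiSober.sober hC.1 (isClosed_of_mem_irreducibleComponents C hC)
      let η : Y := γ.1.1
      have hηy : η ⤳ y := ((hγ.specializes hyC).map continuous_subtype_val).map continuous_subtype_val
      have hdη : d ∈ compDims f η := compDims_subset_of_specializes f hf hηy hd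
      obtain ⟨V, hV, hηV, hVz⟩ := exists_open_inter_closure f hf η d hdη
      -- a nonempty open part of the component avoiding the other components
      let O : Set ↥(closure S) := (⋃ C' ∈ {C' ∈ irreducibleComponents ↥(closure S) | C' ≠ C}, C')ᶜ
      have hO : IsOpen O := ((NoetherianSpace.finite_irreducibleComponents.subset fun _ h => h.1).isClosed_biUnion
        fun C' hC' => isClosed_of_mem_irreducibleComponents C' hC'.1).isOpen_compl
      have hγO : γ ∈ O := by
        intro hh
        simp only [Set.mem_iUnion] at hh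
        obtain ⟨C', ⟨hC', hne⟩, hγC'⟩ := hh
        have hsub : C ⊆ C' := by
          rw [← hγ.def]
          exact closure_minimal (Set.singleton_subset_iff.2 hγC') (isClosed_of_mem_irreducibleComponents C' hC')
        exact hne (le_antisymm (hC.2 hC'.1 hsub) hsub)
      have hγV : γ ∈ (fun s : ↥(closure S) => s.1.1) ⁻¹' V := hηV
      have hVo : IsOpen ((fun s : ↥(closure S) => s.1.1) ⁻¹' V) :=
        hV.preimage (continuous_subtype_val.comp continuous_subtype_val)
      obtain ⟨B, hB, hBeq⟩ := isOpen_induced_iff.1 (hO.inter hVo)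
      obtain ⟨s, hsB, hsS⟩ := mem_closure_iff.1 γ.2 B hB
        (show γ ∈ Subtype.val ⁻¹' B from hBeq.symm ▸ ⟨hγO, hγV⟩)
      have hs' : (⟨s, subset_closure hsS⟩ : ↥(closure S)) ∈ O ∩ (fun s : ↥(closure S) => s.1.1) ⁻¹' V := by
        rw [← hBeq]; exact hsB
      have hsC : γ ⤳ (⟨s, subset_closure hsS⟩ : ↥(closure S)) := by
        refine hγ.specializes ?_
        by_contra hsn
        apply hs'.1
        simp only [Set.mem_iUnion]
        exact ⟨irreducibleComponent _, ⟨irreducibleComponent_mem_irreducibleComponents _,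
          fun e => hsn (e ▸ mem_irreducibleComponent)⟩, mem_irreducibleComponent⟩
      exact hsS (hVz _ hs'.2 ((hsC.map continuous_subtype_val).map continuous_subtype_val))
    have hopen : IsOpen (Subtype.val '' (closure S)ᶜ : Set Y) :=
      A.2.isOpenMap_subtype_val _ isClosed_closure.isOpen_compl
    refine Filter.mem_of_superset (hopen.mem_nhds ⟨⟨y, hyA⟩, hnot, rfl⟩) ?_
    rintro _ ⟨z, hz, rfl⟩
    by_contra hzd
    exact hz (subset_closure hzd)
  have hall : ∀ᶠ z in 𝓝 y, ∀ d ∈ compDims f y, d ∈ compDims f z :=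
    (finite_compDims f y).eventually_all.2 hge
  refine ⟨_, Filter.inter_mem (W.2.mem_nhds hyW) hall, fun z hz => ?_⟩
  exact le_antisymm (hle z hz.1) hz.2

end Groth.Agent.H06EGA14.CompDims
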