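import Groth.Agent.H06EGA14.DedekindSection
import Groth.Agent.H06EGA14.Chevalley3
import Groth.Agent.H17.NagataNorm
import Groth.Agent.S9812
import Groth.Agent.S9829

/-!
Universal openness over regular bases of dimension one.
-/

open CategoryTheory CategoryTheory.Limits AlgebraicGeometry TopologicalSpace Topology

universe u

namespace Groth.Agent.H06EGA14

open Groth.Agent.H8Props.FieldDim Groth.Agent.H06Equidim

variable {X Y : Scheme.{u}}

theorem isGeomUnibranch_of_regular (A : Type u) [CommRing A] [IsRegularLocalRing A] : CAlg2.IsGeomUnibranch A := by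
  haveI := H4Depth.isDomain_of_isRegularLocalRing A
  haveI : IsIntegrallyClosed A := S9829.result A
  exact S9812.result A

set_option backward.isDefEq.respectTransparency false in
/-- Over a regular base of dimension one, a point lying only on dominant components is a point of
universal openness. -/
theorem isUnivOpenAt_of_dominant_components [IrreducibleSpace Y] [IsLocallyNoetherian Y]
    (hY : ∀ y : Y, IsRegularLocalRing (Y.presheaf.stalk y) ∧ ringKrullDim (Y.presheaf.stalk y) ≤ 1)
    (f : X ⟶ Y) [LocallyOfFiniteType f] (z : X)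
    (h : ∀ η, η ⤳ z → (∀ w, w ⤳ η → w = η) → f η = genericPoint Y) : EGA43.IsUnivOpenAt f z := by
  obtain ⟨ξ, hξ, -, -, hd⟩ := exists_maximal_generization f z
  obtain ⟨η, hη, hT⟩ := exists_component_generization ξ
  have hmax := eq_of_specializes_of_component hT
  have hfη := h η (hη.trans hξ) hmax
  haveI := (hY (f z)).1
  refine isUnivOpenAt_of_dim_le f z η (hη.trans hξ) (fun w hw => ?_) ?_ (isGeomUnibranch_of_regular _)
  · rw [hfη] at hw ⊢
    exact (hw.antisymm (genericPoint_specializes w)).eq
  · obtain ⟨p, hp⟩ : η ∈ Set.range (X.fromSpecStalk ξ) := by rw [Scheme.range_fromSpecStalk]; exact hη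
    obtain ⟨W, i, w, hi, hW, hr, hiw, -⟩ := exists_integral_closure ξ p
    haveI := hi; haveI := hW
    rw [hp] at hr
    have hgen : i (genericPoint W) = η := by
      obtain ⟨b, hb⟩ : η ∈ Set.range i := hr ▸ subset_closure rfl
      have h1 : i (genericPoint W) ⤳ η := hb ▸ (genericPoint_specializes b).map i.continuous
      exact (h1.antisymm (specializes_iff_mem_closure.mpr (hr ▸ Set.mem_range_self _))).eq
    rw [← hd, ← hgen, ← hiw, ← cdim_asFiber_comp_closedImmersion, ← cdim_asFiber_comp_closedImmersion]
    exact (cdim_asFiber_le_fibreDimAt _ w).trans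
      (fibreDimAt_le_generic_of_dim_le_one (fun y => (hY y).2) (i ≫ f)
        (by rw [Scheme.Hom.comp_apply, hgen, hfη]) w)

end Groth.Agent.H06EGA14
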