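import Groth.Agent.H06EGA14.MaximalPoint
import Groth.Agent.H17.Reduced
import Groth.Agent.H22Alg.FibreDimBound
import Groth.Agent.H7Flat.FibreDim

/-!
# Openness along a fibre and dimensions of local rings (EGA IV 14.3.8)
-/

set_option autoImplicit false
set_option linter.style.haveILetI false
set_option backward.isDefEq.respectTransparency false
universe u

open CategoryTheory CategoryTheory.Limits AlgebraicGeometry TopologicalSpace Topology

namespace Groth.Agent.H06EGA14

open H8Props.FieldDim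

theorem natCast_le_of_add_le (k t : ℕ) (a : WithBot ℕ∞) (h : ((k + t : ℕ) : WithBot ℕ∞) ≤ a + (t : ℕ)) :
    (k : WithBot ℕ∞) ≤ a := by
  induction a using WithBot.recBotCoe with
  | bot => rw [WithBot.bot_add] at h; exact absurd h (WithBot.not_coe_le_bot _)
  | coe a =>
    induction a using ENat.recTopCoe with
    | top => exact WithBot.coe_le_coe.mpr le_top
    | coe a =>
      have h' : k + t ≤ a + t := by exact_mod_cast h
      exact_mod_cast (show k ≤ a by omega)

theorem HasChain.trans {A : Type u} [CommRing A] :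
    ∀ {n k : ℕ} {a b c : PrimeSpectrum A}, HasChain n a b → HasChain k b c → HasChain (n + k) a c
  | 0, k, a, b, c, hab, hbc => by
    rw [Nat.zero_add]
    rcases k with _ | k
    · exact le_trans (show a ≤ b from hab) hbc
    · obtain ⟨d, hd, h⟩ := hbc
      exact ⟨d, lt_of_le_of_lt (show a ≤ b from hab) hd, h⟩
  | n + 1, k, _, _, _, ⟨d, hd, h⟩, hbc => by
    rw [Nat.succ_add]
    exact ⟨d, hd, h.trans hbc⟩

/-- Going down at the points of the closed fibre bounds the dimension from below. -/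
theorem add_le_ringKrullDim_of_lift {A C : Type u} [CommRing A] [CommRing C] [IsNoetherianRing A]
    [IsNoetherianRing C] [IsLocalRing A] [IsLocalRing C] (φ : A →+* C) [IsLocalHom φ]
    (hlift : ∀ q₁ : PrimeSpectrum C, PrimeSpectrum.comap φ q₁ = IsLocalRing.closedPoint A →
      ∀ p' : PrimeSpectrum A, ∃ q', q' ≤ q₁ ∧ PrimeSpectrum.comap φ q' = p')
    (n k : ℕ) (hn : (n : WithBot ℕ∞) ≤ ringKrullDim A)
    (hk : (k : WithBot ℕ∞) ≤ ringKrullDim (C ⧸ (IsLocalRing.maximalIdeal A).map φ)) :
    ((n + k : ℕ) : WithBot ℕ∞) ≤ ringKrullDim C := by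
  obtain ⟨l, hl⟩ := Order.le_krullDim_iff.mp hn
  obtain ⟨c, hc⟩ := Order.le_krullDim_iff.mp hk
  let π := Ideal.Quotient.mk ((IsLocalRing.maximalIdeal A).map φ)
  let c' := c.map (PrimeSpectrum.comap π) fun a b hab => lt_of_le_of_ne
    (Ideal.comap_mono (show a.asIdeal ≤ b.asIdeal from hab.le))
    fun e => hab.ne (PrimeSpectrum.ext (Ideal.comap_injective_of_surjective π Ideal.Quotient.mk_surjective
      (congrArg PrimeSpectrum.asIdeal e)))
  have hhd : PrimeSpectrum.comap φ c'.head = IsLocalRing.closedPoint A := by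
    refine PrimeSpectrum.ext ((IsLocalRing.maximalIdeal.isMaximal A).eq_of_le
      (PrimeSpectrum.comap φ c'.head).2.ne_top ?_).symm
    intro a ha
    show π (φ a) ∈ c.head.asIdeal
    rw [show π (φ a) = 0 from Ideal.Quotient.eq_zero_iff_mem.mpr (Ideal.mem_map_of_mem φ ha)]
    exact zero_mem _
  have hlast : ∀ p : PrimeSpectrum A, p ≤ IsLocalRing.closedPoint A := fun p =>
    IsLocalRing.le_maximalIdeal p.2.ne_top
  have h1 : HasChain n l.head (PrimeSpectrum.comap φ c'.head) := by
    have h := hasChain_of_ltSeries n l hl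
    rw [hhd]
    rcases n with _ | n
    · exact hlast _
    · obtain ⟨d, hd, h'⟩ := h
      refine ⟨d, hd, ?_⟩
      have e := h'.trans (show HasChain 0 l.last (IsLocalRing.closedPoint A) from hlast _)
      rwa [Nat.add_zero] at e
  obtain ⟨q', -, hq'⟩ := exists_lift_chain φ c'.head (fun p' _ => hlift _ hhd p') n l.head h1
  have h2 := hasChain_of_ltSeries k c' hc
  obtain ⟨s, hs, -, -⟩ := (hq'.trans h2).exists_ltSeries
  exact (Nat.cast_le.mpr hs).trans (Order.LTSeries.length_le_krullDim s)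

/-- If `g` is open at all generizations of `x` in the fibre then
`dim O_{Y,y} + dim O_{X_y,x} ≤ dim O_{X,x}`, in terms of the fibre dimension. -/
theorem le_ringKrullDim_stalk_of_isOpenAt {X Y : Scheme.{u}} [IsLocallyNoetherian Y] (g : X ⟶ Y)
    [LocallyOfFiniteType g] (x : X)
    (h : ∀ ξ : X, ξ ⤳ x → g ξ = g x → EGA43.IsOpenAt g.base ξ) (n e : ℕ)
    (hn : (n : WithBot ℕ∞) ≤ ringKrullDim (Y.presheaf.stalk (g x)))
    (he : (e : WithBot ℕ∞) ≤ FlatMor.fibreDimAt g x) :
    ∃ t : ℕ, cdim (g.asFiber x) = t ∧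
      ((n + e : ℕ) : WithBot ℕ∞) ≤ ringKrullDim (X.presheaf.stalk x) + t := by
  haveI : IsLocallyNoetherian X := LocallyOfFiniteType.isLocallyNoetherian g
  obtain ⟨t, ht, ht'⟩ := H06Equidim.exists_trdeg_asFiber g x
  refine ⟨t, ht, ?_⟩
  obtain ⟨t', hfd, htr⟩ := fibreDimAt_eq g x
  obtain rfl : t' = t := by exact_mod_cast htr.symm.trans ht'
  have hadd : ∀ k : ℕ, (k : WithBot ℕ∞) ≤ ringKrullDim
      (X.presheaf.stalk x ⧸ (IsLocalRing.maximalIdeal (Y.presheaf.stalk (g x))).map (g.stalkMap x).hom) →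
      ((n + k : ℕ) : WithBot ℕ∞) ≤ ringKrullDim (X.presheaf.stalk x) := by
    intro k hk
    refine add_le_ringKrullDim_of_lift (g.stalkMap x).hom (fun q₁ hq₁ p' => ?_) n k hn hk
    have hnat : ∀ q, Y.fromSpecStalk (g x) (PrimeSpectrum.comap (g.stalkMap x).hom q) =
        g (X.fromSpecStalk x q) := fun q =>
      congrArg (fun φ : Spec (X.presheaf.stalk x) ⟶ Y => φ q) (Scheme.SpecMap_stalkMap_fromSpecStalk g)
    have hspx : X.fromSpecStalk x q₁ ⤳ x := by
      have : X.fromSpecStalk x q₁ ∈ Set.range (X.fromSpecStalk x) := ⟨q₁, rfl⟩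
      rwa [Scheme.range_fromSpecStalk] at this
    have hgξ : g (X.fromSpecStalk x q₁) = g x := by
      rw [← hnat, hq₁]
      exact Scheme.fromSpecStalk_closedPoint
    have hw : Y.fromSpecStalk (g x) p' ⤳ g (X.fromSpecStalk x q₁) := by
      rw [hgξ]
      have : Y.fromSpecStalk (g x) p' ∈ Set.range (Y.fromSpecStalk (g x)) := ⟨p', rfl⟩
      rwa [Scheme.range_fromSpecStalk] at this
    obtain ⟨v, hv, hgv⟩ := exists_specializes_of_isOpenAt g _ (h _ hspx hgξ) _ hw
    obtain ⟨q', rfl⟩ : v ∈ Set.range (X.fromSpecStalk x) := by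
      rw [Scheme.range_fromSpecStalk]; exact hv.trans hspx
    refine ⟨q', (PrimeSpectrum.le_iff_specializes q' q₁).mpr
      ((X.fromSpecStalk x).isEmbedding.isInducing.specializes_iff.mp hv), ?_⟩
    exact (Y.fromSpecStalk (g x)).isEmbedding.injective ((hnat q').trans hgv)
  rw [hfd] at he
  rcases le_or_gt e t' with hle | hlt
  · have h0 : ((n + 0 : ℕ) : WithBot ℕ∞) ≤ ringKrullDim (X.presheaf.stalk x) := hadd 0 (by
      haveI : Nontrivial (X.presheaf.stalk x ⧸
          (IsLocalRing.maximalIdeal (Y.presheaf.stalk (g x))).map (g.stalkMap x).hom) :=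
        Ideal.Quotient.nontrivial_iff.mpr fun htop =>
          (IsLocalRing.maximalIdeal.isMaximal (X.presheaf.stalk x)).ne_top
            (top_le_iff.mp (htop.ge.trans (IsLocalRing.map_maximalIdeal_le (g.stalkMap x).hom)))
      exact ringKrullDim_nonneg_of_nontrivial)
    refine le_trans ?_ (add_le_add h0 le_rfl)
    exact_mod_cast (by omega : n + e ≤ n + 0 + t')
  · obtain ⟨k, rfl⟩ := Nat.exists_eq_add_of_lt hlt
    have hk : ((k + 1 : ℕ) : WithBot ℕ∞) ≤ ringKrullDim
        (X.presheaf.stalk x ⧸ (IsLocalRing.maximalIdeal (Y.presheaf.stalk (g x))).map (g.stalkMap x).hom) := by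
      refine natCast_le_of_add_le (k + 1) t' _ (le_trans ?_ he)
      exact_mod_cast (by omega : k + 1 + t' ≤ t' + k + 1)
    refine le_trans ?_ (add_le_add (hadd _ hk) le_rfl)
    exact_mod_cast (by omega : n + (t' + k + 1) ≤ n + (k + 1) + t')

/-- The reduced closed subscheme on the closure of a generization. -/
theorem exists_integral_closure {X : Scheme.{u}} (x : X) (p : PrimeSpectrum (X.presheaf.stalk x)) :
    ∃ (Z : Scheme.{u}) (i : Z ⟶ X) (x' : Z), IsClosedImmersion i ∧ IsIntegral Z ∧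
      Set.range i = closure {X.fromSpecStalk x p} ∧ i x' = x ∧
      ringKrullDim (Z.presheaf.stalk x') = ringKrullDim (X.presheaf.stalk x ⧸ p.asIdeal) := by
  set η := X.fromSpecStalk x p
  let C : Closeds X := ⟨closure {η}, isClosed_closure⟩
  let I := Scheme.IdealSheafData.vanishingIdeal C
  haveI : IsReduced I.subscheme := H17.isReduced_vanishingIdeal_subscheme C
  let i := I.subschemeι
  have hr : Set.range i = closure {η} := H17.range_vanishingIdeal_subschemeι C
  obtain ⟨ζ, hζ⟩ : η ∈ Set.range i := hr ▸ subset_closure rfl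
  have hgen : ∀ a : I.subscheme, ζ ⤳ a := fun a => i.isEmbedding.isInducing.specializes_iff.mp
    (specializes_iff_mem_closure.mpr (hζ ▸ hr ▸ Set.mem_range_self a))
  haveI : IrreducibleSpace I.subscheme :=
    { isPreirreducible_univ := by
        have : (Set.univ : Set I.subscheme) = closure {ζ} :=
          (Set.eq_univ_of_forall fun a => (hgen a).mem_closure).symm
        rw [this]; exact isIrreducible_singleton.closure.isPreirreducible
      toNonempty := ⟨ζ⟩ }
  haveI : IsIntegral I.subscheme := isIntegral_of_irreducibleSpace_of_isReduced _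
  have hηx : η ⤳ x := by
    have : η ∈ Set.range (X.fromSpecStalk x) := ⟨p, rfl⟩
    rwa [Scheme.range_fromSpecStalk] at this
  obtain ⟨x', hx'⟩ : x ∈ Set.range i := hr ▸ hηx.mem_closure
  refine ⟨I.subscheme, i, x', inferInstance, inferInstance, hr, hx', ?_⟩
  suffices key : ∀ w : X, i x' = w → ∀ p' : PrimeSpectrum (X.presheaf.stalk w), X.fromSpecStalk w p' = η →
      ringKrullDim (I.subscheme.presheaf.stalk x') = ringKrullDim (X.presheaf.stalk w ⧸ p'.asIdeal) from
    key x hx' p rfl
  rintro _ rfl p hp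
  let P : PrimeSpectrum (X.presheaf.stalk (i x')) :=
    PrimeSpectrum.comap (i.stalkMap x').hom ⟨⊥, Ideal.isPrime_bot⟩
  have hP : P = p := by
    apply (X.fromSpecStalk (i x')).isEmbedding.injective
    have h1 : X.fromSpecStalk (i x') P = i (I.subscheme.fromSpecStalk x' ⟨⊥, Ideal.isPrime_bot⟩) :=
      congrArg (fun φ : Spec (I.subscheme.presheaf.stalk x') ⟶ X => φ ⟨⊥, Ideal.isPrime_bot⟩)
        (Scheme.SpecMap_stalkMap_fromSpecStalk i)
    rw [h1]
    refine Eq.trans (congrArg i ?_) (hζ.trans hp.symm)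
    refine Specializes.antisymm ?_ (hgen _) |>.eq
    obtain ⟨q, hq⟩ : ζ ∈ Set.range (I.subscheme.fromSpecStalk x') := by
      rw [Scheme.range_fromSpecStalk]; exact hgen x'
    rw [← hq]
    exact ((PrimeSpectrum.le_iff_specializes (⟨⊥, Ideal.isPrime_bot⟩ : PrimeSpectrum (I.subscheme.presheaf.stalk x')) q).mp
      (bot_le (a := q.asIdeal))).map (I.subscheme.fromSpecStalk x').continuous
  have hker : RingHom.ker (i.stalkMap x').hom = p.asIdeal := hP ▸ rfl
  rw [← hker]
  exact (ringKrullDim_eq_of_ringEquiv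
    (RingHom.quotientKerEquivOfSurjective (i.stalkMap_surjective x'))).symm

end Groth.Agent.H06EGA14
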