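import Groth.Agent.H06EGA14.EquidimCriteria
import Groth.Agent.H06EGA14.CatenaryCriteria
import Groth.Agent.H06EGA14.OpenStalk
import Groth.Agent.H06EGA14.Chevalley3

/-!
Closed subsets cutting an equidimensional morphism properly are again equidimensional.
-/

open CategoryTheory CategoryTheory.Limits AlgebraicGeometry TopologicalSpace Topology

universe u

namespace Groth.Agent.H06EGA14

open Groth.Agent.H8Props.FieldDim Groth.Agent.H06Equidim

variable {X Y : Scheme.{u}}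

set_option backward.isDefEq.respectTransparency false in
/-- The local dimension of a closed subset in a fibre is the fibre dimension of the subscheme. -/
theorem localDim_inter_eq_fibreDimAt {Z : Scheme.{u}} (i : Z ⟶ X) [IsClosedImmersion i] (f : X ⟶ Y)
    [LocallyOfFiniteType f] (w : Z) {S : Set X} (hS : Set.range i = S) {x : X} (hw : i w = x)
    (hx : x ∈ S ∩ f ⁻¹' {f x}) :
    FlatMor.localDim ↥(S ∩ f ⁻¹' {f x}) ⟨x, hx⟩ = FlatMor.fibreDimAt (i ≫ f) w := by
  subst hw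
  refine le_antisymm ?_ ?_
  · let k := (i ≫ f).fiberι ((i ≫ f) w) ≫ i
    have hkw : k ((i ≫ f).asFiber w) = i w := congrArg i ((i ≫ f).fiberι_asFiber w)
    have hrk : Set.range k = S ∩ f ⁻¹' {f (i w)} := by
      show Set.range (⇑i ∘ ⇑((i ≫ f).fiberι ((i ≫ f) w))) = _
      rw [Set.range_comp, (i ≫ f).range_fiberι, ← hS]
      show i '' (i ⁻¹' (f ⁻¹' {f (i w)})) = _
      rw [Set.image_preimage_eq_range_inter]
    haveI : Nonempty {U : Opens ((i ≫ f).fiber ((i ≫ f) w)) // (i ≫ f).asFiber w ∈ U} := ⟨⟨⊤, trivial⟩⟩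
    obtain ⟨⟨U, hxU⟩, hU⟩ : ∃ U : {U : Opens ((i ≫ f).fiber ((i ≫ f) w)) // (i ≫ f).asFiber w ∈ U},
        topologicalKrullDim (U.1 : Set ((i ≫ f).fiber ((i ≫ f) w))) =
          FlatMor.localDim ((i ≫ f).fiber ((i ≫ f) w)) ((i ≫ f).asFiber w) :=
      ciInf_mem _
    obtain ⟨U'', hU'', hpre⟩ := k.isEmbedding.isInducing.isOpen_iff.mp U.2
    refine (iInf_le_of_le ⟨⟨Subtype.val ⁻¹' U'', hU''.preimage continuous_subtype_val⟩,
      show i w ∈ U'' by rw [← hkw]; exact hpre.ge hxU⟩ le_rfl).trans ?_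
    show topologicalKrullDim (Subtype.val ⁻¹' U'' : Set ↥(S ∩ f ⁻¹' {f (i w)})) ≤
      FlatMor.localDim ((i ≫ f).fiber ((i ≫ f) w)) ((i ≫ f).asFiber w)
    rw [dim_preimage IsEmbedding.subtypeVal, ← hU,
      show (U : Set ((i ≫ f).fiber ((i ≫ f) w))) = k ⁻¹' U'' from hpre.symm,
      dim_preimage k.isEmbedding, hrk, Subtype.range_coe]
  · obtain ⟨ξ, hξ, hgξ, -, hd⟩ := exists_maximal_generization (i ≫ f) w
    rw [← hd, cdim_asFiber_comp_closedImmersion]
    exact cdim_le_localDim_inter f (i w) (i ξ) (hξ.map i.continuous) hgξ (hS ▸ i.isClosedEmbedding.isClosed_range)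
      (hS ▸ Set.mem_range_self ξ) hx

theorem fromSpecStalk_mem_fibre (f : X ⟶ Y) (v : X) (q : PrimeSpectrum (X.presheaf.stalk v))
    (hq : IsLocalRing.maximalIdeal (Y.presheaf.stalk (f v)) ≤ q.asIdeal.comap (f.stalkMap v).hom) :
    f (X.fromSpecStalk v q) = f v := by
  have hnat : Y.fromSpecStalk (f v) (PrimeSpectrum.comap (f.stalkMap v).hom q) = f (X.fromSpecStalk v q) :=
    congrArg (fun φ : Spec (X.presheaf.stalk v) ⟶ Y => φ q) (Scheme.SpecMap_stalkMap_fromSpecStalk f)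
  rw [← hnat]
  have h2 : PrimeSpectrum.comap (f.stalkMap v).hom q = IsLocalRing.closedPoint (Y.presheaf.stalk (f v)) :=
    (PrimeSpectrum.ext ((IsLocalRing.maximalIdeal.isMaximal _).eq_of_le
      (PrimeSpectrum.comap (f.stalkMap v).hom q).2.ne_top hq)).symm
  exact (congrArg (fun r => Y.fromSpecStalk (f v) r) h2).trans Scheme.fromSpecStalk_closedPoint

theorem cdim_nat_le {e : ℕ} {a : WithBot ℕ∞} {b : ℕ} (h : (b : WithBot ℕ∞) ≤ a) (ha : a ≤ (e : ℕ)) : b ≤ e := by
  exact_mod_cast h.trans ha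

theorem dim_data_of_isEquidimAt [IrreducibleSpace Y] (f : X ⟶ Y) [LocallyOfFiniteType f] (x : X)
    (h : EGA43.IsEquidimAt f x) :
    ∃ e : ℕ, FlatMor.fibreDimAt f x = e ∧
      (∀ z, z ⤳ x → FlatMor.fibreDimAt f z = e) ∧
      ∀ ζ, ζ ⤳ x → (∀ w, w ⤳ ζ → w = ζ) → f ζ = genericPoint Y := by
  obtain ⟨e, U, hxU, hcomp, hfib⟩ := h
  have hdimU : ∀ z ∈ U, FlatMor.fibreDimAt f z = e := fun z hz =>
    (fibreDimAt_opens_ι f U ⟨z, hz⟩).symm.trans
      (fibreDimAt_eq_of_dim_component_fibre (U.ι ≫ f) e hfib ⟨z, hz⟩)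
  refine ⟨e, hdimU x hxU, fun z hz => hdimU z (hz.mem_open U.2 hxU), fun ζ hζ hmax => ?_⟩
  have hζU : ζ ∈ U := hζ.mem_open U.2 hxU
  obtain ⟨η', hη', hT⟩ := exists_component_generization (Z := U.toScheme) ⟨ζ, hζU⟩
  have heq : η' = ⟨ζ, hζU⟩ := U.ι.isEmbedding.injective (hmax _ (hη'.map U.ι.continuous))
  rw [heq] at hT
  obtain ⟨W', hW', -, hW'eq⟩ := hcomp _ hT
  refine (eq_of_specializes_of_component
    (((closure_image_closure_singleton (U.ι ≫ f) ⟨ζ, hζU⟩).symm.trans hW'eq :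
      closure {f ζ} = W') ▸ hW') _ (genericPoint_specializes _)).symm

set_option backward.isDefEq.respectTransparency false in
/-- The numerical heart: a point of small codimension in an equidimensional morphism whose closure cuts
the fibre properly lies over the generic point. -/
theorem cut_data [IrreducibleSpace Y] [IsLocallyNoetherian Y] (f : X ⟶ Y) [LocallyOfFiniteType f] (x : X)
    (h : EGA43.IsEquidimAt f x) (v : X) (hv : v ⤳ x) (n a e : ℕ) (hfd : FlatMor.fibreDimAt f x = e)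
    (hcodim : ringKrullDim (X.presheaf.stalk v) ≤ n) (ha : cdim (f.asFiber v) ≤ (a : WithBot ℕ∞))
    (han : a + n ≤ e) :
    ringKrullDim (X.presheaf.stalk v) = n ∧ a + n = e ∧ cdim (f.asFiber v) = (a : WithBot ℕ∞) ∧
      f v = genericPoint Y := by
  haveI : IsLocallyNoetherian X := LocallyOfFiniteType.isLocallyNoetherian f
  obtain ⟨e', he', hall, hdom⟩ := dim_data_of_isEquidimAt f x h
  obtain rfl : e' = e := by exact_mod_cast he'.symm.trans hfd
  obtain ⟨c, hc, -⟩ := exists_trdeg_asFiber f v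
  have hadd := fibreDimAt_eq_stalk_add f v c hc
  rw [hall v hv] at hadd
  obtain ⟨d, hd⟩ := H22Alg.exists_nat_ringKrullDim' (X.presheaf.stalk v)
  let R := X.presheaf.stalk v
  let I := (IsLocalRing.maximalIdeal (Y.presheaf.stalk (f v))).map (f.stalkMap v).hom
  have hfs : ringKrullDim ((f.fiber (f v)).presheaf.stalk (f.asFiber v)) = ringKrullDim (R ⧸ I) :=
    (ringKrullDim_eq_of_ringEquiv (H8Props.FibreStalk.asFiberStalkEquiv f v)).symm
  rw [hfs] at hadd
  have hI : I ≠ ⊤ := fun hI => by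
    have h1 := (IsLocalRing.local_hom_TFAE (f.stalkMap v).hom).out 0 2
    exact (IsLocalRing.maximalIdeal.isMaximal R).ne_top (top_le_iff.mp (hI ▸ h1.mp inferInstance))
  haveI : Nontrivial (R ⧸ I) := Ideal.Quotient.nontrivial_iff.mpr hI
  haveI : IsLocalRing (R ⧸ I) := .of_surjective' _ Ideal.Quotient.mk_surjective
  obtain ⟨s, hs⟩ := H22Alg.exists_nat_ringKrullDim' (R ⧸ I)
  rw [hs] at hadd
  have hadd' : e' = s + c := by exact_mod_cast hadd
  have hca : c ≤ a := by exact_mod_cast hc.ge.trans ha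
  have hsd : s ≤ d := by
    exact_mod_cast (hs.ge.trans ((ringKrullDim_quotient_le I).trans hd.le))
  have hdn : d ≤ n := by exact_mod_cast hd.ge.trans hcodim
  refine ⟨?_, by omega, ?_, ?_⟩
  · rw [hd, show d = n by omega]
  · rw [hc, show c = a by omega]
  · by_contra hne
    obtain ⟨q₀, hq₀, hq₀d⟩ := exists_minimalPrime_dim_eq (R ⧸ I)
    haveI := hq₀.1.1
    let q : PrimeSpectrum R := ⟨q₀.comap (Ideal.Quotient.mk I), inferInstance⟩
    have hqd : ringKrullDim (R ⧸ q.asIdeal) = s := by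
      rw [← hs, ← hq₀d]
      refine ringKrullDim_eq_of_ringEquiv (R := R ⧸ q.asIdeal) (S := (R ⧸ I) ⧸ q₀) ?_
      refine (Ideal.quotEquivOfEq ?_).trans (RingHom.quotientKerEquivOfSurjective
        (f := (Ideal.Quotient.mk q₀).comp (Ideal.Quotient.mk I))
        (Ideal.Quotient.mk_surjective.comp Ideal.Quotient.mk_surjective))
      rw [← RingHom.comap_ker, Ideal.mk_ker]
    haveI := q.2
    have hht : (1 : ℕ∞) ≤ q.asIdeal.height := by
      refine Order.one_le_iff_pos.mpr (pos_iff_ne_zero.mpr fun h0 => hne ?_)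
      have hmin := Ideal.height_eq_zero_iff.mp h0
      have hqv : X.fromSpecStalk v q ⤳ v := by
        have : X.fromSpecStalk v q ∈ Set.range (X.fromSpecStalk v) := ⟨q, rfl⟩
        rwa [Scheme.range_fromSpecStalk] at this
      have h1 := hdom _ (hqv.trans hv) (fromSpecStalk_maximal v q hmin)
      rw [← h1]
      exact (fromSpecStalk_mem_fibre f v q (Ideal.map_le_iff_le_comap.mp
        ((Ideal.mk_ker (I := I)).symm.le.trans (Ideal.comap_mono bot_le)))).symm
    have h3 : ((1 : ℕ) : WithBot ℕ∞) + (s : ℕ) ≤ (d : ℕ) := by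
      rw [← hd]
      refine le_trans (add_le_add ?_ hqd.ge) (H05EGA4.height_add_dim_quotient_le q.asIdeal)
      exact_mod_cast hht
    have h4 : 1 + s ≤ d := by exact_mod_cast h3
    omega

set_option backward.isDefEq.respectTransparency false in
/-- A closed subscheme each of whose components through the point cuts properly is equidimensional. -/
theorem isEquidimAt_closedSubscheme [IrreducibleSpace Y] [IsLocallyNoetherian Y] {W : Scheme.{u}} (i : W ⟶ X)
    [IsClosedImmersion i] (f : X ⟶ Y) [LocallyOfFiniteType f] (x : X) (h : EGA43.IsEquidimAt f x) (w : W)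
    (hw : i w = x) (n a e : ℕ) (hfd : FlatMor.fibreDimAt f x = e)
    (hd : FlatMor.fibreDimAt (i ≫ f) w ≤ (a : ℕ)) (han : a + n ≤ e)
    (hcodim : ∀ ζ : W, ζ ⤳ w → (∀ v, v ⤳ ζ → v = ζ) → ringKrullDim (X.presheaf.stalk (i ζ)) ≤ n) :
    EGA43.IsEquidimAt (i ≫ f) w ∧ a + n = e ∧ FlatMor.fibreDimAt (i ≫ f) w = (a : ℕ) ∧
      ∀ ζ : W, ζ ⤳ w → (∀ v, v ⤳ ζ → v = ζ) → ringKrullDim (X.presheaf.stalk (i ζ)) = n := by
  have key : ∀ ζ : W, ζ ⤳ w → (∀ v, v ⤳ ζ → v = ζ) →
      ringKrullDim (X.presheaf.stalk (i ζ)) = n ∧ a + n = e ∧ cdim (f.asFiber (i ζ)) = (a : WithBot ℕ∞) ∧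
        f (i ζ) = genericPoint Y := fun ζ hζ hmax => by
    refine cut_data f x h _ (hw ▸ hζ.map i.continuous) n a e hfd (hcodim ζ hζ hmax) ?_ han
    rw [← cdim_asFiber_comp_closedImmersion]
    exact (cdim_asFiber_le_fibreDimAt _ ζ).trans ((fibreDimAt_le_of_specializes (i ≫ f) hζ).trans hd)
  have hfζ : ∀ ζ : W, ζ ⤳ w → (∀ v, v ⤳ ζ → v = ζ) → FlatMor.fibreDimAt (i ≫ f) ζ = (a : ℕ) := fun ζ hζ hmax => by
    rw [← cdim_asFiber_eq_fibreDimAt (i ≫ f) ζ hmax, cdim_asFiber_comp_closedImmersion, (key ζ hζ hmax).2.2.1]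
  obtain ⟨ζ₀, hζ₀, hT⟩ := exists_component_generization w
  have hmax₀ := eq_of_specializes_of_component hT
  refine ⟨isEquidimAt_of_forall_component (i ≫ f) w a hd fun ζ hζ hmax => ⟨fun v hv => ?_, hfζ ζ hζ hmax⟩,
    (key ζ₀ hζ₀ hmax₀).2.1, le_antisymm hd ((hfζ ζ₀ hζ₀ hmax₀).ge.trans (fibreDimAt_le_of_specializes _ hζ₀)),
    fun ζ hζ hmax => (key ζ hζ hmax).1⟩
  rw [Scheme.Hom.comp_apply, (key ζ hζ hmax).2.2.2] at hv ⊢
  exact (hv.antisymm (genericPoint_specializes v)).eq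

end Groth.Agent.H06EGA14
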