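import Groth.Agent.H06EGA14.DvrCriterionScheme
import Groth.Agent.H06EGA14.OpenDimScheme
import Groth.Agent.H06EGA14.EquidimCriteria
import Groth.Agent.H06EGA14.StalkSubspace
import Groth.Agent.H06EGA14.EquidimCut

/-!
Openness and flatness over discrete valuation rings.
-/

open CategoryTheory CategoryTheory.Limits AlgebraicGeometry TopologicalSpace Topology

universe u

namespace Groth.Agent.H06EGA14

open Groth.Agent.H8Props.FieldDim Groth.Agent.H06Equidim

variable {A : Type u} [CommRing A] [IsDomain A] [IsDiscreteValuationRing A]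

theorem dvr_point_cases (z : ↥(Spec (CommRingCat.of A))) :
    z = IsLocalRing.closedPoint A ∨ z.asIdeal = ⊥ := by
  rcases eq_or_ne z.asIdeal ⊥ with h | h
  · exact Or.inr h
  · exact Or.inl (PrimeSpectrum.ext (IsLocalRing.eq_maximalIdeal (z.2.isMaximal h)))

theorem closedPoint_asIdeal_ne_bot : (IsLocalRing.closedPoint A).asIdeal ≠ ⊥ :=
  IsDiscreteValuationRing.not_a_field A

theorem closure_eq_univ_of_bot (z : ↥(Spec (CommRingCat.of A))) (hz : z.asIdeal = ⊥) :
    closure ({z} : Set ↥(Spec (CommRingCat.of A))) = Set.univ :=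
  Set.eq_univ_of_forall fun w => ((PrimeSpectrum.le_iff_specializes z w).mp (show z.asIdeal ≤ w.asIdeal from hz ▸ bot_le)).mem_closure

variable {X : Scheme.{u}} (f : X ⟶ Spec (CommRingCat.of A))

set_option backward.isDefEq.respectTransparency false in
/-- Openness at a maximal point means that it lies over the generic point. -/
theorem dense_image_of_isOpenAt (η : X) (hmax : ∀ w, w ⤳ η → w = η)
    (h : f η = IsLocalRing.closedPoint A → EGA43.IsOpenAt f.base η) :
    Dense (f.base '' closure {η}) := by
  rw [dense_iff_closure_eq]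
  refine (H06Equidim.closure_image_closure_singleton f η).trans (closure_eq_univ_of_bot _ ?_)
  rcases dvr_point_cases (f η) with hc | hb
  · let b : ↥(Spec (CommRingCat.of A)) := ⟨⊥, Ideal.isPrime_bot⟩
    have hbs : b ⤳ f η := (PrimeSpectrum.le_iff_specializes b (f η)).mp (show (⊥ : Ideal A) ≤ _ from bot_le)
    obtain ⟨v, hv, hfv⟩ := exists_specializes_of_isOpenAt f η (h hc) b hbs
    rw [hmax v hv] at hfv
    exact congrArg PrimeSpectrum.asIdeal hfv
  · exact hb

/-- Dense images of components give generizations over the generic point. -/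
theorem exists_generization_ne_closedPoint (x : X)
    (h : ∀ Z ∈ irreducibleComponents (X : Type u), Dense (f.base '' Z)) :
    ∃ z, z ⤳ x ∧ f z ≠ IsLocalRing.closedPoint A := by
  obtain ⟨η, hη, hT⟩ := exists_component_generization x
  refine ⟨η, hη, fun hc => ?_⟩
  have h1 : closure ({f η} : Set ↥(Spec (CommRingCat.of A))) = Set.univ :=
    (H06Equidim.closure_image_closure_singleton f η).symm.trans (dense_iff_closure_eq.mp (h _ hT))
  have h2 : f η ⤳ (⟨⊥, Ideal.isPrime_bot⟩ : ↥(Spec (CommRingCat.of A))) :=
    specializes_iff_mem_closure.mpr (h1 ▸ Set.mem_univ _)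
  have h3 : (f η).asIdeal ≤ ⊥ := (PrimeSpectrum.le_iff_specializes (f η) _).mpr h2
  rw [hc] at h3
  exact closedPoint_asIdeal_ne_bot (le_bot_iff.mp h3)

set_option backward.isDefEq.respectTransparency false in
/-- Universal openness at all points over `y` is detected by components over discrete valuation rings. -/
theorem isUnivOpenAt_fibre_iff {Z Y : Scheme.{u}} [IsLocallyNoetherian Y] (g : Z ⟶ Y) [LocallyOfFiniteType g]
    (y : Y) :
    (∀ x : Z, g.base x = y → EGA43.IsUnivOpenAt g x) ↔
      ∀ (A : Type u) [CommRing A] [IsDomain A] [IsDiscreteValuationRing A] (k : Spec (CommRingCat.of A) ⟶ Y),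
        k.base (IsLocalRing.closedPoint A) = y →
        ∀ T ∈ irreducibleComponents (↥(pullback g k) : Type u), Dense ((pullback.snd g k).base '' T) := by
  constructor
  · intro h A _ _ _ k hk T hT
    obtain ⟨η, rfl, hmax⟩ := mem_irreducibleComponents_iff hT
    refine dense_image_of_isOpenAt (pullback.snd g k) η hmax fun hc => ?_
    refine h (pullback.fst g k η) ?_ _ k η rfl
    rw [← Scheme.Hom.comp_apply, pullback.condition, Scheme.Hom.comp_apply, hc, hk]
  · intro h x hx
    refine isUnivOpenAt_of_dvr g x fun A _ _ _ k hk x' _ _ => ?_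
    exact exists_generization_ne_closedPoint (pullback.snd g k) x' (h A k (hk.trans hx))

theorem mem_pow_of_forall {R : Type u} [CommRing R] (p : R) (hpq : ∀ P ∈ (Ideal.span {p}).minimalPrimes,
      ∀ b : R, (∃ n, p ^ n * b = 0) → b ∈ P) (hrad : (Ideal.span {p}).IsRadical) (n : ℕ) :
    ∀ b : R, (∃ k, p ^ k * b = 0) → b ∈ Ideal.span {p} ^ n := by
  induction n with
  | zero => intro b _; simp
  | succ n ih =>
    intro b hb
    have h1 : b ∈ Ideal.span {p} := by
      rw [← hrad.radical, ← Ideal.sInf_minimalPrimes]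
      exact Ideal.mem_sInf.mpr fun {P} hP => hpq P hP b hb
    obtain ⟨c, rfl⟩ := Ideal.mem_span_singleton'.mp h1
    obtain ⟨k, hk⟩ := hb
    rw [pow_succ]
    exact Ideal.mul_mem_mul (ih c ⟨k + 1, by rw [pow_succ]; linear_combination hk⟩) (Ideal.mem_span_singleton_self p)

/-- An element whose quotient is reduced and which avoids all minimal primes under it is regular. -/
theorem isSMulRegular_of_isRadical {R : Type u} [CommRing R] [IsNoetherianRing R] [IsLocalRing R] (p : R)
    (hp : p ∈ IsLocalRing.maximalIdeal R) (hrad : (Ideal.span {p}).IsRadical)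
    (hnm : ∀ P ∈ (Ideal.span {p}).minimalPrimes, P ∉ minimalPrimes R) : IsSMulRegular R p := by
  have hpq : ∀ P ∈ (Ideal.span {p}).minimalPrimes, ∀ b : R, (∃ n, p ^ n * b = 0) → b ∈ P := by
    rintro P hP b ⟨n, hn⟩
    haveI := hP.1.1
    let L := Localization.AtPrime P
    have hmax : IsLocalRing.maximalIdeal L = Ideal.span {algebraMap R L p} := by
      rw [← Set.image_singleton, ← Ideal.map_span]
      refine le_antisymm ?_ ?_
      · have h1 : ((Ideal.span {p}).map (algebraMap R L)).IsRadical := by
          rw [Ideal.IsRadical, ← IsLocalization.map_radical P.primeCompl L, hrad.radical]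
        rw [← h1.radical, Ideal.radical_eq_sInf]
        refine le_sInf fun Q ⟨hQ, hQp⟩ => ?_
        have hle : Q.comap (algebraMap R L) ≤ P :=
          (Ideal.comap_mono (IsLocalRing.le_maximalIdeal hQp.ne_top)).trans
            (IsLocalization.AtPrime.comap_maximalIdeal L P).le
        haveI := hQp
        have heq : P ≤ Q.comap (algebraMap R L) := hP.2 ⟨inferInstance, Ideal.map_le_iff_le_comap.mp hQ⟩ hle
        rw [← Localization.AtPrime.map_eq_maximalIdeal]
        exact Ideal.map_le_iff_le_comap.mpr heq
      · rw [← Localization.AtPrime.map_eq_maximalIdeal]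
        exact Ideal.map_mono hP.1.2
    have hnil : ¬ IsNilpotent (algebraMap R L p) := fun ⟨m, hm⟩ => by
      refine hnm P hP (Ideal.height_eq_zero_iff.mp ?_)
      have h0 : ringKrullDim L ≤ 0 := by
        have : Ring.KrullDimLE 0 L := Ring.krullDimLE_zero_iff.mpr fun Q hQ => by
          have : IsLocalRing.maximalIdeal L ≤ Q := by
            rw [hmax, Ideal.span_singleton_le_iff_mem]
            exact hQ.mem_of_pow_mem m (hm ▸ Q.zero_mem)
          exact (IsLocalRing.maximalIdeal.isMaximal L).eq_of_le hQ.ne_top this ▸ IsLocalRing.maximalIdeal.isMaximal L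
        exact Ring.krullDimLE_iff.mp this
      rw [IsLocalization.AtPrime.ringKrullDim_eq_height P L] at h0
      exact_mod_cast le_antisymm h0 (by exact_mod_cast (zero_le : (0 : ℕ∞) ≤ P.height))
    have hb0 : algebraMap R L b = 0 := by
      by_contra hne
      have hp0 : algebraMap R L p ^ n * algebraMap R L b = 0 := by rw [← map_pow, ← map_mul, hn, map_zero]
      have hbot : algebraMap R L b ∈ ⨅ i, IsLocalRing.maximalIdeal L ^ i := by
        refine (Submodule.mem_iInf _).mpr fun i => ?_
        induction i with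
        | zero => simp
        | succ i ih =>
          rw [hmax, Ideal.span_singleton_pow, Ideal.mem_span_singleton'] at ih ⊢
          obtain ⟨c, hc⟩ := ih
          have hcm : c ∈ IsLocalRing.maximalIdeal L := fun hu => hnil ⟨n + i, hu.mul_left_cancel (by
            rw [mul_zero, pow_add, mul_left_comm, hc, hp0])⟩
          rw [hmax, Ideal.mem_span_singleton'] at hcm
          obtain ⟨d, rfl⟩ := hcm
          exact ⟨d, by rw [← hc]; ring⟩
      rw [Ideal.iInf_pow_eq_bot_of_isLocalRing _ (IsLocalRing.maximalIdeal.isMaximal L).ne_top] at hbot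
      exact hne (by simpa using hbot)
    obtain ⟨⟨s, hs⟩, hsb⟩ := (IsLocalization.map_eq_zero_iff P.primeCompl L b).mp hb0
    exact (hP.1.1.mem_or_mem (hsb ▸ P.zero_mem : s * b ∈ P)).resolve_left hs
  intro a b hab
  have hab' : p ^ 1 * (a - b) = 0 := by rw [pow_one, mul_sub, sub_eq_zero]; exact hab
  have hmem : a - b ∈ ⨅ i, Ideal.span {p} ^ i :=
    (Submodule.mem_iInf _).mpr fun i => mem_pow_of_forall p hpq hrad i _ ⟨1, hab'⟩
  rw [Ideal.iInf_pow_eq_bot_of_isLocalRing _ (ne_top_of_le_ne_top (IsLocalRing.maximalIdeal.isMaximal R).ne_top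
    ((Ideal.span_singleton_le_iff_mem _).mpr hp))] at hmem
  exact sub_eq_zero.mp (by simpa using hmem)

set_option backward.isDefEq.respectTransparency false in
/-- Over a discrete valuation ring, openness at the generic points of a reduced special fibre gives
flatness. -/
theorem flat_stalkMap_of_isOpenAt [LocallyOfFiniteType f] (x : X) (hx : f.base x = IsLocalRing.closedPoint A)
    (h : ∀ z : X, z ⤳ x → f z = f x → (∀ z' : X, f z' = f x → z' ⤳ z → z' = z) → EGA43.IsOpenAt f.base z)
    (hred : _root_.IsReduced ((f.fiber (f.base x)).presheaf.stalk (f.asFiber x))) :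
    (f.stalkMap x).hom.Flat := by
  haveI : IsNoetherianRing (CommRingCat.of A) := inferInstanceAs (IsNoetherianRing A)
  haveI : IsLocallyNoetherian X := LocallyOfFiniteType.isLocallyNoetherian f
  let R := (Spec (CommRingCat.of A)).presheaf.stalk (f x)
  let S := X.presheaf.stalk x
  haveI : (f x).asIdeal.IsPrime := (f x).2
  have hu : ∀ a ∈ (f x).asIdeal.primeCompl, IsUnit a := fun a ha => by
    by_contra hn
    exact ha (by
      show a ∈ (f.base x).asIdeal
      rw [hx]; exact hn)
  let e : A ≃+* R := (IsLocalization.atUnits A (f x).asIdeal.primeCompl hu (S := Localization.AtPrime (f x).asIdeal)).toRingEquiv.trans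
    (Spec.stalkIso (CommRingCat.of A) (f x)).commRingCatIsoToRingEquiv.symm
  haveI : IsDomain R := e.symm.toMulEquiv.isDomain A
  haveI : IsDiscreteValuationRing R := IsDiscreteValuationRing.RingEquivClass.isDiscreteValuationRing e
  letI := (f.stalkMap x).hom.toAlgebra
  show Module.Flat R S
  obtain ⟨ϖ, hϖ⟩ := IsDiscreteValuationRing.exists_irreducible R
  have hI : (IsLocalRing.maximalIdeal R).map (algebraMap R S) = Ideal.span {algebraMap R S ϖ} := by
    rw [hϖ.maximalIdeal_eq, Ideal.map_span, Set.image_singleton]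
  have hreg : IsSMulRegular S (algebraMap R S ϖ) := by
    refine isSMulRegular_of_isRadical _ ?_ ?_ fun P hP hPmin => ?_
    · haveI : IsLocalHom (algebraMap R S) := inferInstanceAs (IsLocalHom (f.stalkMap x).hom)
      exact map_nonunit (algebraMap R S) ϖ (hϖ.maximalIdeal_eq ▸ Ideal.mem_span_singleton_self ϖ)
    · rw [← hI, Ideal.isRadical_iff_quotient_reduced]
      exact isReduced_of_injective (H8Props.FibreStalk.asFiberStalkEquiv f x).toRingHom
        (H8Props.FibreStalk.asFiberStalkEquiv f x).injective
    · let q : PrimeSpectrum S := ⟨P, hP.1.1⟩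
      have hzx : X.fromSpecStalk x q ⤳ x := by
        have : X.fromSpecStalk x q ∈ Set.range (X.fromSpecStalk x) := ⟨q, rfl⟩
        rwa [Scheme.range_fromSpecStalk] at this
      have hle : ∀ (q' : PrimeSpectrum S), f (X.fromSpecStalk x q') = f x → algebraMap R S ϖ ∈ q'.asIdeal := by
        intro q' hq'
        have hnat : (Spec (CommRingCat.of A)).fromSpecStalk (f x) (PrimeSpectrum.comap (f.stalkMap x).hom q') =
            f (X.fromSpecStalk x q') :=
          congrArg (fun φ : Spec (X.presheaf.stalk x) ⟶ Spec (CommRingCat.of A) => φ q')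
            (Scheme.SpecMap_stalkMap_fromSpecStalk f)
        have h2 : PrimeSpectrum.comap (f.stalkMap x).hom q' = IsLocalRing.closedPoint R :=
          ((Spec (CommRingCat.of A)).fromSpecStalk (f x)).isEmbedding.injective
            ((hnat.trans hq').trans Scheme.fromSpecStalk_closedPoint.symm)
        exact (congrArg PrimeSpectrum.asIdeal h2).ge
          (show ϖ ∈ IsLocalRing.maximalIdeal R from hϖ.maximalIdeal_eq ▸ Ideal.mem_span_singleton_self ϖ)
      have hfz : f (X.fromSpecStalk x q) = f x := fromSpecStalk_mem_fibre f x q (by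
        rw [← Ideal.map_le_iff_le_comap]
        exact hI.le.trans hP.1.2)
      have hopen := h _ hzx hfz fun z' hz' hsp => by
        obtain ⟨q', rfl⟩ : z' ∈ Set.range (X.fromSpecStalk x) := by rw [Scheme.range_fromSpecStalk]; exact hsp.trans hzx
        have h1 : q'.asIdeal ≤ P := (PrimeSpectrum.le_iff_specializes q' q).mpr
          ((X.fromSpecStalk x).isEmbedding.isInducing.specializes_iff.mp hsp)
        exact congrArg _ (PrimeSpectrum.ext (le_antisymm h1
          (hP.2 ⟨q'.2, (Ideal.span_singleton_le_iff_mem _).mpr (hle q' hz')⟩ h1)))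
      have hd := dense_image_of_isOpenAt f _ (fromSpecStalk_maximal x q hPmin) fun _ => hopen
      have h1 : closure ({f (X.fromSpecStalk x q)} : Set ↥(Spec (CommRingCat.of A))) = Set.univ :=
        (H06Equidim.closure_image_closure_singleton f _).symm.trans (dense_iff_closure_eq.mp hd)
      rw [hfz, show f x = IsLocalRing.closedPoint A from hx, (IsLocalRing.isClosed_singleton_closedPoint A).closure_eq] at h1
      have hb : (⟨⊥, Ideal.isPrime_bot⟩ : ↥(Spec (CommRingCat.of A))) ∈ ({IsLocalRing.closedPoint A} : Set _) :=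
        h1.symm ▸ Set.mem_univ _
      exact closedPoint_asIdeal_ne_bot (congrArg PrimeSpectrum.asIdeal hb).symm
  rw [IsDedekindDomain.flat_iff_torsion_eq_bot, eq_bot_iff]
  rintro b ⟨⟨r, hr⟩, hrb⟩
  obtain ⟨n, u, rfl⟩ := IsDiscreteValuationRing.eq_unit_mul_pow_irreducible (nonZeroDivisors.ne_zero hr) hϖ
  have hrb' : algebraMap R S (u * ϖ ^ n) * b = 0 := by rw [← Algebra.smul_def]; exact hrb
  rw [map_mul, map_pow, mul_assoc] at hrb'
  have h3 : algebraMap R S ϖ ^ n • b = algebraMap R S ϖ ^ n • (0 : S) := by
    rw [smul_zero, smul_eq_mul]; exact (u.isUnit.map (algebraMap R S)).mul_right_eq_zero.mp hrb'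
  exact (hreg.pow n) h3

end Groth.Agent.H06EGA14
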