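import Mathlib
import Groth.Agent.H7Flat.UnivOpen
import Groth.Agent.H11Val.Dominating

/-!
# The discrete valuation criterion of universal openness at a point: algebra (EGA IV 14.3.7, 14.5.3)
-/

set_option autoImplicit false
set_option linter.style.haveILetI false
universe u

open TensorProduct

namespace Groth.Agent.H06EGA14

/-- Generizations lift after base change to discrete valuation rings, at the points over `c`. -/
def DvrLifts {A₀ C : Type u} [CommRing A₀] [CommRing C] [Algebra A₀ C] (c : Ideal C) : Prop :=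
  ∀ (B : Type u) [CommRing B] [IsDomain B] [IsDiscreteValuationRing B] [Algebra A₀ B]
    (u₀ : Ideal (C ⊗[A₀] B)), u₀.IsPrime →
    u₀.comap (Algebra.TensorProduct.includeLeft (R := A₀) (S := A₀) : C →ₐ[A₀] C ⊗[A₀] B) = c →
    u₀.comap (Algebra.TensorProduct.includeRight : B →ₐ[A₀] C ⊗[A₀] B) = IsLocalRing.maximalIdeal B →
    ∃ u : Ideal (C ⊗[A₀] B), u.IsPrime ∧ u ≤ u₀ ∧
      u.comap (Algebra.TensorProduct.includeRight : B →ₐ[A₀] C ⊗[A₀] B) = ⊥

variable {A₀ C : Type u} [CommRing A₀] [CommRing C] [Algebra A₀ C]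

/-- The finite type case: field valued points with a generization of the base point. -/
theorem exists_point_of_dvrLifts_noetherian {c : Ideal C} (h : DvrLifts (A₀ := A₀) c)
    {M : Type u} [CommRing M] [Algebra A₀ M] [IsNoetherianRing M] (b : C ⊗[A₀] M)
    (P : Ideal (C ⊗[A₀] M)) [P.IsPrime] (hb : b ∉ P)
    (hPc : P.comap (Algebra.TensorProduct.includeLeft (R := A₀) (S := A₀) : C →ₐ[A₀] C ⊗[A₀] M) = c)
    (q : Ideal M) [q.IsPrime]
    (hq : q ≤ P.comap (Algebra.TensorProduct.includeRight : M →ₐ[A₀] C ⊗[A₀] M)) :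
    ∃ (L : Type u) (_ : Field L) (χ : C ⊗[A₀] M →+* L), χ b ≠ 0 ∧
      RingHom.ker (χ.comp (Algebra.TensorProduct.includeRight : M →ₐ[A₀] C ⊗[A₀] M).toRingHom) = q := by
  classical
  set p := P.comap (Algebra.TensorProduct.includeRight : M →ₐ[A₀] C ⊗[A₀] M) with hp
  rcases eq_or_ne q p with rfl | hne
  · refine ⟨P.ResidueField, inferInstance, algebraMap _ _, fun h0 => hb ?_, ?_⟩
    · exact Ideal.algebraMap_residueField_eq_zero.mp h0
    · ext a
      rw [RingHom.mem_ker, RingHom.comp_apply, Ideal.algebraMap_residueField_eq_zero]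
      rfl
  haveI : p.IsPrime := Ideal.IsPrime.comap _
  haveI : IsNoetherianRing (M ⧸ q) := inferInstance
  let K := q.ResidueField
  haveI hpq : (p.map (Ideal.Quotient.mk q)).IsPrime := Ideal.isPrime_map_quotientMk_of_isPrime hq
  have hpne : p.map (Ideal.Quotient.mk q) ≠ ⊥ := by
    rw [Ne, Ideal.map_eq_bot_iff_le_ker, Ideal.mk_ker]
    exact fun hle => hne (le_antisymm hq hle)
  obtain ⟨B, hB, hBc⟩ := H11Val.exists_dvr_center (A := M ⧸ q) K
    (IsFractionRing.injective (M ⧸ q) K) ∅ (by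
      rw [Finset.coe_empty, Set.union_empty, eq_top_iff]
      rintro z -
      obtain ⟨a, d, -, rfl⟩ := IsFractionRing.div_surjective (A := M ⧸ q) z
      exact div_mem (Subfield.subset_closure ⟨a, rfl⟩) (Subfield.subset_closure ⟨d, rfl⟩))
    (p.map (Ideal.Quotient.mk q)) hpne
  let β : M →+* B := ((algebraMap (M ⧸ q) K).comp (Ideal.Quotient.mk q)).codRestrict B.toSubring
    fun m => (hBc (Ideal.Quotient.mk q m)).1
  letI : Algebra A₀ B := (β.comp (algebraMap A₀ M)).toAlgebra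
  let βa : M →ₐ[A₀] B := { β with commutes' := fun _ => rfl }
  have hker : RingHom.ker ((IsLocalRing.residue B).comp β) = p := by
    ext m
    rw [RingHom.mem_ker, RingHom.comp_apply, IsLocalRing.residue_eq_zero_iff]
    refine (B.valuation_lt_one_iff (β m)).trans (((hBc (Ideal.Quotient.mk q m)).2).symm.trans ?_)
    rw [← Ideal.mem_comap, Ideal.comap_map_of_surjective _ Ideal.Quotient.mk_surjective,
      ← RingHom.ker_eq_comap_bot, Ideal.mk_ker, sup_eq_left.mpr hq]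
  -- the closed point
  let L₀ := P.ResidueField
  let α₀ : M →+* L₀ := (algebraMap (C ⊗[A₀] M) L₀).comp
    (Algebra.TensorProduct.includeRight : M →ₐ[A₀] C ⊗[A₀] M).toRingHom
  have hα₀ : RingHom.ker α₀ = p := by
    ext m
    rw [RingHom.mem_ker, RingHom.comp_apply, Ideal.algebraMap_residueField_eq_zero]
    rfl
  letI : Algebra p.ResidueField L₀ :=
    (Ideal.ResidueField.lift p α₀ hα₀.ge (fun m hm => isUnit_iff_ne_zero.mpr fun h0 => hm
      (hα₀.le h0))).toAlgebra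
  letI : Algebra p.ResidueField (IsLocalRing.ResidueField B) :=
    (Ideal.ResidueField.lift p ((IsLocalRing.residue B).comp β) hker.ge
      (fun m hm => isUnit_iff_ne_zero.mpr fun h0 => hm (hker.le h0))).toAlgebra
  obtain ⟨Ω, _, i₀, iB, hi⟩ := H7Flat.exists_common_extension p.ResidueField L₀ (IsLocalRing.ResidueField B)
  have hcompat : ∀ m, i₀ (α₀ m) = iB (IsLocalRing.residue B (β m)) := fun m => by
    have := hi (algebraMap M p.ResidueField m)
    exact (congrArg i₀ (Ideal.ResidueField.lift_algebraMap p α₀ _ _ m)).symm.trans (this.trans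
      (congrArg iB (Ideal.ResidueField.lift_algebraMap p ((IsLocalRing.residue B).comp β) _ _ m)))
  let γ₀ : C →+* Ω := i₀.comp ((algebraMap (C ⊗[A₀] M) L₀).comp
    (Algebra.TensorProduct.includeLeft (R := A₀) (S := A₀) : C →ₐ[A₀] C ⊗[A₀] M).toRingHom)
  letI : Algebra A₀ Ω := (γ₀.comp (algebraMap A₀ C)).toAlgebra
  let γa : C →ₐ[A₀] Ω := { γ₀ with commutes' := fun _ => rfl }
  let δa : B →ₐ[A₀] Ω := { iB.comp (IsLocalRing.residue B) with
    commutes' := fun a => by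
      show iB (IsLocalRing.residue B (β (algebraMap A₀ M a))) = γ₀ (algebraMap A₀ C a)
      rw [← hcompat]
      show i₀ (algebraMap (C ⊗[A₀] M) L₀ (Algebra.TensorProduct.includeRight (algebraMap A₀ M a))) = _
      rw [AlgHom.commutes, ← (Algebra.TensorProduct.includeLeft (R := A₀) (S := A₀) :
        C →ₐ[A₀] C ⊗[A₀] M).commutes]
      rfl }
  let Θ : C ⊗[A₀] B →ₐ[A₀] Ω := Algebra.TensorProduct.lift γa δa fun _ _ => Commute.all _ _
  let mapβ : C ⊗[A₀] M →ₐ[A₀] C ⊗[A₀] B := Algebra.TensorProduct.map (AlgHom.id A₀ C) βa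
  have hΘ : ∀ z, Θ (mapβ z) = i₀ (algebraMap (C ⊗[A₀] M) L₀ z) := by
    intro z
    induction z with
    | zero => simp
    | add x y hx hy => simp [map_add, hx, hy]
    | tmul x m =>
      show Θ (x ⊗ₜ[A₀] β m) = _
      rw [Algebra.TensorProduct.lift_tmul]
      show γ₀ x * iB (IsLocalRing.residue B (β m)) = _
      rw [← hcompat]
      show i₀ (algebraMap _ L₀ (x ⊗ₜ[A₀] (1 : M))) * i₀ (algebraMap _ L₀ ((1 : C) ⊗ₜ[A₀] m)) = _
      rw [← map_mul, ← map_mul, Algebra.TensorProduct.tmul_mul_tmul, mul_one, one_mul]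
  let u₀ : Ideal (C ⊗[A₀] B) := RingHom.ker Θ.toRingHom
  haveI : u₀.IsPrime := RingHom.ker_isPrime _
  have hu₀c : u₀.comap (Algebra.TensorProduct.includeLeft (R := A₀) (S := A₀) : C →ₐ[A₀] C ⊗[A₀] B) = c := by
    rw [← hPc]
    ext x
    show Θ (x ⊗ₜ[A₀] (1 : B)) = 0 ↔ x ⊗ₜ[A₀] (1 : M) ∈ P
    rw [show x ⊗ₜ[A₀] (1 : B) = mapβ (x ⊗ₜ[A₀] (1 : M)) by simp [mapβ], hΘ, map_eq_zero,
      Ideal.algebraMap_residueField_eq_zero]
  have hu₀B : u₀.comap (Algebra.TensorProduct.includeRight : B →ₐ[A₀] C ⊗[A₀] B) =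
      IsLocalRing.maximalIdeal B := by
    ext y
    show Θ ((1 : C) ⊗ₜ[A₀] y) = 0 ↔ _
    rw [Algebra.TensorProduct.lift_tmul, map_one, one_mul]
    show iB (IsLocalRing.residue B y) = 0 ↔ _
    rw [map_eq_zero, IsLocalRing.residue_eq_zero_iff]
  obtain ⟨v, hv, hvle, hvB⟩ := h B u₀ inferInstance hu₀c hu₀B
  refine ⟨v.ResidueField, inferInstance, (algebraMap _ v.ResidueField).comp mapβ.toRingHom,
    fun h0 => hb ?_, ?_⟩
  · have h1 : mapβ b ∈ u₀ := hvle (Ideal.algebraMap_residueField_eq_zero.mp h0)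
    have h2 : Θ (mapβ b) = 0 := h1
    rwa [hΘ, map_eq_zero, Ideal.algebraMap_residueField_eq_zero] at h2
  · ext m
    rw [RingHom.mem_ker, RingHom.comp_apply, RingHom.comp_apply, Ideal.algebraMap_residueField_eq_zero]
    have hm : mapβ ((1 : C) ⊗ₜ[A₀] m) =
        (Algebra.TensorProduct.includeRight : B →ₐ[A₀] C ⊗[A₀] B) (β m) := by
      simp [mapβ, βa]
    refine (show mapβ ((1 : C) ⊗ₜ[A₀] m) ∈ v ↔ _ from ?_)
    rw [hm, ← Ideal.mem_comap, hvB, Ideal.mem_bot, ← Subtype.coe_inj]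
    show algebraMap (M ⧸ q) K (Ideal.Quotient.mk q m) = 0 ↔ _
    rw [map_eq_zero_iff _ (IsFractionRing.injective (M ⧸ q) K), Ideal.Quotient.eq_zero_iff_mem]

/-- The general case: every generization of the base point is the image of a point not in `V(b)`. -/
theorem exists_prime_of_dvrLifts [IsNoetherianRing A₀] {c : Ideal C} (h : DvrLifts (A₀ := A₀) c)
    {A' : Type u} [CommRing A'] [Algebra A₀ A'] (b : C ⊗[A₀] A') (P : Ideal (C ⊗[A₀] A')) [P.IsPrime]
    (hb : b ∉ P)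
    (hPc : P.comap (Algebra.TensorProduct.includeLeft (R := A₀) (S := A₀) : C →ₐ[A₀] C ⊗[A₀] A') = c)
    (q : Ideal A') [q.IsPrime]
    (hq : q ≤ P.comap (Algebra.TensorProduct.includeRight : A' →ₐ[A₀] C ⊗[A₀] A')) :
    ∃ Q : Ideal (C ⊗[A₀] A'), Q.IsPrime ∧ b ∉ Q ∧
      Q.comap (Algebra.TensorProduct.includeRight : A' →ₐ[A₀] C ⊗[A₀] A') = q := by
  classical
  obtain ⟨n, cs, as, rfl⟩ : ∃ (n : ℕ) (cs : Fin n → C) (as : Fin n → A'),
      b = ∑ i, cs i ⊗ₜ[A₀] as i := by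
    obtain ⟨S, hS⟩ := TensorProduct.exists_finset b
    refine ⟨Fintype.card S, fun i => ((Fintype.equivFin S).symm i).1.1,
      fun i => ((Fintype.equivFin S).symm i).1.2, ?_⟩
    rw [hS, ← Finset.sum_coe_sort]
    exact (Equiv.sum_comp (Fintype.equivFin S).symm (fun s : S => s.1.1 ⊗ₜ[A₀] s.1.2)).symm
  let M := MvPolynomial (Fin n) A₀
  let ψ : M →ₐ[A₀] A' := MvPolynomial.aeval as
  let mapψ : C ⊗[A₀] M →ₐ[A₀] C ⊗[A₀] A' := Algebra.TensorProduct.map (AlgHom.id A₀ C) ψ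
  let b₁ : C ⊗[A₀] M := ∑ i, cs i ⊗ₜ[A₀] MvPolynomial.X i
  have hb₁ : mapψ b₁ = ∑ i, cs i ⊗ₜ[A₀] as i := by
    rw [map_sum]
    refine Finset.sum_congr rfl fun i _ => ?_
    show cs i ⊗ₜ[A₀] ψ (MvPolynomial.X i) = _
    rw [MvPolynomial.aeval_X]
  have hcomap : ∀ I : Ideal (C ⊗[A₀] A'),
      (I.comap mapψ).comap (Algebra.TensorProduct.includeRight : M →ₐ[A₀] C ⊗[A₀] M) =
        (I.comap (Algebra.TensorProduct.includeRight : A' →ₐ[A₀] C ⊗[A₀] A')).comap ψ := fun I => by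
    ext m
    simp [mapψ]
  haveI : (q.comap ψ).IsPrime := Ideal.IsPrime.comap _
  haveI : (P.comap mapψ).IsPrime := Ideal.IsPrime.comap _
  obtain ⟨L, _, χ, hχb, hχker⟩ := exists_point_of_dvrLifts_noetherian h (M := M) b₁ (P.comap mapψ)
    (fun h0 => hb (hb₁ ▸ h0)) (by rw [← hPc]; ext x; simp [mapψ]) (q.comap ψ)
    (by rw [hcomap]; exact Ideal.comap_mono hq)
  let q₁ := q.comap ψ
  letI : Algebra q₁.ResidueField L :=
    (Ideal.ResidueField.lift q₁
      (χ.comp (Algebra.TensorProduct.includeRight : M →ₐ[A₀] C ⊗[A₀] M).toRingHom) hχker.ge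
      (fun m hm => isUnit_iff_ne_zero.mpr fun h0 => hm (hχker.le h0))).toAlgebra
  letI : Algebra q₁.ResidueField q.ResidueField :=
    (Ideal.ResidueField.lift q₁ ((algebraMap A' q.ResidueField).comp ψ.toRingHom)
      (fun m hm => by
        rw [RingHom.mem_ker, RingHom.comp_apply, Ideal.algebraMap_residueField_eq_zero]
        exact hm)
      (fun m hm => isUnit_iff_ne_zero.mpr fun h0 => hm
        ((Ideal.algebraMap_residueField_eq_zero (I := q)).mp h0))).toAlgebra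
  obtain ⟨Ω, _, iL, iK, hi⟩ := H7Flat.exists_common_extension q₁.ResidueField L q.ResidueField
  have hcompat : ∀ m, iL (χ ((1 : C) ⊗ₜ[A₀] m)) = iK (algebraMap A' q.ResidueField (ψ m)) := fun m => by
    have := hi (algebraMap M q₁.ResidueField m)
    exact (congrArg iL (Ideal.ResidueField.lift_algebraMap q₁
      (χ.comp (Algebra.TensorProduct.includeRight : M →ₐ[A₀] C ⊗[A₀] M).toRingHom) _ _ m)).symm.trans (this.trans
      (congrArg iK (Ideal.ResidueField.lift_algebraMap q₁ ((algebraMap A' q.ResidueField).comp ψ.toRingHom) _ _ m)))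
  let γ₀ : C →+* Ω := iL.comp (χ.comp
    (Algebra.TensorProduct.includeLeft (R := A₀) (S := A₀) : C →ₐ[A₀] C ⊗[A₀] M).toRingHom)
  letI : Algebra A₀ Ω := (γ₀.comp (algebraMap A₀ C)).toAlgebra
  let γa : C →ₐ[A₀] Ω := { γ₀ with commutes' := fun _ => rfl }
  let δa : A' →ₐ[A₀] Ω := { iK.comp (algebraMap A' q.ResidueField) with
    commutes' := fun a => by
      show iK (algebraMap A' q.ResidueField (algebraMap A₀ A' a)) = γ₀ (algebraMap A₀ C a)
      rw [← ψ.commutes a, ← hcompat]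
      show iL (χ ((Algebra.TensorProduct.includeRight : M →ₐ[A₀] C ⊗[A₀] M) (algebraMap A₀ M a))) = _
      rw [AlgHom.commutes, ← (Algebra.TensorProduct.includeLeft (R := A₀) (S := A₀) :
        C →ₐ[A₀] C ⊗[A₀] M).commutes]
      rfl }
  let Θ : C ⊗[A₀] A' →ₐ[A₀] Ω := Algebra.TensorProduct.lift γa δa fun _ _ => Commute.all _ _
  have hΘ : ∀ z, Θ (mapψ z) = iL (χ z) := by
    intro z
    induction z with
    | zero => simp
    | add x y hx hy => simp [map_add, hx, hy]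
    | tmul x m =>
      show Θ (x ⊗ₜ[A₀] ψ m) = _
      rw [Algebra.TensorProduct.lift_tmul]
      show γ₀ x * iK (algebraMap A' q.ResidueField (ψ m)) = _
      rw [← hcompat]
      show iL (χ (x ⊗ₜ[A₀] (1 : M))) * iL (χ ((1 : C) ⊗ₜ[A₀] m)) = _
      rw [← map_mul, ← map_mul, Algebra.TensorProduct.tmul_mul_tmul, mul_one, one_mul]
  refine ⟨RingHom.ker Θ.toRingHom, RingHom.ker_isPrime _, fun h0 => hχb ?_, ?_⟩
  · have h1 : Θ (mapψ b₁) = 0 := by rw [hb₁]; exact h0
    rwa [hΘ, map_eq_zero] at h1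
  · ext a
    show Θ ((1 : C) ⊗ₜ[A₀] a) = 0 ↔ _
    rw [Algebra.TensorProduct.lift_tmul, map_one, one_mul]
    show iK (algebraMap A' q.ResidueField a) = 0 ↔ _
    rw [map_eq_zero, Ideal.algebraMap_residueField_eq_zero]

end Groth.Agent.H06EGA14
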