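import Mathlib
import Groth.Prelude.Def_EGA43
import Groth.Agent.H06EGA14.DvrCriterion
import Groth.Agent.H28Top.Spectral
import Groth.Agent.H8Props.FlatFibreConst

/-!
# The discrete valuation criterion of universal openness at a point (EGA IV 14.5.3)
-/

set_option autoImplicit false
set_option linter.style.haveILetI false
universe u

open CategoryTheory CategoryTheory.Limits AlgebraicGeometry TopologicalSpace Topology TensorProduct

namespace Groth.Agent.H06EGA14

/-- Universal openness at `x` is implied by the lifting of generizations over discrete valuation rings. -/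
theorem isUnivOpenAt_of_dvr {X Y : Scheme.{u}} [IsLocallyNoetherian Y] (f : X ⟶ Y)
    [LocallyOfFiniteType f] (x : X)
    (h : ∀ (A : Type u) [CommRing A] [IsDomain A] [IsDiscreteValuationRing A]
        (g : Spec (CommRingCat.of A) ⟶ Y), g.base (IsLocalRing.closedPoint A) = f.base x →
        ∀ x' : ↥(pullback f g), (pullback.fst f g).base x' = x →
          (pullback.snd f g).base x' = IsLocalRing.closedPoint A →
          ∃ z' : ↥(pullback f g), z' ⤳ x' ∧ (pullback.snd f g).base z' ≠ IsLocalRing.closedPoint A) :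
    EGA43.IsUnivOpenAt f x := by
  obtain ⟨(W : Y.Opens), (hW : IsAffineOpen W), hxW, -⟩ := Opens.isBasis_iff_nbhd.mp Y.isBasis_affineOpens
    (show f x ∈ (⊤ : Y.Opens) from trivial)
  obtain ⟨(V : X.Opens), (hV : IsAffineOpen V), hxV, hVW⟩ := Opens.isBasis_iff_nbhd.mp X.isBasis_affineOpens
    (show x ∈ f ⁻¹ᵁ W from hxW)
  obtain ⟨c, rfl⟩ : x ∈ Set.range hV.fromSpec := by rw [hV.range_fromSpec]; exact hxV
  letI := (f.appLE W V hVW).hom.toAlgebra
  haveI : IsNoetherianRing Γ(Y, W) := IsLocallyNoetherian.component_noetherian ⟨W, hW⟩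
  haveI hfp : Algebra.FinitePresentation Γ(Y, W) Γ(X, V) :=
    haveI : LocallyOfFinitePresentation f := LocallyOfFinitePresentation.iff_locallyOfFiniteType.mpr ‹_›
    f.finitePresentation_appLE hW hV hVW
  have hsq : Spec.map (CommRingCat.ofHom (algebraMap Γ(Y, W) Γ(X, V))) ≫ hW.fromSpec =
      hV.fromSpec ≫ f := IsAffineOpen.SpecMap_appLE_fromSpec f hW hV hVW
  -- the chart of a base change
  have chart : ∀ (B : Type u) [CommRing B] [Algebra Γ(Y, W) B] {Y' : Scheme.{u}} (g : Y' ⟶ Y)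
      (k : Spec (CommRingCat.of B) ⟶ Y') [IsOpenImmersion k],
      k ≫ g = Spec.map (CommRingCat.ofHom (algebraMap Γ(Y, W) B)) ≫ hW.fromSpec →
      ∃ j : Spec (CommRingCat.of (Γ(X, V) ⊗[Γ(Y, W)] B)) ⟶ pullback f g,
        IsOpenImmersion j ∧
        j ≫ pullback.fst f g = Spec.map (CommRingCat.ofHom
          (Algebra.TensorProduct.includeLeft (R := Γ(Y, W)) (S := Γ(Y, W)) :
            Γ(X, V) →ₐ[Γ(Y, W)] Γ(X, V) ⊗[Γ(Y, W)] B).toRingHom) ≫ hV.fromSpec ∧
        j ≫ pullback.snd f g = Spec.map (CommRingCat.ofHom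
          (Algebra.TensorProduct.includeRight : B →ₐ[Γ(Y, W)] Γ(X, V) ⊗[Γ(Y, W)] B).toRingHom) ≫ k ∧
        Set.range j = pullback.fst f g ⁻¹' Set.range hV.fromSpec ∩ pullback.snd f g ⁻¹' Set.range k := by
    intro B _ _ Y' g k _ hk
    let m := pullback.map (Spec.map (CommRingCat.ofHom (algebraMap Γ(Y, W) Γ(X, V))))
      (Spec.map (CommRingCat.ofHom (algebraMap Γ(Y, W) B))) f g hV.fromSpec k hW.fromSpec hsq hk.symm
    refine ⟨(pullbackSpecIso Γ(Y, W) Γ(X, V) B).inv ≫ m, inferInstance, ?_, ?_, ?_⟩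
    · simp only [m, Category.assoc, pullback.lift_fst]
      rw [pullbackSpecIso_inv_fst_assoc]
      rfl
    · simp only [m, Category.assoc, pullback.lift_snd]
      rw [pullbackSpecIso_inv_snd_assoc]
      rfl
    · rw [Scheme.Hom.comp_base, TopCat.coe_comp, Set.range_comp,
        (Set.range_eq_univ.mpr (Scheme.homeoOfIso (pullbackSpecIso Γ(Y, W) Γ(X, V) B).symm).surjective :
          Set.range ⇑(pullbackSpecIso Γ(Y, W) Γ(X, V) B).inv = Set.univ),
        Set.image_univ]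
      exact Scheme.Pullback.range_map _ _ _ _ _ _ _ _ _
  -- the hypothesis in algebraic form
  have hlift : DvrLifts (A₀ := Γ(Y, W)) (C := Γ(X, V)) c.asIdeal := by
    intro B _ _ _ _ u₀ hu₀ huc huB
    let g := Spec.map (CommRingCat.ofHom (algebraMap Γ(Y, W) B)) ≫ hW.fromSpec
    obtain ⟨j, _, hj1, hj2, -⟩ := chart B g (𝟙 _) (Category.id_comp _)
    let U₀ : Spec (CommRingCat.of (Γ(X, V) ⊗[Γ(Y, W)] B)) := ⟨u₀, hu₀⟩
    have h1 : pullback.fst f g (j U₀) = hV.fromSpec c := by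
      rw [← Scheme.Hom.comp_apply, hj1, Scheme.Hom.comp_apply]
      exact congrArg hV.fromSpec (PrimeSpectrum.ext huc)
    have h2 : pullback.snd f g (j U₀) = IsLocalRing.closedPoint B := by
      rw [← Scheme.Hom.comp_apply, hj2, Category.comp_id]
      exact PrimeSpectrum.ext huB
    have h3 : g (IsLocalRing.closedPoint B) = f (hV.fromSpec c) := by
      rw [← h2, ← h1, ← Scheme.Hom.comp_apply (pullback.snd f g) g, ← Scheme.Hom.comp_apply (pullback.fst f g) f,
        pullback.condition]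
    obtain ⟨z', hz', hzne⟩ := h B g h3 (j U₀) h1 h2
    obtain ⟨u, rfl⟩ : z' ∈ Set.range j := hz'.mem_open j.opensRange.2 ⟨U₀, rfl⟩
    haveI : u.asIdeal.IsPrime := u.2
    refine ⟨u.asIdeal, u.2, (PrimeSpectrum.le_iff_specializes u U₀).mpr
      (j.isEmbedding.isInducing.specializes_iff.mp hz'), ?_⟩
    by_contra hne
    refine hzne ?_
    rw [← Scheme.Hom.comp_apply, hj2, Category.comp_id]
    refine PrimeSpectrum.ext ?_
    show u.asIdeal.comap _ = IsLocalRing.maximalIdeal B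
    haveI : (u.asIdeal.comap (Algebra.TensorProduct.includeRight :
      B →ₐ[Γ(Y, W)] Γ(X, V) ⊗[Γ(Y, W)] B)).IsPrime := Ideal.IsPrime.comap _
    exact IsLocalRing.eq_maximalIdeal (Ideal.IsPrime.isMaximal inferInstance hne)
  -- openness after an arbitrary base change
  intro Y' g x' hx'
  have hy' : g (pullback.snd f g x') ∈ W := by
    rw [← Scheme.Hom.comp_apply (pullback.snd f g) g, ← pullback.condition, Scheme.Hom.comp_apply, hx']
    exact hxW
  obtain ⟨(W' : Y'.Opens), (hW' : IsAffineOpen W'), hyW', hW'W⟩ := Opens.isBasis_iff_nbhd.mp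
    Y'.isBasis_affineOpens (show pullback.snd f g x' ∈ g ⁻¹ᵁ W from hy')
  letI := (g.appLE W W' hW'W).hom.toAlgebra
  obtain ⟨j, _, hj1, hj2, hjr⟩ := chart Γ(Y', W') g hW'.fromSpec
    (IsAffineOpen.SpecMap_appLE_fromSpec g hW hW' hW'W).symm
  obtain ⟨P, rfl⟩ : x' ∈ Set.range j := by
    rw [hjr, hV.range_fromSpec, hW'.range_fromSpec]
    exact ⟨by rw [Set.mem_preimage, hx']; exact hxV, hyW'⟩
  intro N hN
  obtain ⟨_, ⟨b, rfl⟩, hPb, hbN⟩ := PrimeSpectrum.isTopologicalBasis_basic_opens.mem_nhds_iff.mp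
    (j.continuous.continuousAt.preimage_mem_nhds hN)
  let ρ := (Algebra.TensorProduct.includeRight : Γ(Y', W') →ₐ[Γ(Y, W)]
    Γ(X, V) ⊗[Γ(Y, W)] Γ(Y', W')).toRingHom
  let E : Set (PrimeSpectrum Γ(Y', W')) := PrimeSpectrum.comap ρ '' (PrimeSpectrum.basicOpen b : Set _)
  have hE : IsConstructible E := by
    refine PrimeSpectrum.isConstructible_comap_image ?_ PrimeSpectrum.isConstructible_basicOpen
    have h1 : (algebraMap Γ(Y', W') (Γ(Y', W') ⊗[Γ(Y, W)] Γ(X, V))).FinitePresentation :=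
      RingHom.finitePresentation_algebraMap.mpr inferInstance
    let e := (Algebra.TensorProduct.comm Γ(Y, W) Γ(Y', W') Γ(X, V)).toRingEquiv
    have h2 : ρ = e.toRingHom.comp (algebraMap Γ(Y', W') (Γ(Y', W') ⊗[Γ(Y, W)] Γ(X, V))) :=
      RingHom.ext fun a => rfl
    rw [h2]
    exact RingHom.finitePresentation_respectsIso.1 _ e h1
  haveI : P.asIdeal.IsPrime := P.2
  have hgen : ∀ q, q ⤳ PrimeSpectrum.comap ρ P → q ∈ E := by
    intro q hq
    haveI : q.asIdeal.IsPrime := q.2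
    have hPc : P.asIdeal.comap (Algebra.TensorProduct.includeLeft (R := Γ(Y, W)) (S := Γ(Y, W)) :
        Γ(X, V) →ₐ[Γ(Y, W)] Γ(X, V) ⊗[Γ(Y, W)] Γ(Y', W')) = c.asIdeal := by
      have h4 := hx'
      rw [← Scheme.Hom.comp_apply, hj1, Scheme.Hom.comp_apply] at h4
      exact congrArg PrimeSpectrum.asIdeal (hV.fromSpec.isEmbedding.injective h4)
    obtain ⟨Q, hQ, hbQ, hQq⟩ := exists_prime_of_dvrLifts hlift b P.asIdeal hPb hPc q.asIdeal
      ((PrimeSpectrum.le_iff_specializes q (PrimeSpectrum.comap ρ P)).mpr hq)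
    exact ⟨⟨Q, hQ⟩, hbQ, PrimeSpectrum.ext hQq⟩
  have hnhd : E ∈ 𝓝 (PrimeSpectrum.comap ρ P) := by
    rw [mem_nhds_iff]
    refine ⟨(closure Eᶜ)ᶜ, Set.compl_subset_comm.mp subset_closure, isClosed_closure.isOpen_compl,
      fun hmem => ?_⟩
    obtain ⟨e, he, hsp⟩ := H28Top.exists_specializes_of_mem_closure
      (H28Top.isClosed_constr_of_isConstructible hE.compl) hmem
    exact he (hgen e hsp)
  have hmem := hW'.fromSpec.isOpenEmbedding.isOpenMap.image_mem_nhds hnhd
  have hpt : hW'.fromSpec (PrimeSpectrum.comap ρ P) = pullback.snd f g (j P) := by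
    rw [← Scheme.Hom.comp_apply j, hj2]
    rfl
  rw [← hpt]
  refine Filter.mem_of_superset hmem ?_
  rintro _ ⟨_, ⟨Q, hQ, rfl⟩, rfl⟩
  exact ⟨j Q, hbN hQ, congrArg (fun φ : Spec (CommRingCat.of (Γ(X, V) ⊗[Γ(Y, W)] Γ(Y', W'))) ⟶ Y' => φ Q) hj2⟩

end Groth.Agent.H06EGA14
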