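import Groth.Agent.H06EGA14.EquidimCriteria
import Groth.Agent.H06EGA14.Chevalley3
import Groth.Agent.H8Props.FieldDimFibre

/-!
Equidimensionality is stable under flat base change.
-/

open CategoryTheory CategoryTheory.Limits AlgebraicGeometry TopologicalSpace

universe u

namespace Groth.Agent.H06EGA14

open Groth.Agent.H8Props.FieldDim

set_option backward.isDefEq.respectTransparency false in
/-- A maximal point of a base change over a point whose image is maximal has maximal image. -/
theorem maximal_snd_of_maximal {X Y Y' : Scheme.{u}} (f : X ⟶ Y) (g : Y' ⟶ Y) (ζ : ↥(pullback f g))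
    (hζ : ∀ z, z ⤳ ζ → z = ζ) (hy : ∀ w, w ⤳ f (pullback.fst f g ζ) → w = f (pullback.fst f g ζ))
    (w : Y') (hw : w ⤳ pullback.snd f g ζ) : w = pullback.snd f g ζ := by
  set y := f (pullback.fst f g ζ) with hydef
  have hgy : g (pullback.snd f g ζ) = y := by
    rw [hydef, ← Scheme.Hom.comp_apply, ← pullback.condition, Scheme.Hom.comp_apply]
  have hwy : g w = y := hy _ (hgy ▸ hw.map g.continuous)
  let i := Y.fromSpecResidueField y
  have hr : Set.range (pullback.fst g i) = g ⁻¹' {y} := g.range_fiberι y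
  obtain ⟨w₁, hw₁⟩ : w ∈ Set.range (pullback.fst g i) := hr ▸ hwy
  obtain ⟨e₁, he₁⟩ : pullback.snd f g ζ ∈ Set.range (pullback.fst g i) := hr ▸ hgy
  have hwe : w₁ ⤳ e₁ := (g.fiberι y).isEmbedding.isInducing.specializes_iff.mp
    (show pullback.fst g i w₁ ⤳ pullback.fst g i e₁ by rwa [hw₁, he₁])
  let q := pullback.snd f i
  let b := pullback.snd g i
  haveI : Flat q := inferInstance
  let m : pullback q b ⟶ pullback f g := pullback.lift (pullback.fst q b ≫ pullback.fst f i)
    (pullback.snd q b ≫ pullback.fst g i) (by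
      rw [Category.assoc, Category.assoc, pullback.condition (f := f), pullback.condition (f := g),
        reassoc_of% (pullback.condition (f := q) (g := b))])
  have hbig : IsPullback (pullback.fst q b ≫ pullback.fst f i) (pullback.snd q b) f (pullback.fst g i ≫ g) := by
    rw [pullback.condition]
    exact (IsPullback.of_hasPullback q b).paste_horiz (IsPullback.of_hasPullback f i)
  have hm : IsPullback m (pullback.snd q b) (pullback.snd f g) (pullback.fst g i) :=
    IsPullback.of_right (by rw [pullback.lift_fst]; exact hbig) (pullback.lift_snd _ _ _)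
      (IsPullback.of_hasPullback f g)
  obtain ⟨z, hz₁, hz₂⟩ := Scheme.exists_preimage_of_isPullback hm ζ e₁ he₁.symm
  obtain ⟨z', hz', hz'w⟩ := Flat.generalizingMap (pullback.snd q b) (hz₂ ▸ hwe : w₁ ⤳ pullback.snd q b z)
  have hmz : m z' = ζ := hζ _ (hz₁ ▸ hz'.map m.continuous)
  rw [← hw₁, ← hz'w, ← Scheme.Hom.comp_apply, ← hm.w, Scheme.Hom.comp_apply, hmz]

set_option backward.isDefEq.respectTransparency false in
theorem isEquidimAt_baseChange_flat {X Y Y' : Scheme.{u}} (f : X ⟶ Y) [LocallyOfFiniteType f] (g : Y' ⟶ Y)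
    [Flat g] [IsLocallyNoetherian Y'] (x' : ↥(pullback f g))
    (h : EGA43.IsEquidimAt f (pullback.fst f g x')) : EGA43.IsEquidimAt (pullback.snd f g) x' := by
  obtain ⟨e, U, hxU, hcomp, hfib⟩ := h
  have hdimU : ∀ z ∈ U, FlatMor.fibreDimAt f z = e := fun z hz =>
    (H06Equidim.fibreDimAt_opens_ι f U ⟨z, hz⟩).symm.trans
      (H06Equidim.fibreDimAt_eq_of_dim_component_fibre (U.ι ≫ f) e hfib ⟨z, hz⟩)
  have hP := IsPullback.of_hasPullback f g
  refine isEquidimAt_of_forall_component _ x' e
    ((fibreDimAt_baseChange f hP x').trans (hdimU _ hxU)).le fun ζ hζ hmax => ?_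
  have hζU : pullback.fst f g ζ ∈ U := (hζ.map (pullback.fst f g).continuous).mem_open U.2 hxU
  refine ⟨maximal_snd_of_maximal f g ζ hmax ?_, (fibreDimAt_baseChange f hP ζ).trans (hdimU _ hζU)⟩
  have hmaxX : ∀ v, v ⤳ pullback.fst f g ζ → v = pullback.fst f g ζ := fun v hv => by
    obtain ⟨v', hv', rfl⟩ := Flat.generalizingMap (pullback.fst f g) hv
    rw [hmax v' hv']
  let η : U.toScheme := ⟨pullback.fst f g ζ, hζU⟩
  obtain ⟨η', hη', hT⟩ := exists_component_generization η
  obtain heq : η' = η := U.ι.isEmbedding.injective (hmaxX _ (hη'.map U.ι.continuous))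
  rw [heq] at hT
  obtain ⟨W', hW', -, hW'eq⟩ := hcomp _ hT
  exact H06Equidim.eq_of_specializes_of_component
    (((H06Equidim.closure_image_closure_singleton (U.ι ≫ f) η).symm.trans hW'eq :
      closure {f (U.ι η)} = W') ▸ hW')

end Groth.Agent.H06EGA14
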