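import Groth.Agent.H06EGA14.EquidimCut

/-!
Points of a zero locus without proper generization in it have local ring of dimension at most one.
-/

open CategoryTheory CategoryTheory.Limits AlgebraicGeometry TopologicalSpace Topology

universe u

namespace Groth.Agent.H06EGA14

variable {X : Scheme.{u}}

theorem fromSpecStalk_mem_zeroLocus_iff (g : Γ(X, ⊤)) (v : X) (q : PrimeSpectrum (X.presheaf.stalk v)) :
    X.fromSpecStalk v q ∈ X.zeroLocus ({g} : Set Γ(X, ⊤)) ↔ X.presheaf.germ ⊤ v trivial g ∈ q.asIdeal := by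
  obtain ⟨V, hV, hvV, -⟩ := exists_isAffineOpen_mem_and_subset (U := (⊤ : X.Opens)) (x := v) trivial
  have hqv : X.fromSpecStalk v q ⤳ v := by
    have : X.fromSpecStalk v q ∈ Set.range (X.fromSpecStalk v) := ⟨q, rfl⟩
    rwa [Scheme.range_fromSpecStalk] at this
  set t := (X.presheaf.map (homOfLE (le_top : V ≤ ⊤)).op) g
  have hbo : X.fromSpecStalk v q ∈ X.basicOpen t ↔ X.presheaf.germ V v hvV t ∉ q.asIdeal := by
    rw [← hV.fromSpecStalk_eq_fromSpecStalk hvV]
    show q ∈ Spec.map (X.presheaf.germ V v hvV) ⁻¹ᵁ (hV.fromSpec ⁻¹ᵁ X.basicOpen t) ↔ _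
    rw [hV.fromSpec_preimage_basicOpen]
    rfl
  rw [TopCat.Presheaf.germ_res_apply, Scheme.basicOpen_res] at hbo
  rw [Scheme.mem_zeroLocus_iff]
  constructor
  · intro h
    by_contra hn
    exact h g rfl (hbo.mpr hn).2
  · rintro h _ rfl hb
    exact hbo.mp ⟨hqv.mem_open V.2 hvV, hb⟩ h

theorem ringKrullDim_stalk_le_one_of_zeroLocus [IsLocallyNoetherian X] (g : Γ(X, ⊤)) (v : X)
    (hv : v ∈ X.zeroLocus ({g} : Set Γ(X, ⊤)))
    (hmin : ∀ z ∈ X.zeroLocus ({g} : Set Γ(X, ⊤)), z ⤳ v → z = v) :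
    ringKrullDim (X.presheaf.stalk v) ≤ 1 := by
  set a := X.presheaf.germ ⊤ v trivial g
  have ha : a ∈ IsLocalRing.maximalIdeal (X.presheaf.stalk v) := by
    refine (fromSpecStalk_mem_zeroLocus_iff g v (IsLocalRing.closedPoint _)).mp ?_
    rw [Scheme.fromSpecStalk_closedPoint]; exact hv
  haveI : (Ideal.span {a}).IsPrincipal := ⟨a, rfl⟩
  have hm : IsLocalRing.maximalIdeal (X.presheaf.stalk v) ∈ (Ideal.span {a}).minimalPrimes := by
    refine ⟨⟨inferInstance, (Ideal.span_singleton_le_iff_mem _).mpr ha⟩, fun q ⟨hq, haq⟩ _ => ?_⟩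
    let Q : PrimeSpectrum (X.presheaf.stalk v) := ⟨q, hq⟩
    have hQv : X.fromSpecStalk v Q ⤳ v := by
      have : X.fromSpecStalk v Q ∈ Set.range (X.fromSpecStalk v) := ⟨Q, rfl⟩
      rwa [Scheme.range_fromSpecStalk] at this
    have h1 := hmin _ ((fromSpecStalk_mem_zeroLocus_iff g v Q).mpr (haq (Ideal.mem_span_singleton_self a))) hQv
    exact (congrArg PrimeSpectrum.asIdeal ((X.fromSpecStalk v).isEmbedding.injective
      (h1.trans Scheme.fromSpecStalk_closedPoint.symm) : Q = IsLocalRing.closedPoint _)).ge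
  rw [← IsLocalRing.maximalIdeal_height_eq_ringKrullDim]
  exact_mod_cast Ideal.height_le_one_of_isPrincipal_of_mem_minimalPrimes _ _ hm

end Groth.Agent.H06EGA14
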