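import Groth.Agent.S3408
import Groth.Agent.H06Unram.DimInjective
import Groth.Agent.H06EGA14.EquidimCriteria
import Groth.Agent.H06EGA14.OpenStalk
import Groth.Agent.H06EGA14.UnivOpen
import Groth.Agent.H06EGA12.GeomRkOpen
import Groth.Agent.H06EGA12.EquidimLocus
import Groth.Agent.H06SecComp.GeomDescend
import Groth.Agent.H8Props.FieldDimFibre
import Groth.Agent.H8Props.FieldDimEquidim

/-!
# Equidimensionality from universal openness and geometrically reduced fibres (EGA IV 15.4.1)
-/

set_option autoImplicit false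
set_option linter.style.haveILetI false
set_option backward.isDefEq.respectTransparency false
universe u

open CategoryTheory CategoryTheory.Limits AlgebraicGeometry TopologicalSpace

namespace Groth.Agent.H06EGA14.EquidimGeomReduced

open H8Props.FieldDim

theorem associatedPrimes_subset_minimalPrimes_of_isReduced {R : Type u} [CommRing R] [IsNoetherianRing R]
    [_root_.IsReduced R] (p : Ideal R) (hp : p ∈ associatedPrimes R R) : p ∈ minimalPrimes R := by
  obtain ⟨hprime, x, hx⟩ := isAssociatedPrime_iff.mp hp
  have hx0 : x ≠ 0 := by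
    rintro rfl
    refine hprime.ne_top (hx.trans ((Ideal.eq_top_iff_one _).mpr ?_))
    simp [Submodule.mem_colon_singleton]
  obtain ⟨q, hq, hxq⟩ : ∃ q ∈ minimalPrimes R, x ∉ q := by
    by_contra h
    push Not at h
    have hn : x ∈ nilradical R := by
      rw [nilradical_eq_sInf, Submodule.mem_sInf]
      intro (P : Ideal R) hP
      haveI : P.IsPrime := hP
      obtain ⟨q, hq, hqP⟩ := Ideal.exists_minimalPrimes_le (I := (⊥ : Ideal R)) (J := P) bot_le
      exact hqP (h q hq)
    rw [nilradical_eq_zero] at hn
    exact hx0 hn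
  have hle : p ≤ q := by
    intro a ha
    rw [hx, Submodule.mem_colon_singleton, smul_eq_mul, Submodule.mem_bot] at ha
    exact (hq.isPrime.mem_or_mem (show a * x ∈ q by rw [ha]; exact zero_mem _)).resolve_right hxq
  exact (le_antisymm hle (hq.2 ⟨hprime, bot_le⟩ hle)).symm ▸ hq

/-- A geometrically reduced point is reduced. -/
theorem isReduced_stalk_of_isGeomReducedAt {k : Type u} [Field k] {Z : Scheme.{u}} (q : Z ⟶ Spec (CommRingCat.of k))
    {z : Z} (h : FBase.IsGeomReducedAt q z) : _root_.IsReduced (Z.presheaf.stalk z) := by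
  haveI : IsIso (Spec.map (CommRingCat.ofHom (algebraMap k k))) := by
    rw [Algebra.algebraMap_self]
    show IsIso (Spec.map (𝟙 (CommRingCat.of k)))
    infer_instance
  let π := pullback.fst q (Spec.map (CommRingCat.ofHom (algebraMap k k)))
  obtain ⟨z', rfl⟩ := π.surjective z
  haveI : _root_.IsReduced ((pullback q (Spec.map (CommRingCat.ofHom (algebraMap k k)))).presheaf.stalk z') := h k z' rfl
  exact isReduced_of_injective (asIso (π.stalkMap z')).commRingCatIsoToRingEquiv
    (asIso (π.stalkMap z')).commRingCatIsoToRingEquiv.injective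

/-- Over a field, if the components through a point all have dimension `e`, then the local ring is
equidimensional and the local dimension is `e`. -/
theorem isEquidim_stalk_of_components {k : Type u} [Field k] {Z : Scheme.{u}} (q : Z ⟶ Spec (CommRingCat.of k))
    [LocallyOfFiniteType q] (z : Z) (e : ℕ)
    (h : ∀ T ∈ irreducibleComponents Z, z ∈ T → topologicalKrullDim T = (e : ℕ)) :
    EGA4.IsEquidim (Z.presheaf.stalk z) ∧ FlatMor.localDim Z z = (e : ℕ) := by
  have hloc : FlatMor.localDim Z z = (e : ℕ) := by
    rw [localDim_eq q]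
    refine le_antisymm (iSup_le fun η => ?_) ?_
    · obtain ⟨T, hT, hηT⟩ := exists_mem_irreducibleComponents_subset_of_isIrreducible (closure {η.1})
        isIrreducible_singleton.closure
      rw [← h T hT (hηT η.2.mem_closure)]
      exact dim_mono hηT
    · obtain ⟨T, hT, hzT⟩ := exists_mem_irreducibleComponents_subset_of_isIrreducible ({z} : Set Z)
        isIrreducible_singleton
      obtain ⟨ζ, rfl, -⟩ := mem_irreducibleComponents_iff hT
      refine le_iSup_of_le ⟨ζ, specializes_iff_mem_closure.mpr (hzT rfl)⟩ ?_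
      rw [← h _ hT (hzT rfl)]
      exact le_rfl
  refine ⟨fun p hp => le_antisymm (ringKrullDim_quotient_le p) ?_, hloc⟩
  let P : PrimeSpectrum (Z.presheaf.stalk z) := ⟨p, hp.1.1⟩
  obtain ⟨W, i, w, hi, hW, hr, hw, hdimW⟩ := exists_integral_closure z P
  haveI := hi
  haveI := hW
  set η := Z.fromSpecStalk z P
  have hηz : η ⤳ z := by
    have : η ∈ Set.range (Z.fromSpecStalk z) := ⟨P, rfl⟩
    rwa [Scheme.range_fromSpecStalk] at this
  have hcomp : closure ({η} : Set Z) ∈ irreducibleComponents Z := by
    refine H06Equidim.closure_singleton_mem_irreducibleComponents _ fun w' hw' => ?_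
    exact fromSpecStalk_maximal z P hp w' hw'
  have hdimT : topologicalKrullDim W = (e : ℕ) := by
    rw [← dim_range i.isEmbedding, hr]
    exact h _ hcomp hηz.mem_closure
  have hc : cdim w = cdim z := by
    unfold cdim
    have hpre : closure ({w} : Set W) = i ⁻¹' closure ({z} : Set Z) := by
      rw [← hw, ← Set.image_singleton, i.isEmbedding.closure_eq_preimage_closure_image]
    rw [hpre, dim_preimage i.isEmbedding, hr, Set.inter_eq_left.mpr]
    exact closure_minimal (Set.singleton_subset_iff.mpr hηz.mem_closure) isClosed_closure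
  obtain ⟨t, ht⟩ := exists_nat_cdim q z
  have h1 := localDim_eq_stalk_add_cdim (i ≫ q) w
  rw [localDim_eq_dim_of_irreducible (i ≫ q) w, hdimT, hdimW, hc, ← hloc, localDim_eq_stalk_add_cdim q z, ht] at h1
  exact H06Unram.DimInjective.le_of_le_add_nat t h1.le

/-- The local ring of the fibre as a quotient. -/
abbrev X_quot {X Y : Scheme.{u}} (f : X ⟶ Y) (x : X) : Type u :=
  X.presheaf.stalk x ⧸ (IsLocalRing.maximalIdeal (Y.presheaf.stalk (f x))).map (f.stalkMap x).hom

/-- EGA IV 15.4.1: universal openness at the maximal points of an equidimensional, geometrically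
reduced fibre gives equidimensionality. -/
theorem isEquidimAt {X Y : Scheme.{u}} [IsLocallyNoetherian Y] (f : X ⟶ Y)
    [LocallyOfFiniteType f] (x : X)
    (hopen : ∀ z : ↥(f.fiber (f.base x)), f.asFiber x ∈ closure {z} →
      (∀ z' : ↥(f.fiber (f.base x)), z ∈ closure {z'} → z' = z) →
      EGA43.IsUnivOpenAt f ((f.fiberι (f.base x)).base z))
    (hred : FBase.IsGeomReducedAt (f.fiberToSpecResidueField (f.base x)) (f.asFiber x))
    (heq : ∃ e : ℕ, ∀ Z ∈ irreducibleComponents (↥(f.fiber (f.base x)) : Type u), f.asFiber x ∈ Z →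
      topologicalKrullDim (↥Z : Type u) = e) :
    EGA43.IsEquidimAt f x := by
  obtain ⟨e, he⟩ := heq
  haveI := locallyOfFiniteType_fiberToSpec f (f x)
  have hfd : FlatMor.fibreDimAt f x = (e : ℕ) :=
    (isEquidim_stalk_of_components (k := Y.residueField (f x)) (f.fiberToSpecResidueField (f x)) _ e he).2
  -- pass to the reduced base
  let C : Closeds Y := ⊤
  let Y' := (Scheme.IdealSheafData.vanishingIdeal C).subscheme
  let j : Y' ⟶ Y := (Scheme.IdealSheafData.vanishingIdeal C).subschemeι
  haveI : IsReduced Y' := H17.isReduced_vanishingIdeal_subscheme C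
  haveI : IsLocallyNoetherian Y' := LocallyOfFiniteType.isLocallyNoetherian j
  haveI : Surjective j := ⟨fun y => by
    rw [← Set.mem_range, show Set.range j = _ from H17.range_vanishingIdeal_subschemeι C]; trivial⟩
  let g' := pullback.fst f j
  let f' := pullback.snd f j
  have hP : IsPullback g' f' f j := IsPullback.of_hasPullback f j
  haveI : IsClosedImmersion g' := MorphismProperty.pullback_fst _ _ inferInstance
  haveI : Surjective g' := MorphismProperty.pullback_fst _ _ inferInstance
  haveI : LocallyOfFiniteType f' := MorphismProperty.pullback_snd _ _ inferInstance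
  obtain ⟨x', rfl⟩ := g'.surjective x
  have hred' := H06SecComp.isGeomReducedAt_baseChange hP hred
  have hfd' : FlatMor.fibreDimAt f' x' = (e : ℕ) := (fibreDimAt_baseChange f hP x').trans hfd
  -- the maximal points of the new fibre
  have hjf : ∀ w, f (g' w) = j (f' w) := fun w => congr($(hP.w) w)
  have hopen' : ∀ z : ↥(f'.fiber (f'.base x')), f'.asFiber x' ∈ closure {z} →
      (∀ z' : ↥(f'.fiber (f'.base x')), z ∈ closure {z'} → z' = z) →
      EGA43.IsUnivOpenAt f' ((f'.fiberι (f'.base x')).base z) := by
    intro z hz hmax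
    have hzf : f' (f'.fiberι (f' x') z) = f' x' := (f'.range_fiberι _).subset (Set.mem_range_self z)
    obtain ⟨v, hv⟩ : g' (f'.fiberι (f' x') z) ∈ Set.range (f.fiberι (f (g' x'))) := by
      rw [f.range_fiberι]
      show f _ = f _
      rw [hjf, hjf, hzf]
    refine isUnivOpenAt_of_isPullback (hopen v ?_ ?_) hP _ hv.symm
    · rw [← specializes_iff_mem_closure, ← (f.fiberι _).isEmbedding.isInducing.specializes_iff, hv,
        f.fiberι_asFiber]
      have := (specializes_iff_mem_closure.mpr hz).map (g'.continuous.comp (f'.fiberι (f' x')).continuous)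
      simpa only [Function.comp_apply, f'.fiberι_asFiber] using this
    · intro v' hv'
      obtain ⟨w, hw⟩ := g'.surjective (f.fiberι _ v')
      obtain ⟨z', hz'⟩ : w ∈ Set.range (f'.fiberι (f' x')) := by
        rw [f'.range_fiberι]
        refine j.isEmbedding.injective ?_
        rw [← hjf, hw, ← hjf]
        exact (f.range_fiberι _).subset (Set.mem_range_self v')
      have : z' = z := hmax z' (by
        rw [← specializes_iff_mem_closure, ← (f'.fiberι _).isEmbedding.isInducing.specializes_iff,
          ← g'.isEmbedding.isInducing.specializes_iff, hz', hw, ← hv]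
        exact (specializes_iff_mem_closure.mpr hv').map (f.fiberι _).continuous)
      apply (f.fiberι _).isEmbedding.injective
      rw [hv, ← hw, ← hz', this]
  have hy' : _root_.IsReduced (Y'.presheaf.stalk (f' x')) := inferInstance
  obtain ⟨U, hxU, hflat, -⟩ := S3408.result f' x' hopen' hred' hy'
  haveI := hflat
  haveI : LocallyOfFinitePresentation (U.ι ≫ f') := H12AlgSp.lfp_of_lft_of_isLocallyNoetherian _
  -- equidimensional fibre without embedded points
  haveI : IsLocallyNoetherian (f.fiber (f (g' x'))) :=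
    LocallyOfFiniteType.isLocallyNoetherian (f.fiberToSpecResidueField (f (g' x')))
  refine isEquidimAt_of_forall_component f (g' x') e hfd.le fun ζ hζ hζmax => ?_
  obtain ⟨ζ', rfl⟩ := g'.surjective ζ
  have hζ' : ζ' ⤳ x' := g'.isEmbedding.isInducing.specializes_iff.mp hζ
  have hζU : ζ' ∈ U := hζ'.mem_open U.2 hxU
  refine ⟨fun w hw => ?_, ?_⟩
  · obtain ⟨w', rfl⟩ := j.surjective w
    rw [hjf] at hw ⊢
    have hw' : w' ⤳ (U.ι ≫ f') ⟨ζ', hζU⟩ := j.isEmbedding.isInducing.specializes_iff.mp hw
    obtain ⟨v, hv, hvw⟩ := Flat.generalizingMap (U.ι ≫ f') hw'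
    have hvζ : g' (U.ι v) = g' ζ' := hζmax _ ((hv.map U.ι.continuous).map g'.continuous)
    rw [← hvw]
    exact congrArg (fun t => j (f' t)) (g'.isEmbedding.injective hvζ)
  · rw [← fibreDimAt_baseChange f hP]
    refine le_antisymm ((H8Props.FieldDim.fibreDimAt_le_of_specializes f' hζ').trans hfd'.le) ?_
    rw [← hfd', show x' = U.ι ⟨x', hxU⟩ from rfl, show ζ' = U.ι ⟨ζ', hζU⟩ from rfl,
      ← H06Equidim.fibreDimAt_opens_ι f' U, ← H06Equidim.fibreDimAt_opens_ι f' U]
    refine H06EGA12.fibreDimAt_le_of_specializes (U.ι ≫ f') ((H06EGA12.mem_equiLocus_iff _ _).mpr ?_)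
      (U.ι.isEmbedding.isInducing.specializes_iff.mp hζ')
    let x'' : U.toScheme := ⟨x', hxU⟩
    let g := U.ι ≫ f'
    have hbad : g'.base x' ∉ H06EGA12.dimBad f := (H06EGA12.equidim_fibre_iff f _).mp ⟨e, he⟩
    have hbad' : x' ∉ H06EGA12.dimBad f' := by
      rintro ⟨z, hz1, hz2, hz3⟩
      rw [fibreDimAt_baseChange f hP, fibreDimAt_baseChange f hP] at hz3
      exact hbad ⟨g' z, by rw [hjf, hjf, hz1], hz2.map g'.continuous, hz3⟩
    have hbad'' : x'' ∉ H06EGA12.dimBad g := by
      rw [H06EGA12.dimBad_comp_openImmersion U.ι f']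
      exact hbad'
    obtain ⟨e'', he''⟩ := (H06EGA12.equidim_fibre_iff g x'').mpr hbad''
    haveI := locallyOfFiniteType_fiberToSpec g (g x'')
    haveI : IsLocallyNoetherian (g.fiber (g x'')) :=
      LocallyOfFiniteType.isLocallyNoetherian (g.fiberToSpecResidueField (g x''))
    refine ⟨(isEquidim_stalk_of_components (k := Y'.residueField (g x'')) (g.fiberToSpecResidueField (g x'')) _ e'' he'').1, ?_⟩
    haveI : _root_.IsReduced ((f'.fiber (f' (U.ι x''))).presheaf.stalk (f'.asFiber (U.ι x''))) :=
      isReduced_stalk_of_isGeomReducedAt (k := Y'.residueField (f' x')) (f'.fiberToSpecResidueField (f' x')) hred'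
    haveI : _root_.IsReduced (X_quot f' (U.ι x'')) := isReduced_of_injective
      (H8Props.FibreStalk.asFiberStalkEquiv f' (U.ι x'')) (H8Props.FibreStalk.asFiberStalkEquiv f' (U.ι x'')).injective
    haveI : _root_.IsReduced (X_quot g x'') := by
      let ε : X_quot f' (U.ι x'') ≃+* X_quot g x'' := Ideal.quotientEquiv _ _
        (asIso (U.ι.stalkMap x'')).commRingCatIsoToRingEquiv (by
          rw [Scheme.Hom.stalkMap_comp, CommRingCat.hom_comp, ← Ideal.map_map]; rfl)
      exact isReduced_of_injective ε.symm ε.symm.injective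
    haveI : _root_.IsReduced ((g.fiber (g x'')).presheaf.stalk (g.asFiber x'')) := isReduced_of_injective
      (H8Props.FibreStalk.asFiberStalkEquiv g x'').symm (H8Props.FibreStalk.asFiberStalkEquiv g x'').symm.injective
    exact fun p hp => associatedPrimes_subset_minimalPrimes_of_isReduced p hp

end Groth.Agent.H06EGA14.EquidimGeomReduced
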