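import Mathlib.AlgebraicGeometry.Morphisms.UniversallyOpen
import Groth.Agent.H06EGA14.UnivOpen

/-!
# Universal openness spreads along specializations inside a fibre
-/

set_option autoImplicit false
set_option backward.isDefEq.respectTransparency false
universe u

open CategoryTheory CategoryTheory.Limits AlgebraicGeometry TopologicalSpace Topology

namespace Groth.Agent.H06EGA14

/-- Universal openness at a point of a fibre gives it at the specializations in that fibre. -/
theorem isUnivOpenAt_of_specializes {X Y : Scheme.{u}} (f : X ⟶ Y) (ξ x : X) (hξ : ξ ⤳ x)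
    (hf : f ξ = f x) (h : EGA43.IsUnivOpenAt f ξ) : EGA43.IsUnivOpenAt f x := by
  intro Y' g x' hx' U hU
  obtain ⟨O, hOU, hO, hxO⟩ := mem_nhds_iff.mp hU
  set y' := pullback.snd f g x'
  have hgy : g y' = f x := by
    rw [← hx', ← Scheme.Hom.comp_apply, ← pullback.condition, Scheme.Hom.comp_apply]
  -- the fibres over `y'` and over `g y'`
  let P := pullback (pullback.snd f g) (Y'.fromSpecResidueField y')
  have hres : Spec.map (g.residueFieldMap y') ≫ Y.fromSpecResidueField (g y') =
      Y'.fromSpecResidueField y' ≫ g := g.SpecMap_residueFieldMap_fromSpecResidueField y'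
  have hbig := (IsPullback.of_hasPullback (pullback.snd f g) (Y'.fromSpecResidueField y')).paste_horiz
    (IsPullback.of_hasPullback f g)
  rw [← hres] at hbig
  let q : P ⟶ f.fiber (g y') := pullback.lift (pullback.fst _ _ ≫ pullback.fst f g)
    (pullback.snd _ _ ≫ Spec.map (g.residueFieldMap y'))
    (by simpa only [Category.assoc] using hbig.w)
  have hq : IsPullback q (pullback.snd _ _) (f.fiberToSpecResidueField (g y'))
      (Spec.map (g.residueFieldMap y')) :=
    IsPullback.of_right (h₁₂ := f.fiberι (g y'))
      (by rw [show q ≫ f.fiberι (g y') = _ from pullback.lift_fst _ _ _]; exact hbig)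
      (pullback.lift_snd _ _ _) (IsPullback.of_hasPullback _ _)
  haveI : Flat (Spec.map (g.residueFieldMap y')) := by
    rw [HasRingHomProperty.Spec_iff (P := @Flat)]
    exact RingHom.Flat.of_isField (Field.toIsField _) _
  haveI : Flat q := MorphismProperty.of_isPullback hq.flip inferInstance
  obtain ⟨p, hp, -⟩ := Scheme.exists_preimage_of_isPullback
    (IsPullback.of_hasPullback (pullback.snd f g) (Y'.fromSpecResidueField y')) x'
    (IsLocalRing.closedPoint (Y'.residueField y')) (by rw [Scheme.fromSpecResidueField_apply])
  obtain ⟨ξ', hξ'⟩ : ξ ∈ Set.range (f.fiberι (g y')) := by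
    rw [f.range_fiberι]
    exact hf.trans hgy.symm
  have hqp : f.fiberι (g y') (q p) = x := by
    rw [← Scheme.Hom.comp_apply, show q ≫ f.fiberι (g y') = _ from pullback.lift_fst _ _ _,
      Scheme.Hom.comp_apply, hp, hx']
  have hs : ξ' ⤳ q p := by
    rw [← (f.fiberι (g y')).isEmbedding.isInducing.specializes_iff, hξ', hqp]
    exact hξ
  obtain ⟨p', hp', hqp'⟩ := Flat.generalizingMap q hs
  have huO : pullback.fst (pullback.snd f g) (Y'.fromSpecResidueField y') p' ∈ O :=
    (hp'.map (Scheme.Hom.continuous _)).mem_open hO (by rw [hp]; exact hxO)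
  have hufst : pullback.fst f g (pullback.fst (pullback.snd f g) (Y'.fromSpecResidueField y') p') = ξ := by
    rw [← hξ', ← hqp', ← Scheme.Hom.comp_apply, ← Scheme.Hom.comp_apply,
      show q ≫ f.fiberι (g y') = _ from pullback.lift_fst _ _ _]
  have husnd : pullback.snd f g (pullback.fst (pullback.snd f g) (Y'.fromSpecResidueField y') p') = y' := by
    rw [← Scheme.Hom.comp_apply, pullback.condition, Scheme.Hom.comp_apply, Scheme.fromSpecResidueField_apply]
  have := h Y' g _ hufst O (hO.mem_nhds huO)
  rw [husnd] at this
  exact Filter.mem_of_superset this (Set.image_mono hOU)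

end Groth.Agent.H06EGA14
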