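import Groth.Agent.H06EGA14.FiniteBaseChangeLifts
import Groth.Agent.H06EGA14.Chevalley3
import Groth.Agent.H06EGA14.UnivOpen
import Groth.Agent.H7Lim.QuasiFiniteFactor

/-!
# Universal openness from openness after finite base changes (EGA IV 14.4.9)
-/

set_option autoImplicit false
set_option linter.style.haveILetI false
set_option backward.isDefEq.respectTransparency false
set_option maxHeartbeats 1000000
universe u

open CategoryTheory CategoryTheory.Limits AlgebraicGeometry TopologicalSpace Topology TensorProduct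

namespace Groth.Agent.H06EGA14

open H8Props.FieldDim

/-- At a point maximal in its fibre, openness after all finite base changes gives universal openness. -/
theorem isUnivOpenAt_of_open_finite {X Y : Scheme.{u}} [IsNoetherian Y] (f : X ⟶ Y)
    [LocallyOfFiniteType f] (x : X) (hmax : ∀ x' : X, f.base x' = f.base x → x ∈ closure {x'} → x' = x)
    (h : ∀ (Y' : Scheme.{u}) (g : Y' ⟶ Y) [IsFinite g], ∀ x' : ↥(pullback f g),
      (pullback.fst f g).base x' = x → EGA43.IsOpenAt (pullback.snd f g).base x') :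
    EGA43.IsUnivOpenAt f x := by
  obtain ⟨(W : Y.Opens), (hW : IsAffineOpen W), hxW, -⟩ := Opens.isBasis_iff_nbhd.mp Y.isBasis_affineOpens
    (show f x ∈ (⊤ : Y.Opens) from trivial)
  obtain ⟨(V : X.Opens), (hV : IsAffineOpen V), hxV, hVW⟩ := Opens.isBasis_iff_nbhd.mp X.isBasis_affineOpens
    (show x ∈ f ⁻¹ᵁ W from hxW)
  obtain ⟨c, rfl⟩ : x ∈ Set.range hV.fromSpec := by rw [hV.range_fromSpec]; exact hxV
  letI := (f.appLE W V hVW).hom.toAlgebra
  haveI : IsNoetherianRing Γ(Y, W) := IsLocallyNoetherian.component_noetherian ⟨W, hW⟩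
  haveI : Algebra.FiniteType Γ(Y, W) Γ(X, V) := f.finiteType_appLE hW hV hVW
  haveI : LocallyOfFinitePresentation f := inferInstance
  let φ := Spec.map (CommRingCat.ofHom (algebraMap Γ(Y, W) Γ(X, V)))
  haveI : LocallyOfFiniteType φ := (HasRingHomProperty.Spec_iff (P := @LocallyOfFiniteType)).mpr
    (RingHom.finiteType_algebraMap.mpr inferInstance)
  have hsq : φ ≫ hW.fromSpec = hV.fromSpec ≫ f := IsAffineOpen.SpecMap_appLE_fromSpec f hW hV hVW
  have hfib : ∀ q' : Spec Γ(X, V), φ q' = φ c → q' ⤳ c → q' = c := by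
    intro q' he hs
    apply hV.fromSpec.isEmbedding.injective
    refine hmax _ ?_ (specializes_iff_mem_closure.mp (hs.map hV.fromSpec.continuous))
    show f (hV.fromSpec q') = f (hV.fromSpec c)
    rw [← Scheme.Hom.comp_apply, ← Scheme.Hom.comp_apply, ← hsq, Scheme.Hom.comp_apply, Scheme.Hom.comp_apply]
    exact congrArg _ he
  obtain ⟨n, hn, -⟩ := H06Equidim.exists_trdeg_asFiber φ c
  have hdim : FlatMor.fibreDimAt φ c = (n : WithBot ℕ∞) := (cdim_asFiber_eq_fibreDimAt_of_fibre φ c hfib).symm.trans hn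
  obtain ⟨σ, _, γ, hσ, hqf⟩ := exists_quasiFiniteAt_map c n hdim.le
  haveI : c.asIdeal.IsPrime := c.2
  refine isUnivOpenAt_of_geomLifts f hW hV hVW c ?_
  refine geomLifts_of_open_finite γ c.asIdeal (quasiFiniteAt_of_specMap _ c hqf) ?_ ?_ ?_
  · show _ ≤ FlatMor.fibreDimAt φ c
    rw [hdim]
    exact_mod_cast hσ
  · intro Q hQ hQc he
    exact congrArg PrimeSpectrum.asIdeal
      (hfib ⟨Q, hQ⟩ (PrimeSpectrum.ext he) ((PrimeSpectrum.le_iff_specializes ⟨Q, hQ⟩ c).mp hQc))
  · intro B _ _ _ _ xB _ hxB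
    let ψ := Spec.map (CommRingCat.ofHom (algebraMap Γ(Y, W) B))
    haveI : IsFinite ψ := (IsFinite.SpecMap_iff _).mpr (RingHom.finite_algebraMap.mpr inferInstance)
    obtain ⟨T, k, π, hk, -, hπ, hkπ⟩ := H7Lim.exists_openImmersion_finite (ψ ≫ hW.fromSpec)
    haveI := hk
    haveI := hπ
    let iR := (Algebra.TensorProduct.includeRight (R := Γ(Y, W)) (A := B) (B := Γ(X, V))).toRingHom
    let sB := Spec.map (CommRingCat.ofHom (algebraMap B (B ⊗[Γ(Y, W)] Γ(X, V))))
    have sq : IsPullback (Spec.map (CommRingCat.ofHom iR)) sB φ ψ :=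
      (isPullback_SpecMap_of_isPushout _ _ _ _ (CommRingCat.isPushout_tensorProduct Γ(Y, W) B Γ(X, V))).flip
    let j := sq.isoPullback.hom ≫ pullback.map φ ψ f π hV.fromSpec k hW.fromSpec hsq hkπ.symm
    have hj1 : j ≫ pullback.fst f π = Spec.map (CommRingCat.ofHom iR) ≫ hV.fromSpec := by
      simp only [j, Category.assoc, pullback.lift_fst, sq.isoPullback_hom_fst_assoc]
    have hj2 : j ≫ pullback.snd f π = sB ≫ k := by
      simp only [j, Category.assoc, pullback.lift_snd, sq.isoPullback_hom_snd_assoc]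
    let x₀ : Spec (CommRingCat.of (B ⊗[Γ(Y, W)] Γ(X, V))) := ⟨xB, inferInstance⟩
    have h1 : pullback.fst f π (j x₀) = hV.fromSpec c := by
      rw [← Scheme.Hom.comp_apply, hj1, Scheme.Hom.comp_apply]
      exact congrArg hV.fromSpec (PrimeSpectrum.ext hxB.symm)
    have hop : EGA43.IsOpenAt (⇑j) x₀ := fun U hU => j.isOpenEmbedding.isOpenMap.image_mem_nhds hU
    have h2 := isOpenAt_comp hop (h T π (j x₀) h1)
    intro U hU
    have h3 := h2 U hU
    have he : ⇑(pullback.snd f π) ∘ ⇑j = ⇑k ∘ ⇑sB := by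
      funext a
      rw [Function.comp_apply, Function.comp_apply, ← Scheme.Hom.comp_apply, hj2, Scheme.Hom.comp_apply]
    rw [he, Set.image_comp, Function.comp_apply] at h3
    have h4 := k.continuous.continuousAt.preimage_mem_nhds h3
    rwa [k.isOpenEmbedding.injective.preimage_image] at h4

end Groth.Agent.H06EGA14
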