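import Groth.Agent.H06EGA14.FiniteBaseChangeAlgebra

/-!
# Lifting of geometric points from openness after finite base changes (EGA IV 14.4.9): lifts
-/

set_option autoImplicit false
set_option linter.style.haveILetI false
set_option backward.isDefEq.respectTransparency false
set_option maxHeartbeats 1000000
universe u

open CategoryTheory AlgebraicGeometry TensorProduct

namespace Groth.Agent.H06EGA14

variable {A₀ C : Type u} [CommRing A₀] [CommRing C] [Algebra A₀ C]

section Fractions

variable (q : Ideal A₀) [q.IsPrime]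

/-- Every element of the fraction field of `A₀ ⧸ q` is a fraction of elements of `A₀`. -/
theorem exists_mul_eq_algebraMap (x : FractionRing (A₀ ⧸ q)) :
    ∃ a b : A₀, b ∉ q ∧ algebraMap A₀ (FractionRing (A₀ ⧸ q)) b * x = algebraMap A₀ _ a := by
  obtain ⟨⟨a, s⟩, h⟩ := IsLocalization.surj (nonZeroDivisors (A₀ ⧸ q)) x
  obtain ⟨a', ha'⟩ := Ideal.Quotient.mk_surjective a
  obtain ⟨b', hb'⟩ := Ideal.Quotient.mk_surjective s.1
  refine ⟨a', b', fun hb => nonZeroDivisors.ne_zero s.2 (hb'.symm.trans (Ideal.Quotient.eq_zero_iff_mem.mpr hb)), ?_⟩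
  rw [IsScalarTower.algebraMap_apply A₀ (A₀ ⧸ q) _ b', IsScalarTower.algebraMap_apply A₀ (A₀ ⧸ q) _ a',
    Ideal.Quotient.algebraMap_eq, ha', hb', mul_comm]
  exact h

/-- The fraction field of `A₀ ⧸ q` maps to every field over `A₀` whose structure map has kernel `q`. -/
theorem exists_algHom_fractionRing (L : Type u) [Field L] [Algebra A₀ L]
    (h : RingHom.ker (algebraMap A₀ L) = q) : Nonempty (FractionRing (A₀ ⧸ q) →ₐ[A₀] L) := by
  let g : A₀ ⧸ q →+* L := Ideal.Quotient.lift q (algebraMap A₀ L) fun a ha => h.ge ha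
  have hg : Function.Injective g := by
    rw [injective_iff_map_eq_zero]
    intro z hz
    obtain ⟨a, rfl⟩ := Ideal.Quotient.mk_surjective z
    exact Ideal.Quotient.eq_zero_iff_mem.mpr (h.le hz)
  exact ⟨{ IsFractionRing.lift (K := FractionRing (A₀ ⧸ q)) hg with
    commutes' := fun a => by
      show IsFractionRing.lift hg (algebraMap A₀ (FractionRing (A₀ ⧸ q)) a) = _
      rw [IsScalarTower.algebraMap_apply A₀ (A₀ ⧸ q) _ a, IsFractionRing.lift_algebraMap]
      rfl }⟩

/-- Maps out of a ring of fractions of `A₀ ⧸ q` are determined by the map from `A₀`. -/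
theorem algHom_ext_of_fraction {B : Type u} [CommRing B] [Algebra A₀ B]
    (i : B →ₐ[A₀] FractionRing (A₀ ⧸ q)) (hi : Function.Injective i)
    {L : Type u} [Field L] [Algebra A₀ L] (hL : RingHom.ker (algebraMap A₀ L) = q)
    (g₁ g₂ : B →ₐ[A₀] L) : g₁ = g₂ := by
  refine AlgHom.ext fun y => ?_
  obtain ⟨a, b, hb, h⟩ := exists_mul_eq_algebraMap q (i y)
  have hy : algebraMap A₀ B b * y = algebraMap A₀ B a :=
    hi (by rw [map_mul, i.commutes, i.commutes, h])
  have h1 := congrArg g₁ hy
  have h2 := congrArg g₂ hy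
  rw [map_mul, g₁.commutes, g₁.commutes] at h1
  rw [map_mul, g₂.commutes, g₂.commutes] at h2
  exact mul_left_cancel₀ (fun h0 => hb (hL.le h0)) (h1.trans h2.symm)

end Fractions

/-- Finitely many tensors come from a finite subalgebra of an integral algebra. -/
theorem exists_finite_subalgebra {A' : Type u} [CommRing A'] [Algebra A₀ A'] [Algebra.IsIntegral A₀ A']
    (s : Finset (A' ⊗[A₀] C)) :
    ∃ B : Subalgebra A₀ A', Module.Finite A₀ B ∧
      ∀ x ∈ s, x ∈ Set.range (Algebra.TensorProduct.map B.val (AlgHom.id A₀ C)) := by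
  classical
  choose S hS using fun x : A' ⊗[A₀] C => TensorProduct.exists_finset x
  let gens := s.biUnion fun x => (S x).image Prod.fst
  refine ⟨Algebra.adjoin A₀ (gens : Set A'), Module.Finite.iff_fg.mpr
    (fg_adjoin_of_finite gens.finite_toSet fun z _ => Algebra.IsIntegral.isIntegral z), fun x hx => ?_⟩
  refine ⟨∑ i ∈ (S x).attach, (⟨i.1.1, Algebra.subset_adjoin
    (Finset.mem_biUnion.mpr ⟨x, hx, Finset.mem_image.mpr ⟨i.1, i.2, rfl⟩⟩)⟩ :
      Algebra.adjoin A₀ (gens : Set A')) ⊗ₜ[A₀] i.1.2, ?_⟩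
  rw [map_sum]
  exact (Finset.sum_attach (S x) fun i => i.1 ⊗ₜ[A₀] i.2).trans (hS x).symm

/-- A prime dominating the generic point of the affine space after normalising the base. -/
theorem exists_generization_normalization [IsNoetherianRing A₀] [Algebra.FiniteType A₀ C]
    {σ : Type u} [Fintype σ]
    (γ : MvPolynomial σ A₀ →ₐ[A₀] C) (c : Ideal C) [c.IsPrime]
    (hqf : letI := γ.toRingHom.toAlgebra; Algebra.QuasiFiniteAt (MvPolynomial σ A₀) c)
    (hσ : ((Fintype.card σ : ℕ) : WithBot ℕ∞) ≤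
      FlatMor.fibreDimAt (Spec.map (CommRingCat.ofHom (algebraMap A₀ C))) ⟨c, inferInstance⟩)
    (hmax : ∀ Q : Ideal C, Q.IsPrime → Q ≤ c → Q.comap (algebraMap A₀ C) = c.comap (algebraMap A₀ C) → Q = c)
    (hopen : ∀ (B : Type u) [CommRing B] [IsDomain B] [Algebra A₀ B] [Module.Finite A₀ B]
      (xB : Ideal (B ⊗[A₀] C)) [xB.IsPrime],
      c = xB.comap (Algebra.TensorProduct.includeRight (R := A₀) (A := B) (B := C)).toRingHom →
      EGA43.IsOpenAt (Spec.map (CommRingCat.ofHom (algebraMap B (B ⊗[A₀] C)))).base ⟨xB, inferInstance⟩)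
    (q : Ideal A₀) [q.IsPrime]
    {A' : Type u} [CommRing A'] [IsDomain A'] [Algebra A₀ A'] [Algebra.IsIntegral A₀ A']
    (i : A' →ₐ[A₀] FractionRing (A₀ ⧸ q)) (hi : Function.Injective i)
    (x' : Ideal (A' ⊗[A₀] C)) [x'.IsPrime]
    (hx' : c = x'.comap (Algebra.TensorProduct.includeRight (R := A₀) (A := A') (B := C)).toRingHom) :
    ∃ η : Ideal (A' ⊗[A₀] C), η.IsPrime ∧ η ≤ x' ∧ η.comap (baseChangePoly A' γ).toRingHom = ⊥ := by
  classical
  let K := FractionRing (A₀ ⧸ q)
  let Q0 : Ideal (MvPolynomial σ A₀) := RingHom.ker (MvPolynomial.map (algebraMap A₀ K))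
  haveI : Q0.IsPrime := RingHom.ker_isPrime _
  let cands : Set (Ideal C) := {P | P.IsPrime ∧ P ≤ c ∧ P.comap γ.toRingHom = Q0}
  have hQ0 : ∀ a : A₀, MvPolynomial.C a ∈ Q0 ↔ a ∈ q := fun a => by
    rw [RingHom.mem_ker, MvPolynomial.map_C, MvPolynomial.C_eq_zero,
      IsScalarTower.algebraMap_apply A₀ (A₀ ⧸ q) K, map_eq_zero_iff _ (IsFractionRing.injective _ K),
      Ideal.Quotient.algebraMap_eq, Ideal.Quotient.eq_zero_iff_mem]
  -- the primes of `C` which can carry the generization are finite in number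
  have hfin : cands.Finite := by
    letI := γ.toRingHom.toAlgebra
    haveI : Algebra.QuasiFinite (MvPolynomial σ A₀) (Localization.AtPrime c) := hqf
    refine ((Algebra.QuasiFinite.finite_primesOver (S := Localization.AtPrime c) Q0).image
      (Ideal.comap (algebraMap C (Localization.AtPrime c)))).subset ?_
    rintro P ⟨hP, hPc, hPQ⟩
    have hd : Disjoint (c.primeCompl : Set C) (P : Set C) :=
      Set.disjoint_left.mpr fun a ha haP => ha (hPc haP)
    have hprime := IsLocalization.isPrime_of_isPrime_disjoint c.primeCompl (Localization.AtPrime c) P hP hd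
    have hcomap := IsLocalization.under_map_of_isPrime_disjoint c.primeCompl (Localization.AtPrime c) hP hd
    refine ⟨P.map (algebraMap C (Localization.AtPrime c)), ⟨hprime, ⟨?_⟩⟩, hcomap⟩
    rw [← hPQ]
    show P.comap γ.toRingHom = Ideal.comap (algebraMap (MvPolynomial σ A₀) (Localization.AtPrime c)) _
    rw [IsScalarTower.algebraMap_eq (MvPolynomial σ A₀) C (Localization.AtPrime c), ← Ideal.comap_comap]
    exact congrArg (Ideal.comap γ.toRingHom) hcomap.symm
  -- every such prime has a unique point over the normalisation, dominating the affine space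
  have hker : ∀ (P : Ideal C) [P.IsPrime], P.comap γ.toRingHom = Q0 →
      RingHom.ker (algebraMap A₀ P.ResidueField) = q := by
    intro P _ hPQ
    ext a
    rw [RingHom.mem_ker, IsScalarTower.algebraMap_apply A₀ C P.ResidueField,
      Ideal.algebraMap_residueField_eq_zero, ← γ.commutes, ← hQ0 a, ← hPQ]
    rfl
  by_contra hcontra
  push Not at hcontra
  have key : ∀ P ∈ cands, ∃ t : A' ⊗[A₀] C, t ∉ x' ∧
      ∀ (L : Type u) [Field L] [Algebra A₀ L] (e : A' ⊗[A₀] C →ₐ[A₀] L),
        (RingHom.ker e).comap (Algebra.TensorProduct.includeRight (R := A₀) (A := A') (B := C)).toRingHom = P →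
          e t = 0 := by
    rintro P ⟨hP, hPc, hPQ⟩
    haveI := hP
    obtain ⟨ι⟩ := exists_algHom_fractionRing q P.ResidueField (hker P hPQ)
    let ρ : C →ₐ[A₀] P.ResidueField := IsScalarTower.toAlgHom A₀ C _
    let eP : A' ⊗[A₀] C →ₐ[A₀] P.ResidueField :=
      Algebra.TensorProduct.lift (ι.comp i) ρ fun _ _ => .all _ _
    have hev : ∀ f : MvPolynomial σ A', eP (baseChangePoly A' γ f) = 0 → f = 0 := by
      intro f hf
      have hclear : ∃ b, b ∉ q ∧ ∃ g : MvPolynomial σ A₀,
          MvPolynomial.map (algebraMap A₀ A') g = MvPolynomial.C (algebraMap A₀ A' b) * f := by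
        clear hf
        induction f using MvPolynomial.induction_on' with
        | monomial m x =>
          obtain ⟨a, b, hb, h⟩ := exists_mul_eq_algebraMap q (i x)
          refine ⟨b, hb, MvPolynomial.monomial m a, ?_⟩
          rw [MvPolynomial.map_monomial, MvPolynomial.C_mul_monomial]
          exact congrArg _ (hi (by rw [map_mul, i.commutes, i.commutes, h]))
        | add f₁ f₂ h₁ h₂ =>
          obtain ⟨b₁, hb₁, g₁, hg₁⟩ := h₁
          obtain ⟨b₂, hb₂, g₂, hg₂⟩ := h₂
          refine ⟨b₁ * b₂, ‹q.IsPrime›.mul_notMem hb₁ hb₂, MvPolynomial.C b₂ * g₁ + MvPolynomial.C b₁ * g₂, ?_⟩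
          simp only [map_add, map_mul, MvPolynomial.map_C, hg₁, hg₂]
          ring
      obtain ⟨b, hb, g, hg⟩ := hclear
      have h0 : eP (baseChangePoly A' γ (MvPolynomial.map (algebraMap A₀ A') g)) = 0 := by
        rw [hg, map_mul, map_mul, hf, mul_zero]
      rw [baseChangePoly_map, Algebra.TensorProduct.lift_tmul, map_one, one_mul] at h0
      have hγg : γ g ∈ P := Ideal.algebraMap_residueField_eq_zero.mp h0
      have hgQ : g ∈ Q0 := hPQ.le hγg
      have hK : MvPolynomial.map (algebraMap A₀ A') g = 0 := by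
        refine MvPolynomial.map_injective i.toRingHom hi ?_
        rw [map_zero, MvPolynomial.map_map, show i.toRingHom.comp (algebraMap A₀ A') = algebraMap A₀ K from i.comp_algebraMap]
        exact hgQ
      rw [hK] at hg
      refine (mul_eq_zero.mp hg.symm).resolve_left fun hC => hb ?_
      rw [MvPolynomial.C_eq_zero] at hC
      have hbK : algebraMap A₀ K b = 0 := by rw [← i.commutes, hC, map_zero]
      rw [← hQ0 b, RingHom.mem_ker, MvPolynomial.map_C, hbK, map_zero]
    have hnle : ¬ RingHom.ker eP ≤ x' := fun hle => by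
      refine hcontra (RingHom.ker eP) (RingHom.ker_isPrime _) hle ?_
      exact le_bot_iff.mp fun f hf => Ideal.mem_bot.mpr (hev f hf)
    obtain ⟨t, hte, htx⟩ := SetLike.not_le_iff_exists.mp hnle
    refine ⟨t, htx, fun L _ _ e he => ?_⟩
    have hρ : ∀ x, x ∈ P → e ((1 : A') ⊗ₜ[A₀] x) = 0 := fun x hx => he.ge hx
    let j : P.ResidueField →ₐ[A₀] L := Ideal.ResidueField.liftₐ P
      (e.comp Algebra.TensorProduct.includeRight) (fun x hx => hρ x hx)
      (fun x hx => IsUnit.mk0 _ fun h0 => hx (he.le h0))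
    have hje : e = j.comp eP := by
      refine Algebra.TensorProduct.ext ?_ ?_
      · refine algHom_ext_of_fraction q i hi ?_ _ _
        rw [← j.comp_algebraMap, ← hker P hPQ]
        exact RingHom.ker_comp_of_injective _ j.toRingHom.injective
      · refine AlgHom.ext fun x => ?_
        show e ((1 : A') ⊗ₜ[A₀] x) = j (eP ((1 : A') ⊗ₜ[A₀] x))
        rw [Algebra.TensorProduct.lift_tmul, map_one, one_mul]
        exact (Ideal.ResidueField.liftₐ_algebraMap (R := A₀) P (e.comp Algebra.TensorProduct.includeRight) _ _ x).symm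
    rw [hje, AlgHom.comp_apply, RingHom.mem_ker.mp hte, map_zero]
  choose! t ht using key
  obtain ⟨B, hB, hBt⟩ := exists_finite_subalgebra (hfin.toFinset.image t)
  haveI := hB
  let iB := Algebra.TensorProduct.map B.val (AlgHom.id A₀ C)
  let xB : Ideal (B ⊗[A₀] C) := x'.comap iB.toRingHom
  haveI : xB.IsPrime := Ideal.IsPrime.comap _
  have hxB : c = xB.comap (Algebra.TensorProduct.includeRight (R := A₀) (A := B) (B := C)).toRingHom := by
    rw [hx', Ideal.comap_comap]
    congr 1
  obtain ⟨η, hη, hηx, hη0⟩ :=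
    exists_generization_stage γ c hqf hσ hmax B xB hxB (hopen B xB hxB)
  let P : Ideal C := η.comap (Algebra.TensorProduct.includeRight (R := A₀) (A := B) (B := C)).toRingHom
  have hPQ : P.comap γ.toRingHom = Q0 := by
    ext g
    have hinj : Function.Injective
        (MvPolynomial.map (σ := σ) (i.comp B.val).toRingHom) :=
      MvPolynomial.map_injective _ (hi.comp Subtype.val_injective)
    have h1 : (1 : B) ⊗ₜ[A₀] γ g ∈ η ↔ MvPolynomial.map (algebraMap A₀ B) g = 0 := by
      rw [← baseChangePoly_map, ← Ideal.mem_bot (R := MvPolynomial σ B), ← hη0]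
      rfl
    refine h1.trans ?_
    rw [RingHom.mem_ker, ← map_eq_zero_iff _ hinj, MvPolynomial.map_map,
      show (i.comp B.val).toRingHom.comp (algebraMap A₀ B) = algebraMap A₀ K from (i.comp B.val).comp_algebraMap]
  have hP : P ∈ cands := ⟨Ideal.IsPrime.comap _, hxB ▸ Ideal.comap_mono hηx, hPQ⟩
  haveI : P.IsPrime := hP.1
  have hL : RingHom.ker (algebraMap A₀ η.ResidueField) = q := by
    ext a
    rw [RingHom.mem_ker, IsScalarTower.algebraMap_apply A₀ (B ⊗[A₀] C) η.ResidueField,
      Ideal.algebraMap_residueField_eq_zero,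
      ← (Algebra.TensorProduct.includeRight (R := A₀) (A := B) (B := C)).commutes, ← γ.commutes,
      ← hQ0 a, ← hPQ]
    rfl
  obtain ⟨ι⟩ := exists_algHom_fractionRing q η.ResidueField hL
  let qB : B ⊗[A₀] C →ₐ[A₀] η.ResidueField := IsScalarTower.toAlgHom A₀ _ _
  let e : A' ⊗[A₀] C →ₐ[A₀] η.ResidueField := Algebra.TensorProduct.lift (ι.comp i)
    (qB.comp Algebra.TensorProduct.includeRight) fun _ _ => .all _ _
  have hcomp : e.comp iB = qB := by
    refine Algebra.TensorProduct.ext ?_ ?_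
    · exact algHom_ext_of_fraction q (i.comp B.val)
        (hi.comp Subtype.val_injective) hL _ _
    · refine AlgHom.ext fun x => ?_
      show e (((1 : B) : A') ⊗ₜ[A₀] x) = qB ((1 : B) ⊗ₜ[A₀] x)
      rw [Algebra.TensorProduct.lift_tmul, OneMemClass.coe_one, map_one, one_mul]
      rfl
  obtain ⟨htx, htz⟩ := ht P hP
  have hte : e (t P) = 0 := by
    refine htz η.ResidueField e ?_
    ext x
    show e ((1 : A') ⊗ₜ[A₀] x) = 0 ↔ x ∈ P
    rw [Algebra.TensorProduct.lift_tmul, map_one, one_mul]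
    exact Ideal.algebraMap_residueField_eq_zero
  obtain ⟨t₀, ht₀⟩ := hBt (t P) (Finset.mem_image.mpr ⟨P, hfin.mem_toFinset.mpr hP, rfl⟩)
  rw [← ht₀, ← AlgHom.comp_apply, hcomp] at hte
  exact htx (ht₀ ▸ hηx (Ideal.algebraMap_residueField_eq_zero.mp hte))

/-- Lifts through a normal integral extension of the base. -/
theorem exists_lift_of_normalization [IsNoetherianRing A₀] [Algebra.FiniteType A₀ C]
    {σ : Type u} [Fintype σ]
    (γ : MvPolynomial σ A₀ →ₐ[A₀] C) (c : Ideal C) [c.IsPrime]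
    (hqf : letI := γ.toRingHom.toAlgebra; Algebra.QuasiFiniteAt (MvPolynomial σ A₀) c)
    (hσ : ((Fintype.card σ : ℕ) : WithBot ℕ∞) ≤
      FlatMor.fibreDimAt (Spec.map (CommRingCat.ofHom (algebraMap A₀ C))) ⟨c, inferInstance⟩)
    (hmax : ∀ Q : Ideal C, Q.IsPrime → Q ≤ c → Q.comap (algebraMap A₀ C) = c.comap (algebraMap A₀ C) → Q = c)
    (hopen : ∀ (B : Type u) [CommRing B] [IsDomain B] [Algebra A₀ B] [Module.Finite A₀ B]
      (xB : Ideal (B ⊗[A₀] C)) [xB.IsPrime],
      c = xB.comap (Algebra.TensorProduct.includeRight (R := A₀) (A := B) (B := C)).toRingHom →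
      EGA43.IsOpenAt (Spec.map (CommRingCat.ofHom (algebraMap B (B ⊗[A₀] C)))).base ⟨xB, inferInstance⟩)
    (q : Ideal A₀) [q.IsPrime]
    {A' : Type u} [CommRing A'] [IsDomain A'] [IsIntegrallyClosed A'] [Algebra A₀ A'] [Algebra.IsIntegral A₀ A']
    (i : A' →ₐ[A₀] FractionRing (A₀ ⧸ q)) (hi : Function.Injective i)
    {E : Type u} [Field E] [IsAlgClosed E] (V : ValuationSubring E) [Algebra A₀ V] (α' : A' →ₐ[A₀] V)
    (θ : C →ₐ[A₀] IsLocalRing.ResidueField V) (hkθ : RingHom.ker θ.toRingHom = c) :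
    ∃ β : C →ₐ[A₀] V, (IsScalarTower.toAlgHom A₀ V (IsLocalRing.ResidueField V)).comp β = θ := by
  let r := IsScalarTower.toAlgHom A₀ V (IsLocalRing.ResidueField V)
  let θ' : A' ⊗[A₀] C →ₐ[A₀] IsLocalRing.ResidueField V :=
    Algebra.TensorProduct.lift (r.comp α') θ fun _ _ => .all _ _
  haveI : (RingHom.ker θ'.toRingHom).IsPrime := RingHom.ker_isPrime _
  have hx' : c = (RingHom.ker θ'.toRingHom).comap
      (Algebra.TensorProduct.includeRight (R := A₀) (A := A') (B := C)).toRingHom := by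
    ext x
    rw [← hkθ]
    show θ x = 0 ↔ θ' ((1 : A') ⊗ₜ[A₀] x) = 0
    rw [Algebra.TensorProduct.lift_tmul, map_one, one_mul]
  obtain ⟨η, hη, hηx, hη0⟩ :=
    exists_generization_normalization γ c hqf hσ hmax hopen q i hi (RingHom.ker θ'.toRingHom) hx'
  haveI := hη
  let p' : Ideal A' := (RingHom.ker θ'.toRingHom).comap (algebraMap A' (A' ⊗[A₀] C))
  haveI : p'.IsPrime := Ideal.IsPrime.comap _
  haveI : IsDomain (Localization.AtPrime p') :=
    IsLocalization.isDomain_localization p'.primeCompl_le_nonZeroDivisors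
  haveI : IsIntegrallyClosed (Localization.AtPrime p') :=
    isIntegrallyClosed_of_isLocalization _ p'.primeCompl p'.primeCompl_le_nonZeroDivisors
  have hmin : η.comap (baseChangePoly A' γ).toRingHom ∈ minimalPrimes (MvPolynomial σ A') := by
    rw [hη0]
    exact ⟨⟨Ideal.isPrime_bot, le_rfl⟩, fun _ _ _ => bot_le⟩
  have hlift := geomLifts_of_quasiFiniteAt (baseChangePoly A' γ) (RingHom.ker θ'.toRingHom) η
    (quasiFiniteAt_baseChangePoly A' γ c hqf _ hx') hηx hmin (isGeomUnibranch_of_isIntegrallyClosed _)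
  obtain ⟨β, hβ, hβθ⟩ := hlift E V α'.toRingHom θ'.toRingHom (RingHom.ext fun a => by
    show θ' (algebraMap A' (A' ⊗[A₀] C) a) = r (α' a)
    rw [Algebra.TensorProduct.algebraMap_apply, Algebra.TensorProduct.lift_tmul, map_one, mul_one]
    rfl) rfl
  refine ⟨{ β.comp (Algebra.TensorProduct.includeRight (R := A₀) (A := A') (B := C)).toRingHom with
    commutes' := fun a => ?_ }, AlgHom.ext fun x => ?_⟩
  · show β (Algebra.TensorProduct.includeRight (algebraMap A₀ C a)) = algebraMap A₀ V a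
    rw [AlgHom.commutes, IsScalarTower.algebraMap_apply A₀ A' (A' ⊗[A₀] C) a, ← RingHom.comp_apply β, hβ]
    exact α'.commutes a
  · show IsLocalRing.residue V (β ((1 : A') ⊗ₜ[A₀] x)) = θ x
    rw [← RingHom.comp_apply _ β, hβθ]
    show θ' ((1 : A') ⊗ₜ[A₀] x) = θ x
    rw [Algebra.TensorProduct.lift_tmul, map_one, one_mul]

/-- Openness after finite base changes gives the lifting of geometric points. -/
theorem geomLifts_of_open_finite [IsNoetherianRing A₀] [Algebra.FiniteType A₀ C]
    {σ : Type u} [Fintype σ]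
    (γ : MvPolynomial σ A₀ →ₐ[A₀] C) (c : Ideal C) [c.IsPrime]
    (hqf : letI := γ.toRingHom.toAlgebra; Algebra.QuasiFiniteAt (MvPolynomial σ A₀) c)
    (hσ : ((Fintype.card σ : ℕ) : WithBot ℕ∞) ≤
      FlatMor.fibreDimAt (Spec.map (CommRingCat.ofHom (algebraMap A₀ C))) ⟨c, inferInstance⟩)
    (hmax : ∀ Q : Ideal C, Q.IsPrime → Q ≤ c → Q.comap (algebraMap A₀ C) = c.comap (algebraMap A₀ C) → Q = c)
    (hopen : ∀ (B : Type u) [CommRing B] [IsDomain B] [Algebra A₀ B] [Module.Finite A₀ B]
      (xB : Ideal (B ⊗[A₀] C)) [xB.IsPrime],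
      c = xB.comap (Algebra.TensorProduct.includeRight (R := A₀) (A := B) (B := C)).toRingHom →
      EGA43.IsOpenAt (Spec.map (CommRingCat.ofHom (algebraMap B (B ⊗[A₀] C)))).base ⟨xB, inferInstance⟩) :
    GeomLifts A₀ c := by
  intro E _ _ V α θ hθ hkθ
  letI : Algebra A₀ V := α.toAlgebra
  letI : Algebra A₀ E := (V.subtype.comp α).toAlgebra
  haveI : IsScalarTower A₀ V E := IsScalarTower.of_algebraMap_eq fun _ => rfl
  set q := RingHom.ker (algebraMap A₀ E) with hqdef
  haveI : q.IsPrime := RingHom.ker_isPrime _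
  set K := FractionRing (A₀ ⧸ q) with hKdef
  set A' := integralClosure A₀ K with hA'def
  obtain ⟨ιE⟩ := exists_algHom_fractionRing q E hqdef.symm
  have hV : ∀ a : A', ιE (a : K) ∈ V := by
    intro a
    have h1 : IsIntegral A₀ (ιE (a : K)) := (mem_integralClosure_iff A₀ K |>.mp a.2).map ιE
    have h2 : IsIntegral V (ιE (a : K)) := h1.tower_top
    obtain ⟨v, hv⟩ := IsIntegrallyClosed.isIntegral_iff.mp h2
    rw [← hv]
    exact v.2
  let α' : A' →ₐ[A₀] V :=
    { toFun := fun a => ⟨ιE (a : K), hV a⟩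
      map_one' := Subtype.ext (by simp)
      map_mul' := fun a b => Subtype.ext (by simp)
      map_zero' := Subtype.ext (by simp)
      map_add' := fun a b => Subtype.ext (by simp)
      commutes' := fun r => Subtype.ext (ιE.commutes r) }
  let θa : C →ₐ[A₀] IsLocalRing.ResidueField V := { θ with commutes' := fun r => RingHom.congr_fun hθ r }
  haveI : IsFractionRing A' K := IsFractionRing.of_field A' K fun z => by
    obtain ⟨a, b, hb, h⟩ := exists_mul_eq_algebraMap q z
    refine ⟨algebraMap A₀ A' a, algebraMap A₀ A' b, ?_⟩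
    have hb' : algebraMap A₀ K b ≠ 0 := by
      rw [IsScalarTower.algebraMap_apply A₀ (A₀ ⧸ q) K, Ne, map_eq_zero_iff _ (IsFractionRing.injective _ K),
        Ideal.Quotient.algebraMap_eq, Ideal.Quotient.eq_zero_iff_mem]
      exact hb
    rw [← IsScalarTower.algebraMap_apply A₀ A' K, ← IsScalarTower.algebraMap_apply A₀ A' K, eq_div_iff hb',
      mul_comm]
    exact h
  haveI : IsIntegrallyClosedIn A' K := inferInstanceAs (IsIntegrallyClosedIn (integralClosure A₀ K) K)
  haveI : IsIntegrallyClosed A' := (isIntegrallyClosed_iff_isIntegrallyClosedIn K).mpr inferInstance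
  obtain ⟨β, hβ⟩ := exists_lift_of_normalization γ c hqf hσ hmax hopen q A'.val Subtype.val_injective V α' θa hkθ
  exact ⟨β.toRingHom, β.comp_algebraMap, RingHom.ext fun x => AlgHom.congr_fun hβ x⟩

end Groth.Agent.H06EGA14
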