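import Groth.Agent.H06EGA14.QuasiSection
import Groth.Agent.H06EGA14.Chevalley
import Groth.Agent.H9Ram.InertiaEtale

/-!
Quasi-finite quasi-sections over complete local bases are finite.
-/

open CategoryTheory CategoryTheory.Limits AlgebraicGeometry TopologicalSpace Topology IsLocalRing

universe u

namespace Groth.Agent.H06EGA14

theorem henselianLocalRing_of_adicComplete (A : Type u) [CommRing A] [IsLocalRing A]
    [IsAdicComplete (maximalIdeal A) A] : HenselianLocalRing A where
  is_henselian f hf a₀ h₁ h₂ := HenselianRing.is_henselian (I := maximalIdeal A) f hf a₀ h₁ (h₂.map _)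

/-- Near a quasi-finite prime over the closed point, a domain over a henselian local ring is finite. -/
theorem exists_away_finite_isLocalRing {A C : Type u} [CommRing A] [HenselianLocalRing A] [CommRing C] [IsDomain C]
    [Algebra A C] [Algebra.FiniteType A C] (q : Ideal C) [q.IsPrime] [Algebra.QuasiFiniteAt A q]
    (hq : q.comap (algebraMap A C) = maximalIdeal A) :
    ∃ r : C, r ∉ q ∧ IsLocalRing (Localization.Away r) ∧ Module.Finite A (Localization.Away r) := by
  obtain ⟨S', hS', r, hrq, hbij⟩ := Algebra.QuasiFiniteAt.exists_fg_and_exists_notMem_and_awayMap_bijective (R := A) q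
  haveI : Module.Finite A S' := ⟨(Submodule.fg_top _).mpr hS'⟩
  haveI : IsLocalRing S' := H9Ram.isLocalRing_of_finite_of_henselian (R := A)
  haveI : Algebra.IsIntegral A S' := Algebra.IsIntegral.of_finite A S'
  have hm : q.comap S'.val.toRingHom = maximalIdeal S' := by
    apply eq_maximalIdeal
    refine Ideal.isMaximal_of_isIntegral_of_isMaximal_comap (R := A) _ ?_
    rw [Ideal.comap_comap, AlgHom.toRingHom_eq_coe, AlgHom.comp_algebraMap, hq]
    exact maximalIdeal.isMaximal A
  have hru : IsUnit r := by
    by_contra h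
    have h1 : r ∈ maximalIdeal S' := h
    rw [← hm] at h1
    exact hrq h1
  let e₁ : S' ≃ₐ[S'] Localization.Away r := IsLocalization.atUnits S' (Submonoid.powers r)
    (by rintro x ⟨n, rfl⟩; exact hru.pow n)
  let φ : S' →ₐ[A] Localization.Away r.1 := (Localization.awayMapₐ S'.val r).comp (IsScalarTower.toAlgHom A S' _)
  have hφ : Function.Bijective φ := hbij.comp e₁.bijective
  let e : S' ≃ₐ[A] Localization.Away r.1 := AlgEquiv.ofBijective φ hφ
  exact ⟨r.1, hrq, e.toRingEquiv.isLocalRing, Module.Finite.equiv e.toLinearEquiv⟩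

set_option backward.isDefEq.respectTransparency false in
/-- A quasi-finite dominant morphism from an integral scheme to a henselian local domain has, near a
point of the closed fibre, a finite local open piece. -/
theorem exists_finite_local_openImmersion {A : Type u} [CommRing A] [IsDomain A] [HenselianLocalRing A]
    {T : Scheme.{u}} [IsIntegral T] (π : T ⟶ Spec (CommRingCat.of A)) [LocallyOfFiniteType π]
    [LocallyQuasiFinite π] [IsDominant π] (t : T) (ht : π t = closedPoint A) :
    ∃ (A' : Type u) (_ : CommRing A') (_ : IsDomain A') (_ : IsLocalRing A') (_ : Algebra A A')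
      (_ : Module.Finite A A'), Function.Injective (algebraMap A A') ∧
      ∃ k : Spec (CommRingCat.of A') ⟶ T, k ≫ π = Spec.map (CommRingCat.ofHom (algebraMap A A')) ∧
        IsOpenImmersion k ∧ t ∈ Set.range k := by
  obtain ⟨(V : T.Opens), (hV : IsAffineOpen V), htV, -⟩ := Opens.isBasis_iff_nbhd.mp T.isBasis_affineOpens
    (show t ∈ (⊤ : T.Opens) from trivial)
  obtain ⟨q, hq⟩ : t ∈ Set.range hV.fromSpec := by rw [hV.range_fromSpec]; exact htV
  let ψ : CommRingCat.of A ⟶ Γ(T, V) := Spec.preimage (hV.fromSpec ≫ π)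
  have hψ : Spec.map ψ = hV.fromSpec ≫ π := Spec.map_preimage _
  letI := ψ.hom.toAlgebra
  haveI : Nonempty V := ⟨⟨t, htV⟩⟩
  haveI : IsDomain Γ(T, V) := inferInstance
  haveI : LocallyOfFiniteType (Spec.map ψ) := hψ ▸ inferInstance
  haveI : LocallyQuasiFinite (Spec.map ψ) := hψ ▸ inferInstance
  haveI : Algebra.FiniteType A Γ(T, V) :=
    RingHom.finiteType_algebraMap.mp ((HasRingHomProperty.Spec_iff (P := @LocallyOfFiniteType) (φ := ψ)).mp inferInstance)
  haveI : q.asIdeal.IsPrime := q.2
  haveI : Algebra.QuasiFiniteAt A q.asIdeal := quasiFiniteAt_of_specMap ψ q ((Spec.map ψ).quasiFiniteAt q)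
  obtain ⟨r, hr, hloc, hfin⟩ := exists_away_finite_isLocalRing (A := A) q.asIdeal (by
    have h1 : Spec.map ψ q = closedPoint A := by rw [hψ, Scheme.Hom.comp_apply, hq, ht]
    exact congrArg PrimeSpectrum.asIdeal h1)
  have hr0 : r ≠ 0 := fun h => hr (h ▸ q.asIdeal.zero_mem)
  haveI : IsDomain (Localization.Away r) := IsLocalization.isDomain_localization
    (powers_le_nonZeroDivisors_of_noZeroDivisors hr0)
  let j := Spec.map (CommRingCat.ofHom (algebraMap Γ(T, V) (Localization.Away r))) ≫ hV.fromSpec
  have hjπ : j ≫ π = Spec.map (CommRingCat.ofHom (algebraMap A (Localization.Away r))) := by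
    rw [Category.assoc, ← hψ, ← Spec.map_comp]
    rfl
  have htj : t ∈ Set.range j := by
    obtain ⟨p, hp⟩ : q ∈ Set.range (PrimeSpectrum.comap (algebraMap Γ(T, V) (Localization.Away r))) := by
      rw [PrimeSpectrum.localization_away_comap_range _ r]; exact hr
    exact ⟨p, (congrArg (fun z => hV.fromSpec z) hp).trans hq⟩
  refine ⟨Localization.Away r, inferInstance, inferInstance, hloc, inferInstance, hfin, ?_, j, hjπ, inferInstance, htj⟩
  haveI : IsDominant j := ⟨j.isOpenEmbedding.isOpen_range.dense ⟨t, htj⟩⟩
  haveI : IsDominant (Spec.map (CommRingCat.ofHom (algebraMap A (Localization.Away r)))) := hjπ ▸ inferInstance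
  have hd : DenseRange (PrimeSpectrum.comap (algebraMap A (Localization.Away r))) :=
    (Spec.map (CommRingCat.ofHom (algebraMap A (Localization.Away r)))).denseRange
  exact (RingHom.injective_iff_ker_eq_bot _).mpr (le_bot_iff.mp (((PrimeSpectrum.denseRange_comap_iff_ker_le_nilRadical _).mp hd).trans
    (nilradical_eq_zero A).le))

end Groth.Agent.H06EGA14
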