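import Groth.Agent.H06EGA9.FibreClosureGeneral
import Groth.Agent.H06EGA9.ProductDim
import Groth.Agent.H7Flat.ValFibre
import Mathlib.AlgebraicGeometry.Morphisms.UniversallyOpen

/-!
# Closures of images of universally open families in the fibres (EGA IV 15.6.x)
-/

set_option autoImplicit false
set_option linter.style.haveILetI false
set_option backward.isDefEq.respectTransparency false
universe u

open CategoryTheory Limits AlgebraicGeometry Topology Set TopologicalSpace

namespace Groth.Agent.H06EGA14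

open Groth.Agent.H8Props.FieldDim Groth.Agent.H06EGA9

theorem flat_Spec_of_dense {R : Type u} [CommRing R] [IsDomain R] [ValuationRing R] {A : CommRingCat.{u}}
    [IsReduced (Spec A)] (φ : CommRingCat.of R ⟶ A)
    (hd : Dense (Spec.map φ ⁻¹' {genericPoint (Spec (CommRingCat.of R))})) : φ.hom.Flat := by
  letI := φ.hom.toAlgebra
  haveI : _root_.IsReduced A := isReduced_of_injective (Scheme.ΓSpecIso A).inv.hom
    (Scheme.ΓSpecIso A).commRingCatIsoToRingEquiv.symm.injective
  rw [genericPoint_eq_bot_of_affine] at hd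
  refine (RingHom.flat_algebraMap_iff (R := R) (S := A)).mpr (Module.Flat.flat_iff_torsion_eq_bot_of_isBezout.mpr ?_)
  rw [eq_bot_iff]
  rintro a ⟨⟨r, hr⟩, hra⟩
  have hr0 : r ≠ 0 := nonZeroDivisors.ne_zero hr
  replace hra : φ.hom r * a = 0 := hra
  refine (Submodule.mem_bot _).mpr (IsReduced.eq_zero a ?_)
  rw [nilpotent_iff_mem_prime]
  intro J hJ
  have : (Spec.map φ ⁻¹' {(⊥ : PrimeSpectrum R)}) ⊆ PrimeSpectrum.zeroLocus {a} := fun q hq => by
    rw [PrimeSpectrum.mem_zeroLocus, Set.singleton_subset_iff]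
    refine (q.isPrime.mem_or_mem (hra ▸ q.asIdeal.zero_mem)).resolve_left fun h => hr0 ?_
    have : r ∈ (Spec.map φ q).asIdeal := h
    rw [show Spec.map φ q = (⊥ : PrimeSpectrum R) from hq] at this
    exact this
  exact Set.singleton_subset_iff.mp (closure_minimal this (PrimeSpectrum.isClosed_zeroLocus _) (hd ⟨J, hJ⟩))

/-- A reduced scheme with dense generic fibre over a valuation ring is flat. -/
theorem flat_of_dense_genericFibre {R : Type u} [CommRing R] [IsDomain R] [ValuationRing R] {W : Scheme.{u}}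
    [IsReduced W] (h : W ⟶ Spec (CommRingCat.of R))
    (hd : Dense (h ⁻¹' {genericPoint (Spec (CommRingCat.of R))})) : Flat h := by
  rw [IsZariskiLocalAtSource.iff_of_openCover (P := @Flat) W.affineCover]
  intro i
  obtain ⟨φ, hφ⟩ : ∃ φ, W.affineCover.f i ≫ h = Spec.map φ := ⟨Spec.preimage _, (Spec.map_preimage _).symm⟩
  haveI : IsReduced (W.affineCover.X i) := isReduced_of_isOpenImmersion (W.affineCover.f i)
  have hd' := hd.preimage (W.affineCover.f i).isOpenEmbedding.isOpenMap
  replace hd' : Dense ((W.affineCover.f i ≫ h) ⁻¹' {genericPoint (Spec (CommRingCat.of R))}) := hd'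
  show Flat (W.affineCover.f i ≫ h)
  rw [hφ] at hd' ⊢
  rw [HasRingHomProperty.Spec_iff (P := @Flat)]
  exact @flat_Spec_of_dense R _ _ _ _ (inferInstanceAs (IsReduced (W.affineCover.X i))) φ hd'

/-- Preimages of closed sets under extensions of the ground field keep their dimension. -/
theorem dim_preimage_baseChange {k K : Type u} [Field k] [Field K] [Algebra k K] {Z Z' : Scheme.{u}}
    {f : Z ⟶ Spec (CommRingCat.of k)} {g : Z' ⟶ Z} {f' : Z' ⟶ Spec (CommRingCat.of K)} [LocallyOfFiniteType f]
    (hc : IsPullback g f' f (Spec.map (CommRingCat.ofHom (algebraMap k K)))) {C : Set Z} (hC : IsClosed C) :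
    topologicalKrullDim ↥(g ⁻¹' C) = topologicalKrullDim ↥C := by
  have hC' := hC.preimage g.continuous
  refine le_antisymm (dim_le_of_forall_cdim_le hC' _ fun z hz => ?_) (dim_le_of_forall_cdim_le hC _ fun z hz => ?_)
  · exact (baseChange_point f g f' hc z).1.trans (dim_mono (closure_minimal (singleton_subset_iff.mpr hz) hC))
  · haveI : Surjective (Spec.map (CommRingCat.ofHom (algebraMap k K))) :=
      ⟨Function.surjective_to_subsingleton (α := PrimeSpectrum K) (β := PrimeSpectrum k) _⟩
    haveI : Surjective g := MorphismProperty.of_isPullback hc.flip ‹_›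
    obtain ⟨v, hv⟩ := g.surjective z
    obtain ⟨v', -, hv', hd⟩ := (baseChange_point f g f' hc v).2 z (hv ▸ specializes_rfl)
    rw [← hd]
    exact dim_mono (closure_minimal (singleton_subset_iff.mpr (show g v' ∈ C from hv' ▸ hz)) hC')

variable {X S : Scheme.{u}} (f : X ⟶ S)

/-- The dimension of the closure of the trace of `Z` in a fibre. -/
noncomputable def zdim (Z : Set X) (t : S) : WithBot ℕ∞ :=
  topologicalKrullDim ↥(f ⁻¹' {t} ∩ closure (Z ∩ f ⁻¹' {t}))

theorem zdim_eq (Z : Set X) (t : S) :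
    zdim f Z t = topologicalKrullDim ↥(f.fiberι t ⁻¹' fibClosure f Z) := by
  rw [zdim, dim_preimage (f.fiberι t).isEmbedding, f.range_fiberι]
  congr 2 <;> ext x <;> simp only [mem_inter_iff, mem_preimage, mem_singleton_iff, fibClosure, mem_setOf_eq] <;>
    exact ⟨fun ⟨h1, h2⟩ => ⟨h1.symm ▸ h2, h1⟩, fun ⟨h1, h2⟩ => ⟨h2, h2 ▸ h1⟩⟩

theorem isClosed_preimage_fibClosure (Z : Set X) (t : S) : IsClosed (f.fiberι t ⁻¹' fibClosure f Z) := by
  have : f.fiberι t ⁻¹' fibClosure f Z = f.fiberι t ⁻¹' closure (Z ∩ f ⁻¹' {t}) := by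
    ext w
    have hw : f (f.fiberι t w) = t := (f.range_fiberι t).le (mem_range_self w)
    simp only [mem_preimage, fibClosure, mem_setOf_eq, hw]
  rw [this]
  exact isClosed_closure.preimage (f.fiberι t).continuous

theorem zdim_baseChange [LocallyOfFiniteType f] {X' S' : Scheme.{u}} {g : S' ⟶ S} {f' : X' ⟶ S'} {g' : X' ⟶ X}
    (hc : IsPullback g' f' f g) (Z : Set X) (t' : S') : zdim f' (g' ⁻¹' Z) t' = zdim f Z (g t') := by
  haveI := locallyOfFiniteType_fiberToSpec f (g t')
  letI := (g.residueFieldMap t').hom.toAlgebra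
  have hb := isPullback_fiberToSpecResidueField_of_isPullback hc t'
  rw [zdim_eq, zdim_eq, ← dim_preimage_baseChange (k := S.residueField (g t')) (K := S'.residueField t')
    (f := f.fiberToSpecResidueField (g t')) hb (isClosed_preimage_fibClosure f Z (g t')),
    fibClosure_baseChange hc Z]
  congr 2 <;> ext w <;>
    simp only [mem_preimage, ← Scheme.Hom.comp_apply, pullback.lift_fst, Scheme.Hom.fiberι] <;> rfl

theorem zdim_le_of_valuation {R : Type u} [CommRing R] [IsDomain R] [ValuationRing R]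
    {X : Scheme.{u}} (f : X ⟶ Spec (CommRingCat.of R)) [LocallyOfFiniteType f] (Z : Set X)
    (hZ : Z ∩ f ⁻¹' {IsLocalRing.closedPoint R} ⊆ closure (Z ∩ f ⁻¹' {genericPoint (Spec (CommRingCat.of R))})) :
    zdim f Z (IsLocalRing.closedPoint R) ≤ zdim f Z (genericPoint (Spec (CommRingCat.of R))) := by
  let η := genericPoint (Spec (CommRingCat.of R))
  let C : TopologicalSpace.Closeds X := ⟨closure (Z ∩ f ⁻¹' {η}), isClosed_closure⟩
  let ι := (Scheme.IdealSheafData.vanishingIdeal C).subschemeι
  have hι : range ι = (C : Set X) := by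
    rw [(Scheme.IdealSheafData.vanishingIdeal C).range_subschemeι, Scheme.IdealSheafData.coe_support_vanishingIdeal]
  haveI : IsReduced (Scheme.IdealSheafData.vanishingIdeal C).subscheme := H17.isReduced_vanishingIdeal_subscheme C
  haveI : Flat (ι ≫ f) := flat_of_dense_genericFibre (ι ≫ f) (by
    intro w
    rw [ι.isClosedEmbedding.isEmbedding.closure_eq_preimage_closure_image]
    refine closure_mono ?_ (hι.le (mem_range_self w))
    rintro z ⟨hz1, hz2⟩
    obtain ⟨v, rfl⟩ := hι.ge (subset_closure ⟨hz1, hz2⟩)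
    exact ⟨v, by rwa [mem_preimage, Scheme.Hom.comp_apply], rfl⟩)
  have key : ∀ t, topologicalKrullDim ((ι ≫ f).fiber t) = topologicalKrullDim ↥((C : Set X) ∩ f ⁻¹' {t}) := fun t => by
    rw [← dim_range (ι.isClosedEmbedding.isEmbedding.comp ((ι ≫ f).fiberι t).isEmbedding), range_comp,
      (ι ≫ f).range_fiberι]
    congr 2 <;>
    · ext z
      constructor
      · rintro ⟨v, hv, rfl⟩
        exact ⟨hι.le (mem_range_self v), by simpa [Scheme.Hom.comp_apply] using hv⟩
      · rintro ⟨hz1, hz2⟩
        obtain ⟨v, rfl⟩ := hι.ge hz1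
        exact ⟨v, by simpa [Scheme.Hom.comp_apply] using hz2, rfl⟩
  have := H7Flat.dim_closed_le_dim_generic (ι ≫ f)
  rw [key, key] at this
  refine (dim_mono ?_).trans (this.trans_eq ?_)
  · rintro x ⟨hx1, hx2⟩
    exact ⟨closure_minimal hZ isClosed_closure hx2, hx1⟩
  · rw [zdim, inter_comm]; rfl

theorem zdim_le_of_universallyOpen [LocallyOfFiniteType f] {ι : Type u} (Y : ι → Scheme.{u}) (g : ∀ i, Y i ⟶ S)
    [∀ i, UniversallyOpen (g i)] (v : ∀ i, Y i ⟶ X) (hv : ∀ i, v i ≫ f = g i) (s s' : S) (hs : s' ⤳ s) :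
    zdim f (⋃ i, range (v i)) s ≤ zdim f (⋃ i, range (v i)) s' := by
  obtain ⟨R, _, _, _, h, h1, h2⟩ := H7Flat.exists_spec_valuationRing hs
  subst h1 h2
  have hc := IsPullback.of_hasPullback f h
  rw [← zdim_baseChange f hc, ← zdim_baseChange f hc]
  refine zdim_le_of_valuation (pullback.snd f h) _ ?_
  rintro z ⟨hz, hzc⟩
  obtain ⟨i, y, hy⟩ := mem_iUnion.mp hz
  obtain ⟨w, hw1, hw2⟩ := Scheme.Pullback.exists_preimage_pullback y (pullback.snd f h z) (f := g i) (g := h)
    (by rw [← hv i, Scheme.Hom.comp_apply, hy, ← Scheme.Hom.comp_apply, pullback.condition, Scheme.Hom.comp_apply])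
  let u : pullback (g i) h ⟶ pullback f h :=
    pullback.map _ _ _ _ (v i) (𝟙 _) (𝟙 _) (by rw [Category.comp_id, hv]) (by simp)
  -- `z` is the image of a point of the base change of `Y i`
  obtain ⟨w', rfl⟩ : ∃ w', u w' = z := by
    have hsq : IsPullback (pullback.fst (g i) h) u (v i) (pullback.fst f h) := by
      refine IsPullback.of_bot ?_ (by simp [u]) (IsPullback.of_hasPullback f h)
      have e1 : u ≫ pullback.snd f h = pullback.snd (g i) h := by simp [u]
      rw [e1, hv]
      exact (IsPullback.of_hasPullback (g i) h)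
    obtain ⟨w', -, hw'⟩ := Scheme.Pullback.exists_preimage_pullback y z (f := v i) (g := pullback.fst f h) hy
    exact ⟨hsq.isoPullback.inv w', by rw [← Scheme.Hom.comp_apply, hsq.isoPullback_inv_snd]; exact hw'⟩
  haveI : UniversallyOpen (pullback.snd (g i) h) := MorphismProperty.pullback_snd (g i) h inferInstance
  have hO : IsOpenMap (pullback.snd (g i) h) := (pullback.snd (g i) h).isOpenMap
  rw [mem_closure_iff]
  intro U hU hzU
  have hV : IsOpen (pullback.snd (g i) h '' (u ⁻¹' U)) := hO _ (hU.preimage u.continuous)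
  have hgen : genericPoint (Spec (CommRingCat.of R)) ∈ pullback.snd (g i) h '' (u ⁻¹' U) :=
    (genericPoint_specializes (pullback.snd (g i) h w')).mem_open hV ⟨w', hzU, rfl⟩
  obtain ⟨a, ha, hag⟩ := hgen
  refine ⟨u a, ha, mem_iUnion.mpr ⟨i, pullback.fst (g i) h a, ?_⟩, ?_⟩
  · simp only [← Scheme.Hom.comp_apply, u, pullback.lift_fst]
  · simp only [mem_preimage, mem_singleton_iff, ← Scheme.Hom.comp_apply, u, pullback.lift_snd, Category.comp_id]
    exact hag

end Groth.Agent.H06EGA14
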