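import Groth.Agent.H06EGA14.CatenaryFormula
import Groth.Agent.H06EGA14.FibreDims
import Groth.Agent.H05EGA4.Equidim
import Groth.Agent.H17.Dim
import Groth.Agent.H25SmVar.Basic

/-!
Dimension of schemes locally of finite type over equidimensional universally catenary Jacobson bases.
-/

open CategoryTheory CategoryTheory.Limits AlgebraicGeometry TopologicalSpace Topology

universe u

namespace Groth.Agent.H06EGA14

open Groth.Agent.H8Props.FieldDim Groth.Agent.H06Equidim

variable {X S : Scheme.{u}}

/-- The spectrum of the quotient of a local ring, as a subspace of the scheme. -/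
noncomputable def quotientStalkMap (b : S) (p : Ideal (S.presheaf.stalk b)) :
    PrimeSpectrum (S.presheaf.stalk b ⧸ p) → S :=
  fun u => S.fromSpecStalk b (PrimeSpectrum.comap (Ideal.Quotient.mk p) u)

theorem isEmbedding_quotientStalkMap (b : S) (p : Ideal (S.presheaf.stalk b)) :
    IsEmbedding (quotientStalkMap b p) :=
  (S.fromSpecStalk b).isEmbedding.comp
    (PrimeSpectrum.isClosedEmbedding_comap_of_surjective _ _ Ideal.Quotient.mk_surjective).isEmbedding

theorem range_quotientStalkMap (a b : S) (p : PrimeSpectrum (S.presheaf.stalk b))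
    (hp : S.fromSpecStalk b p = a) :
    Set.range (quotientStalkMap b p.asIdeal) = {t | a ⤳ t ∧ t ⤳ b} := by
  ext t
  constructor
  · rintro ⟨u, rfl⟩
    refine ⟨hp ▸ ((PrimeSpectrum.le_iff_specializes p _).mp ?_).map (S.fromSpecStalk b).continuous, ?_⟩
    · intro x hx
      show Ideal.Quotient.mk p.asIdeal x ∈ u.asIdeal
      rw [Ideal.Quotient.eq_zero_iff_mem.mpr hx]; exact u.asIdeal.zero_mem
    · have : quotientStalkMap b p.asIdeal u ∈ Set.range (S.fromSpecStalk b) := ⟨_, rfl⟩
      rwa [Scheme.range_fromSpecStalk] at this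
  · rintro ⟨hat, htb⟩
    obtain ⟨r, rfl⟩ : t ∈ Set.range (S.fromSpecStalk b) := by rw [Scheme.range_fromSpecStalk]; exact htb
    have hle : p ≤ r := (PrimeSpectrum.le_iff_specializes p r).mpr
      ((S.fromSpecStalk b).isEmbedding.isInducing.specializes_iff.mp (hp ▸ hat))
    have hr : r ∈ Set.range (PrimeSpectrum.comap (Ideal.Quotient.mk p.asIdeal)) := by
      rw [range_comap_of_surjective _ _ Ideal.Quotient.mk_surjective, Ideal.mk_ker]
      exact hle
    obtain ⟨u, rfl⟩ := hr
    exact ⟨u, rfl⟩

theorem ringKrullDim_quotient_eq_between (a b : S) (p : PrimeSpectrum (S.presheaf.stalk b))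
    (hp : S.fromSpecStalk b p = a) :
    ringKrullDim (S.presheaf.stalk b ⧸ p.asIdeal) = topologicalKrullDim ↥{t : S | a ⤳ t ∧ t ⤳ b} := by
  rw [← range_quotientStalkMap a b p hp, ← PrimeSpectrum.topologicalKrullDim_eq_ringKrullDim]
  exact IsHomeomorph.topologicalKrullDim_eq _ (isEmbedding_quotientStalkMap b p.asIdeal).toHomeomorph.isHomeomorph

set_option backward.isDefEq.respectTransparency false in
theorem height_eq_between (a b c : S) (p : PrimeSpectrum (S.presheaf.stalk b)) (hp : S.fromSpecStalk b p = a)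
    (u : PrimeSpectrum (S.presheaf.stalk b ⧸ p.asIdeal)) (hu : quotientStalkMap b p.asIdeal u = c) :
    (haveI := u.2; (u.asIdeal.height : WithBot ℕ∞)) = topologicalKrullDim ↥{t : S | a ⤳ t ∧ t ⤳ c} := by
  haveI := u.2
  let R := S.presheaf.stalk b ⧸ p.asIdeal
  let k : PrimeSpectrum (Localization.AtPrime u.asIdeal) → S :=
    quotientStalkMap b p.asIdeal ∘ PrimeSpectrum.comap (algebraMap R (Localization.AtPrime u.asIdeal))
  have hk : IsEmbedding k := (isEmbedding_quotientStalkMap b p.asIdeal).comp
    (PrimeSpectrum.localization_comap_isEmbedding _ u.asIdeal.primeCompl)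
  have hrk : Set.range k = {t : S | a ⤳ t ∧ t ⤳ c} := by
    rw [Set.range_comp, PrimeSpectrum.localization_comap_range _ u.asIdeal.primeCompl]
    ext t
    constructor
    · rintro ⟨v, hv, rfl⟩
      refine ⟨((range_quotientStalkMap a b p hp).subset ⟨v, rfl⟩).1, hu ▸
        ((PrimeSpectrum.le_iff_specializes v u).mp fun x hx => ?_).map (isEmbedding_quotientStalkMap b p.asIdeal).continuous⟩
      by_contra hxu
      exact Set.disjoint_left.mp hv hxu hx
    · rintro ⟨hat, htc⟩
      have hcb := ((range_quotientStalkMap a b p hp).subset ⟨u, hu⟩).2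
      obtain ⟨v, rfl⟩ := (range_quotientStalkMap a b p hp).superset ⟨hat, htc.trans hcb⟩
      refine ⟨v, Set.disjoint_left.mpr fun x hxu hx => hxu ?_, rfl⟩
      exact (PrimeSpectrum.le_iff_specializes v u).mpr
        ((isEmbedding_quotientStalkMap b p.asIdeal).isInducing.specializes_iff.mp (hu.symm ▸ htc)) hx
  rw [← IsLocalization.AtPrime.ringKrullDim_eq_height u.asIdeal (Localization.AtPrime u.asIdeal),
    ← hrk, ← PrimeSpectrum.topologicalKrullDim_eq_ringKrullDim]
  exact IsHomeomorph.topologicalKrullDim_eq _ hk.toHomeomorph.isHomeomorph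

set_option backward.isDefEq.respectTransparency false in
/-- On an equidimensional catenary base the dimension of an irreducible closed subset at a closed
point does not depend on that point. -/
theorem exists_dim_quotient_const [IsLocallyNoetherian S]
    (h2 : ∀ s : S, CAlg.IsUniversallyCatenary (S.presheaf.stalk s))
    (h3 : ∀ S' ∈ irreducibleComponents (S : Type u), ∀ s ∈ S', IsClosed ({s} : Set S) →
      topologicalKrullDim (↥S' : Type u) = topologicalKrullDim ↥{t : S | t ∈ S' ∧ t ⤳ s})
    (σ : S) [JacobsonSpace S] :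
    ∃ D : ℕ, ∀ s : S, σ ⤳ s → IsClosed ({s} : Set S) → ∀ q : PrimeSpectrum (S.presheaf.stalk s),
      S.fromSpecStalk s q = σ → ringKrullDim (S.presheaf.stalk s ⧸ q.asIdeal) = D := by
  obtain ⟨a, ha, hT⟩ := exists_component_generization σ
  obtain ⟨s₀, hs₀, hc₀⟩ := nonempty_inter_closedPoints (Z := closure ({σ} : Set S)) ⟨σ, subset_closure rfl⟩
    isClosed_closure.isLocallyClosed
  have key : ∀ s : S, σ ⤳ s → IsClosed ({s} : Set S) → ∀ q : PrimeSpectrum (S.presheaf.stalk s),
      S.fromSpecStalk s q = σ →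
      topologicalKrullDim ↥{t : S | a ⤳ t ∧ t ⤳ σ} + ringKrullDim (S.presheaf.stalk s ⧸ q.asIdeal) =
        topologicalKrullDim (closure ({a} : Set S)) := by
    intro s hσs hs q hq
    obtain ⟨p, hp⟩ : a ∈ Set.range (S.fromSpecStalk s) := by rw [Scheme.range_fromSpecStalk]; exact ha.trans hσs
    have hN : ringKrullDim (S.presheaf.stalk s ⧸ p.asIdeal) = topologicalKrullDim (closure ({a} : Set S)) := by
      rw [ringKrullDim_quotient_eq_between a s p hp, h3 _ hT s (ha.trans hσs).mem_closure hs]
      rw [show {t : S | t ∈ closure ({a} : Set S) ∧ t ⤳ s} = {t | a ⤳ t ∧ t ⤳ s} from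
        Set.ext fun t => and_congr_left' specializes_iff_mem_closure.symm]
    obtain ⟨u, hu⟩ := (range_quotientStalkMap a s p hp).superset (⟨ha, hσs⟩ : a ⤳ σ ∧ σ ⤳ s)
    haveI := u.2; haveI := p.2; haveI := q.2
    haveI : IsLocalRing (S.presheaf.stalk s ⧸ p.asIdeal) := .of_surjective' _ Ideal.Quotient.mk_surjective
    have hcat : CAlg.IsCatenary (S.presheaf.stalk s ⧸ p.asIdeal) :=
      (h2 s).2 _ (Algebra.FiniteType.of_surjective (Ideal.Quotient.mkₐ (S.presheaf.stalk s) p.asIdeal)
        Ideal.Quotient.mk_surjective)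
    have heq : EGA4.IsEquidim (S.presheaf.stalk s ⧸ p.asIdeal) := fun P hP => by
      rw [IsDomain.minimalPrimes_eq_singleton_bot, Set.mem_singleton_iff] at hP
      rw [hP, ringKrullDim_eq_of_ringEquiv (RingEquiv.quotientBot _)]
    have h1 := H05EGA4.height_add_dim_eq_of_isEquidim hcat heq u.asIdeal
    rw [height_eq_between a s σ p hp u hu, hN] at h1
    rw [← h1]
    congr 1
    have hqu : q.asIdeal = u.asIdeal.comap (Ideal.Quotient.mk p.asIdeal) :=
      congrArg PrimeSpectrum.asIdeal ((S.fromSpecStalk s).isEmbedding.injective (hq.trans hu.symm))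
    exact ringKrullDim_eq_of_ringEquiv ((Ideal.quotEquivOfEq (by
        rw [hqu, ← RingHom.comap_ker, Ideal.mk_ker])).trans
      (RingHom.quotientKerEquivOfSurjective (f := (Ideal.Quotient.mk u.asIdeal).comp (Ideal.Quotient.mk p.asIdeal))
        (Ideal.Quotient.mk_surjective.comp Ideal.Quotient.mk_surjective)))
  obtain ⟨q₀, hq₀⟩ : σ ∈ Set.range (S.fromSpecStalk s₀) := by
    rw [Scheme.range_fromSpecStalk]; exact specializes_iff_mem_closure.mpr hs₀
  haveI := q₀.2
  obtain ⟨D, hD⟩ := H05EGA4.exists_nat_dim_quotient_eq q₀.asIdeal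
  refine ⟨D, fun s hσs hs q hq => ?_⟩
  haveI := q.2
  obtain ⟨D', hD'⟩ := H05EGA4.exists_nat_dim_quotient_eq q.asIdeal
  obtain ⟨r, hr⟩ : a ∈ Set.range (S.fromSpecStalk σ) := by rw [Scheme.range_fromSpecStalk]; exact ha
  haveI := r.2
  obtain ⟨h, hh⟩ := H05EGA4.exists_nat_dim_quotient_eq r.asIdeal
  have e1 := key s₀ (specializes_iff_mem_closure.mpr hs₀) hc₀ q₀ hq₀
  have e2 := key s hσs hs q hq
  rw [← e1, ← ringKrullDim_quotient_eq_between a σ r hr, hh, hD, hD'] at e2
  have e3 : h + D' = h + D := by exact_mod_cast e2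
  rw [hD', Nat.add_left_cancel e3]

theorem coheight_le_ringKrullDim_stalk (x : X) :
    ((Order.coheight x : ℕ∞) : WithBot ℕ∞) ≤ ringKrullDim (X.presheaf.stalk x) := by
  rw [Order.coheight_eq_krullDim_Ici]
  have h : ∀ t : Set.Ici x, ∃ r : PrimeSpectrum (X.presheaf.stalk x), X.fromSpecStalk x r = t.1 := fun t => by
    have : t.1 ∈ Set.range (X.fromSpecStalk x) := by rw [Scheme.range_fromSpecStalk]; exact t.2
    exact this
  choose r hr using h
  refine (Order.krullDim_le_of_strictMono (fun t => OrderDual.toDual (r t)) fun a b hab => ?_).trans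
    Order.krullDim_orderDual.le
  refine lt_of_le_of_ne ?_ fun e => hab.ne (Subtype.ext ((hr a).symm.trans
    ((congrArg (fun z => X.fromSpecStalk x z) (OrderDual.toDual.injective e)).trans (hr b))))
  refine (PrimeSpectrum.le_iff_specializes (r b) (r a)).mpr
    ((X.fromSpecStalk x).isEmbedding.isInducing.specializes_iff.mp ?_)
  rw [hr a, hr b]; exact hab.le

set_option backward.isDefEq.respectTransparency false in
/-- The dimension of an irreducible scheme locally of finite type over the base. -/
theorem topologicalKrullDim_eq_add [IsLocallyNoetherian S] [JacobsonSpace S]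
    (h2 : ∀ s : S, CAlg.IsUniversallyCatenary (S.presheaf.stalk s)) (p : X ⟶ S) [LocallyOfFiniteType p]
    [IrreducibleSpace X] (D : ℕ)
    (hD : ∀ s : S, p (genericPoint X) ⤳ s → IsClosed ({s} : Set S) → ∀ q : PrimeSpectrum (S.presheaf.stalk s),
      S.fromSpecStalk s q = p (genericPoint X) → ringKrullDim (S.presheaf.stalk s ⧸ q.asIdeal) = D)
    (e : ℕ) (he : cdim (p.asFiber (genericPoint X)) = (e : WithBot ℕ∞)) :
    topologicalKrullDim X = (D + e : ℕ) := by
  haveI : IsLocallyNoetherian X := LocallyOfFiniteType.isLocallyNoetherian p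
  haveI : JacobsonSpace X := LocallyOfFiniteType.jacobsonSpace p
  have key : ∀ x : X, IsClosed ({x} : Set X) → ringKrullDim (X.presheaf.stalk x) = (D + e : ℕ) := fun x hx => by
    obtain ⟨P, hP⟩ : genericPoint X ∈ Set.range (X.fromSpecStalk x) := by
      rw [Scheme.range_fromSpecStalk]; exact genericPoint_specializes x
    have hnat : S.fromSpecStalk (p x) (PrimeSpectrum.comap (p.stalkMap x).hom P) = p (X.fromSpecStalk x P) :=
      congrArg (fun φ : Spec (X.presheaf.stalk x) ⟶ S => φ P) (Scheme.SpecMap_stalkMap_fromSpecStalk p)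
    have hd := hD (p x) ((genericPoint_specializes x).map p.continuous)
      (p.closePoints_subset_preimage_closedPoints hx) _ (by rw [hnat, hP])
    have ht : cdim (p.asFiber x) = (0 : ℕ) := by
      have h1 : IsClosed ({p.asFiber x} : Set (p.fiber (p x))) := by
        have h2 : ({p.asFiber x} : Set (p.fiber (p x))) = p.fiberι (p x) ⁻¹' {x} :=
          Set.ext fun w => ⟨fun h => by rw [Set.mem_singleton_iff.mp h]; exact p.fiberι_asFiber x,
            fun h => (p.fiberι (p x)).isEmbedding.injective (h.trans (p.fiberι_asFiber x).symm)⟩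
        exact h2 ▸ hx.preimage (p.fiberι (p x)).continuous
      refine le_antisymm ?_ ((H06Equidim.exists_trdeg_asFiber p x).choose_spec.1 ▸ Nat.cast_nonneg' _)
      show topologicalKrullDim (closure ({p.asFiber x} : Set (p.fiber (p x)))) ≤ _
      rw [IsClosed.closure_eq h1, Nat.cast_zero]
      haveI : Subsingleton (IrreducibleCloseds ↥({p.asFiber x} : Set (p.fiber (p x)))) :=
        ⟨fun A B => IrreducibleCloseds.ext ((Subsingleton.eq_univ_of_nonempty A.2.nonempty).trans
          (Subsingleton.eq_univ_of_nonempty B.2.nonempty).symm)⟩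
      exact Order.krullDim_nonpos_of_subsingleton
    have hdim := quotient_dim_add_eq_of_catenary p x (h2 _) P D 0 e hd ht (by rw [hP]; exact he)
    rw [Nat.cast_zero, add_zero] at hdim
    rw [← hdim]
    refine le_antisymm ?_ (ringKrullDim_quotient_le _)
    haveI := P.2
    have hPmin : ∀ Q : Ideal (X.presheaf.stalk x), Q.IsPrime → P.asIdeal ≤ Q := fun Q hQ =>
      (PrimeSpectrum.le_iff_specializes P ⟨Q, hQ⟩).mpr
        ((X.fromSpecStalk x).isEmbedding.isInducing.specializes_iff.mp (hP ▸ genericPoint_specializes _))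
    have hnil : P.asIdeal ≤ nilradical (X.presheaf.stalk x) := by
      rw [nilradical_eq_sInf]; exact le_sInf fun Q hQ => hPmin Q hQ
    rw [← H25SmVar.ringKrullDim_quotient_nilradical (X.presheaf.stalk x)]
    exact H05EGA4.ringKrullDim_quotient_mono hnil
  refine le_antisymm ?_ ?_
  · rw [H17.topologicalKrullDim_eq_krullDim_specialization, Order.krullDim_eq_iSup_coheight]
    refine iSup_le fun y => ?_
    obtain ⟨c, hyc, hc⟩ := nonempty_inter_closedPoints (Z := closure ({y} : Set X)) ⟨y, subset_closure rfl⟩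
      isClosed_closure.isLocallyClosed
    refine le_trans ?_ (key c hc).le
    refine le_trans ?_ (coheight_le_ringKrullDim_stalk c)
    exact_mod_cast Order.coheight_anti (show c ≤ y from specializes_iff_mem_closure.mpr hyc)
  · obtain ⟨c, -, hc⟩ := nonempty_inter_closedPoints (Z := (Set.univ : Set X)) Set.univ_nonempty
      isClosed_univ.isLocallyClosed
    rw [← key c hc, ← PrimeSpectrum.topologicalKrullDim_eq_ringKrullDim]
    exact (X.fromSpecStalk c).isEmbedding.isInducing.topologicalKrullDim_le

end Groth.Agent.H06EGA14
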