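import Groth.Agent.H06EGA14.OpenDimScheme
import Groth.Agent.H06EGA14.MaximalPoint
import Groth.Agent.H06EGA14.FibreDims
import Groth.Agent.H7Flat.FibreDimConstructible
import Groth.Agent.H28Top.Spectral
import Groth.Agent.H06EGA14.GeomCriterion

/-!
Fibre dimensions of open morphisms.
-/

open CategoryTheory CategoryTheory.Limits AlgebraicGeometry TopologicalSpace Topology

universe u

namespace Groth.Agent.H06EGA14

open Groth.Agent.H8Props.FieldDim Groth.Agent.H06Equidim

variable {X Y : Scheme.{u}}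

set_option backward.isDefEq.respectTransparency false in
/-- For an open morphism the dimension of the fibres does not drop under generization. -/
theorem dim_fiber_le_of_isOpenMap [IsLocallyNoetherian Y] (f : X ⟶ Y) [LocallyOfFiniteType f]
    (hf : IsOpenMap f.base) {y' y : Y} (h : y' ⤳ y) :
    topologicalKrullDim (f.fiber y) ≤ topologicalKrullDim (f.fiber y') := by
  rw [H7Flat.dim_fiber_le_iff]
  intro x hx
  obtain ⟨ξ, -, hξy, hξmax, hξd⟩ := exists_maximal_generization f x
  rw [← hξd]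
  let I := Scheme.IdealSheafData.vanishingIdeal (X := Y) ⟨closure {y'}, isClosed_closure⟩
  let i := I.subschemeι
  have hr : Set.range i = closure {y'} := by
    show Set.range I.subschemeι = _
    rw [Scheme.IdealSheafData.range_subschemeι, Scheme.IdealSheafData.coe_support_vanishingIdeal]
    rfl
  obtain ⟨η₀, hη₀⟩ : y' ∈ Set.range i := hr ▸ subset_closure rfl
  obtain ⟨y₀, hy₀⟩ : f ξ ∈ Set.range i := hr ▸ (show f ξ ∈ closure {y'} by rw [hξy, hx]; exact h.mem_closure)
  haveI : IsLocallyNoetherian I.subscheme := LocallyOfFiniteType.isLocallyNoetherian i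
  let a := pullback.fst f i
  let b := pullback.snd f i
  have hP : IsPullback a b f i := IsPullback.of_hasPullback f i
  have hsq : ∀ q, f (a q) = i (b q) := fun q => by
    rw [← Scheme.Hom.comp_apply, hP.w, Scheme.Hom.comp_apply]
  obtain ⟨x', hx', hbx'⟩ := Scheme.exists_preimage_of_isPullback hP ξ y₀ hy₀.symm
  have hmax' : ∀ q, b q = b x' → q ⤳ x' → q = x' := fun q hq hqx => by
    refine a.isEmbedding.injective ((hξmax _ ?_ ?_).trans hx'.symm)
    · rw [hsq, hq, ← hsq, hx']
    · exact hx' ▸ hqx.map a.continuous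
  have hopen : EGA43.IsOpenAt b.base x' := by
    intro U hU
    obtain ⟨U₀, hU₀s, hU₀, hxU₀⟩ := mem_nhds_iff.mp hU
    obtain ⟨U'', hU'', hpre⟩ := a.isEmbedding.isInducing.isOpen_iff.mp hU₀
    refine mem_nhds_iff.mpr ⟨i ⁻¹' (f '' U''), ?_, (hf U'' hU'').preimage i.continuous, a x', hpre.ge hxU₀, hsq x'⟩
    rintro t ⟨z, hz, hzt⟩
    obtain ⟨p, hp1, hp2⟩ := Scheme.exists_preimage_of_isPullback hP z t hzt
    exact ⟨p, hU₀s (hpre.le (show a p ∈ U'' by rw [hp1]; exact hz)), hp2⟩
  have hmax₀ : ∀ w, w ⤳ η₀ → w = η₀ := fun w hw => by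
    refine i.isEmbedding.injective ?_
    have h1 : i w ⤳ y' := hη₀ ▸ hw.map i.continuous
    have h2 : y' ⤳ i w := specializes_iff_mem_closure.mpr (hr ▸ Set.mem_range_self w)
    rw [(h1.antisymm h2).eq, hη₀]
  obtain ⟨η, -, hbη, -, hd⟩ := exists_generic_of_isOpenAt b x' hmax' hopen η₀
    (i.isEmbedding.isInducing.specializes_iff.mp (by rw [hη₀, hbx', hy₀, hξy, hx]; exact h)) hmax₀
  rw [← cdim_asFiber_eq_fibreDimAt_of_fibre b x' hmax', cdim_asFiber_baseChange f hP,
    cdim_asFiber_baseChange f hP, hx'] at hd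
  exact hd.trans ((cdim_asFiber_le_fibreDimAt f _).trans
    ((H7Flat.dim_fiber_le_iff f y' _).mp le_rfl (a η) (by rw [hsq, hbη, hη₀])))

set_option backward.isDefEq.respectTransparency false in
/-- An open morphism of finite type whose generic fibres have the dimension of the given fibre has
locally constant fibre dimension there. -/
theorem exists_nhd_dim_fiber_eq [IsLocallyNoetherian Y] (f : X ⟶ Y) [LocallyOfFiniteType f] [QuasiCompact f]
    (hf : IsOpenMap f.base) (y : Y)
    (h : ∀ η : Y, η ⤳ y → (∀ w, w ⤳ η → w = η) → topologicalKrullDim (f.fiber η) ≤ topologicalKrullDim (f.fiber y)) :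
    ∃ V ∈ 𝓝 y, ∀ z ∈ V, topologicalKrullDim (f.fiber z) = topologicalKrullDim (f.fiber y) := by
  set d := topologicalKrullDim (f.fiber y) with hd
  obtain ⟨W, hyW, -, hW⟩ := H06Equidim.exists_nhd_components_mem y ⊤ trivial
  have hle : ∀ z ∈ W, topologicalKrullDim (f.fiber z) ≤ d := fun z hz => by
    obtain ⟨η₀, hη₀, hT⟩ := exists_component_generization z
    have hmax₀ := eq_of_specializes_of_component hT
    exact (dim_fiber_le_of_isOpenMap f hf hη₀).trans (h η₀ (hW η₀ (hη₀.mem_open W.2 hz) hmax₀) hmax₀)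
  obtain ⟨n, hn⟩ := H7Flat.exists_nat_dim_fiber f y
  have hc : ∃ c : WithBot ℕ∞, d = ⊥ ∨ ∀ e, d ≤ e ↔ ¬ e ≤ c := by
    rcases hdd : d with _ | m
    · exact ⟨⊥, Or.inl rfl⟩
    · obtain ⟨k, rfl⟩ : ∃ k : ℕ, m = k := by
        rw [← hd, hdd] at hn
        have hn' : m ≤ (n : ℕ∞) := WithBot.coe_le_coe.mp hn
        exact ⟨m.toNat, (ENat.natCast_toNat (ne_top_of_le_ne_top (ENat.natCast_ne_top n) hn')).symm⟩
      rcases k with _ | k
      · refine ⟨⊥, Or.inr fun e => ?_⟩
        induction e using WithBot.recBotCoe <;> simp [WithBot.some_eq_coe]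
      · refine ⟨(k : ℕ), Or.inr fun e => ?_⟩
        induction e using WithBot.recBotCoe with
        | bot => simp [WithBot.some_eq_coe]
        | coe e =>
          rw [not_le, WithBot.some_eq_coe, show ((k : ℕ) : WithBot ℕ∞) = ((k : ℕ∞) : WithBot ℕ∞) from rfl,
            WithBot.coe_le_coe, WithBot.coe_lt_coe, Nat.cast_succ]
          exact ENat.add_one_le_iff (ENat.natCast_ne_top k)
  obtain ⟨c, hc | hc⟩ := hc
  · exact ⟨W, W.2.mem_nhds hyW, fun z hz => le_antisymm (hle z hz) (hc ▸ bot_le)⟩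
  haveI : LocallyOfFinitePresentation f := inferInstance
  obtain ⟨(U : Y.Opens), (hU : IsAffineOpen U), hyU, -⟩ := Opens.isBasis_iff_nbhd.mp Y.isBasis_affineOpens
    (show y ∈ (⊤ : Y.Opens) from trivial)
  let E : Set (PrimeSpectrum Γ(Y, U)) := hU.fromSpec ⁻¹' {z | topologicalKrullDim (f.fiber z) ≤ c}
  have hE : IsConstructible E := ((H7Flat.isLocallyConstructible_dim_fiber_le f c).preimage_of_isOpenEmbedding
    hU.fromSpec.isOpenEmbedding).isConstructible
  obtain ⟨q, hq⟩ : y ∈ Set.range hU.fromSpec := hU.range_fromSpec.ge hyU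
  have hnot : q ∉ closure E := fun hq' => by
    obtain ⟨e, he, hsp⟩ := H28Top.exists_specializes_of_mem_closure (H28Top.isClosed_constr_of_isConstructible hE) hq'
    have h1 : hU.fromSpec e ⤳ y := hq ▸ hsp.map hU.fromSpec.continuous
    exact (hc _).mp (dim_fiber_le_of_isOpenMap f hf h1) he
  refine ⟨(W : Set Y) ∩ hU.fromSpec '' (closure E)ᶜ, Filter.inter_mem (W.2.mem_nhds hyW)
    (hq ▸ hU.fromSpec.isOpenEmbedding.isOpenMap.image_mem_nhds (isClosed_closure.isOpen_compl.mem_nhds hnot)), ?_⟩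
  rintro _ ⟨hzW, e, he, rfl⟩
  exact le_antisymm (hle _ hzW) ((hc _).mpr fun hh => he (subset_closure hh))

theorem dim_inter_eq_dim_fiber (f : X ⟶ Y) (U : X.Opens) (z : Y) :
    topologicalKrullDim ↥((U : Set X) ∩ f.base ⁻¹' {z}) = topologicalKrullDim ((U.ι ≫ f).fiber z) := by
  have hj : IsEmbedding (⇑U.ι ∘ ⇑((U.ι ≫ f).fiberι z)) := U.ι.isEmbedding.comp ((U.ι ≫ f).fiberι z).isEmbedding
  have hr : Set.range (⇑U.ι ∘ ⇑((U.ι ≫ f).fiberι z)) = (U : Set X) ∩ f.base ⁻¹' {z} := by
    rw [Set.range_comp, Scheme.Hom.range_fiberι]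
    show U.ι '' (U.ι ⁻¹' (f ⁻¹' {z})) = _
    rw [Set.image_preimage_eq_range_inter, Scheme.Opens.range_ι]
  rw [← hr]
  exact (IsHomeomorph.topologicalKrullDim_eq _ hj.toHomeomorph.isHomeomorph).symm

end Groth.Agent.H06EGA14
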