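import Groth.Agent.H06EGA14.QuasiSectionEtale
import Groth.Agent.H06EGA14.AffineSpaceTarget
import Groth.Agent.H12AlgSp.LocPCancel
import Groth.Agent.H17.MonoField
import Groth.Agent.H17.Dim
import Groth.Agent.H8Props.FibreDimSemicont

/-!
Parameters at a closed point of a fibre and étale quasi-sections (EGA IV 14.5.3, 14.5.4).
-/

set_option autoImplicit false
set_option backward.isDefEq.respectTransparency false
set_option linter.style.haveILetI false
universe u

open CategoryTheory CategoryTheory.Limits AlgebraicGeometry TopologicalSpace TensorProduct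

namespace Groth.Agent.H06EGA14

/-- A closed point of a fibre of dimension at most `n` is isolated among the common zeros of `n`
functions vanishing there. -/
theorem exists_parameters {R A : Type u} [CommRing R] [CommRing A] [Algebra R A] [Algebra.FiniteType R A]
    (q : PrimeSpectrum A) (n : ℕ)
    (hclosed : ∀ q' : PrimeSpectrum A, q'.comap (algebraMap R A) = q.comap (algebraMap R A) →
      q.asIdeal ≤ q'.asIdeal → q' = q)
    (hdim : ∃ O : Set (PrimeSpectrum A), IsOpen O ∧ q ∈ O ∧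
      topologicalKrullDim ↥(O ∩ PrimeSpectrum.comap (algebraMap R A) ⁻¹' {q.comap (algebraMap R A)}) ≤ (n : ℕ)) :
    ∃ b : Fin n → A, (∀ i, b i ∈ q.asIdeal) ∧ ∃ O : Set (PrimeSpectrum A), IsOpen O ∧ q ∈ O ∧
      ∀ q' ∈ O, q'.comap (algebraMap R A) = q.comap (algebraMap R A) → (∀ i, b i ∈ q'.asIdeal) → q' = q := by
  classical
  set p := q.comap (algebraMap R A) with hp
  let F := p.asIdeal.Fiber A
  haveI : IsNoetherianRing F := Algebra.FiniteType.isNoetherianRing p.asIdeal.ResidueField F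
  let e := PrimeSpectrum.preimageHomeomorphFiber R A p
  let w₀ : PrimeSpectrum F := e ⟨q, rfl⟩
  have hle : ∀ z z' : ↥(PrimeSpectrum.comap (algebraMap R A) ⁻¹' {p}), z.1 ≤ z'.1 ↔ e z ≤ e z' := fun z z' =>
    ((PrimeSpectrum.preimageOrderIsoFiber R A p).le_iff_le (x := z) (y := z')).symm
  have hsymm : ∀ w, (e.symm w).1.asIdeal = w.asIdeal.comap Algebra.TensorProduct.includeRight := fun w => rfl
  obtain ⟨O, hO, hqO, hdimO⟩ := hdim
  -- the height of the point in the fibre
  have hht : w₀.asIdeal.height ≤ (n : ℕ∞) := by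
    rw [PrimeSpectrum.height_eq_orderHeight]
    refine Order.height_le fun s hs => ?_
    let O' : Set (PrimeSpectrum F) := e.symm ⁻¹' (Subtype.val ⁻¹' O)
    have hO' : IsOpen O' := (hO.preimage continuous_subtype_val).preimage e.symm.continuous
    have hw₀ : w₀ ∈ O' := by
      show (e.symm w₀).1 ∈ O
      rw [e.symm_apply_apply]; exact hqO
    haveI : QuasiSober ↥O' := hO'.isOpenEmbedding_subtypeVal.quasiSober
    letI : PartialOrder ↥O' := specializationOrder _
    letI : Preorder ↥O' := (specializationOrder ↥O').toPreorder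
    have hmem : ∀ i, s i ∈ O' := fun i =>
      ((PrimeSpectrum.le_iff_specializes _ _).mp (hs ▸ s.monotone (Fin.le_last i))).mem_open hO' hw₀
    let t : LTSeries ↥O' := LTSeries.mk s.length (fun i => ⟨s i.rev, hmem _⟩) fun i j hij => by
      have hlt : s j.rev < s i.rev := s.strictMono (Fin.rev_lt_rev.mpr hij)
      refine lt_of_le_of_ne ?_ ?_
      · exact (subtype_specializes_iff (⟨s j.rev, hmem _⟩ : O') ⟨s i.rev, hmem _⟩).mpr
          ((PrimeSpectrum.le_iff_specializes _ _).mp hlt.le)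
      · exact fun h => hlt.ne' (Subtype.ext_iff.mp h)
    let j : ↥O' → PrimeSpectrum A := fun w => (e.symm w.1).1
    have hj : Topology.IsEmbedding j :=
      (Topology.IsEmbedding.subtypeVal.comp e.symm.isEmbedding).comp Topology.IsEmbedding.subtypeVal
    have hr : Set.range j = O ∩ PrimeSpectrum.comap (algebraMap R A) ⁻¹' {p} := by
      ext z
      refine ⟨fun ⟨w, hw⟩ => hw ▸ ⟨w.2, (e.symm w.1).2⟩, fun hz => ⟨⟨e ⟨z, hz.2⟩, ?_⟩, ?_⟩⟩
      · show (e.symm _).1 ∈ O
        rw [e.symm_apply_apply]; exact hz.1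
      · show (e.symm _).1 = z
        rw [e.symm_apply_apply]
    have h1 : ((s.length : ℕ∞) : WithBot ℕ∞) ≤ topologicalKrullDim ↥O' := by
      rw [H17.topologicalKrullDim_eq_krullDim_specialization]
      exact Order.LTSeries.length_le_krullDim t
    rw [← H8Props.FieldDim.dim_range hj, hr] at h1
    exact_mod_cast h1.trans hdimO
  have hmax : ∀ w : PrimeSpectrum F, w₀.asIdeal ≤ w.asIdeal → w = w₀ := fun w hw => by
    obtain ⟨z, rfl⟩ := e.surjective w
    exact congrArg e (Subtype.ext (hclosed z.1 z.2 ((hle ⟨q, rfl⟩ z).mpr hw)))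
  -- parameters in the fibre
  obtain ⟨s, hmin, hcard⟩ := w₀.asIdeal.exists_finset_card_eq_height_of_isNoetherianRing
  have hsn : s.card ≤ n := by exact_mod_cast hcard.le.trans hht
  let xs : Fin n → F := fun i => if h : i.1 < s.card then (s.equivFin.symm ⟨i.1, h⟩).1 else 0
  have hsq : ∀ a ∈ s, a ∈ w₀.asIdeal := fun a ha => hmin.1.2 (Ideal.subset_span ha)
  have hxs : ∀ i, xs i ∈ w₀.asIdeal := fun i => by
    by_cases h : i.1 < s.card
    · simp only [xs, dif_pos h]; exact hsq _ (s.equivFin.symm ⟨i.1, h⟩).2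
    · simp only [xs, dif_neg h]; exact Ideal.zero_mem _
  have hspan : ∀ w : PrimeSpectrum F, (∀ i, xs i ∈ w.asIdeal) → Ideal.span (s : Set F) ≤ w.asIdeal := fun w hw => by
    refine Ideal.span_le.mpr fun a ha => ?_
    have := hw ⟨(s.equivFin ⟨a, ha⟩).1, (s.equivFin ⟨a, ha⟩).2.trans_le hsn⟩
    simpa [xs, (s.equivFin ⟨a, ha⟩).2] using this
  -- lift them
  choose r hr b hb using fun i => Ideal.Fiber.exists_smul_eq_one_tmul p.asIdeal (xs i)
  have hmemb : ∀ (i : Fin n) (w : PrimeSpectrum F), b i ∈ (e.symm w).1.asIdeal ↔ xs i ∈ w.asIdeal := by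
    intro i w
    rw [hsymm, Ideal.mem_comap, show (Algebra.TensorProduct.includeRight : A →ₐ[R] F) (b i) = r i • xs i from (hb i).symm,
      Algebra.smul_def]
    refine ⟨fun h => (w.2.mem_or_mem h).resolve_left fun h' => w.2.ne_top (Ideal.eq_top_of_isUnit_mem _ h' ?_),
      fun h => Ideal.mul_mem_left _ _ h⟩
    rw [IsScalarTower.algebraMap_apply R p.asIdeal.ResidueField F]
    exact (IsUnit.mk0 _ (mt Ideal.algebraMap_residueField_eq_zero.mp (hr i))).map _
  -- the point is isolated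
  let others : Set (Ideal F) := (Ideal.span (s : Set F)).minimalPrimes \ {w₀.asIdeal}
  have hfin : others.Finite := (Ideal.finite_minimalPrimes_of_isNoetherianRing F _).subset Set.diff_subset
  let U : Set (PrimeSpectrum F) := (⋃ m ∈ others, PrimeSpectrum.zeroLocus (m : Set F))ᶜ
  have hU : IsOpen U := (hfin.isClosed_biUnion fun m _ => PrimeSpectrum.isClosed_zeroLocus _).isOpen_compl
  have hw₀U : w₀ ∈ U := fun h => by
    obtain ⟨m, hm, hmw⟩ := Set.mem_iUnion₂.mp h
    exact hm.2 (le_antisymm hmw (hmin.2 hm.1.1 hmw))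
  obtain ⟨O₂, hO₂, hO₂U⟩ := isOpen_induced_iff.mp (hU.preimage e.continuous)
  refine ⟨b, fun i => ?_, O₂, hO₂, ?_, fun q' hq'O hq'p hq'b => ?_⟩
  · have := (hmemb i w₀).mpr (hxs i)
    rwa [e.symm_apply_apply] at this
  · exact hO₂U.ge (show (⟨q, rfl⟩ : ↥(PrimeSpectrum.comap (algebraMap R A) ⁻¹' {p})) ∈ e ⁻¹' U from hw₀U)
  · let z : ↥(PrimeSpectrum.comap (algebraMap R A) ⁻¹' {p}) := ⟨q', hq'p⟩
    have hzU : e z ∈ U := hO₂U.le (show z ∈ Subtype.val ⁻¹' O₂ from hq'O)
    have hzs : Ideal.span (s : Set F) ≤ (e z).asIdeal := hspan _ fun i => (hmemb i (e z)).mp (by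
      rw [e.symm_apply_apply]; exact hq'b i)
    haveI := (e z).2
    obtain ⟨m, hm, hmz⟩ := Ideal.exists_minimalPrimes_le hzs
    have hmw : m = w₀.asIdeal := by
      by_contra hne
      exact hzU (Set.mem_iUnion₂.mpr ⟨m, ⟨hm, hne⟩, hmz⟩)
    have := hmax (e z) (hmw ▸ hmz)
    exact congrArg Subtype.val (e.injective this)

set_option maxHeartbeats 800000 in
/-- Étale quasi-sections through a closed point of a fibre lying on a component of full dimension at
whose generic point the morphism is universally open. -/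
theorem hasEtaleQuasiSection_of_isUnivOpenAt {X S : Scheme.{u}} (f : X ⟶ S) [LocallyOfFinitePresentation f]
    (x z : X) (n : ℕ) (hzx : z ⤳ x) (hfz : f z = f x) (hmax : ∀ w, f w = f z → w ⤳ z → w = z)
    (hclosed : ∀ w, f w = f x → x ⤳ w → w = x) (hopen : EGA43.IsUnivOpenAt f z)
    (hdz : FlatMor.fibreDimAt f z = (n : ℕ))
    (hdim : ∃ O : Set X, IsOpen O ∧ x ∈ O ∧ topologicalKrullDim ↥(O ∩ f ⁻¹' {f x}) ≤ (n : ℕ)) :
    HasEtaleQuasiSection f (f x) x := by
  obtain ⟨O, hO, hxO, hOd⟩ := hdim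
  obtain ⟨(W : S.Opens), (hW : IsAffineOpen W), hxW, -⟩ := Opens.isBasis_iff_nbhd.mp S.isBasis_affineOpens
    (show f x ∈ (⊤ : S.Opens) from trivial)
  obtain ⟨(V : X.Opens), (hV : IsAffineOpen V), hxV, hVW⟩ := Opens.isBasis_iff_nbhd.mp X.isBasis_affineOpens
    (show x ∈ f ⁻¹ᵁ W from hxW)
  let jV := hV.fromSpec
  obtain ⟨c, rfl⟩ : x ∈ Set.range jV := by rw [hV.range_fromSpec]; exact hxV
  let φ := f.appLE W V hVW
  letI := φ.hom.toAlgebra
  haveI : Algebra.FiniteType Γ(S, W) Γ(X, V) := f.finiteType_appLE hW hV hVW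
  have hsq : Spec.map φ ≫ hW.fromSpec = jV ≫ f := IsAffineOpen.SpecMap_appLE_fromSpec f hW hV hVW
  have hover : ∀ a, f (jV a) = f (jV c) ↔
      PrimeSpectrum.comap (algebraMap Γ(S, W) Γ(X, V)) a = PrimeSpectrum.comap (algebraMap Γ(S, W) Γ(X, V)) c := by
    intro a
    rw [← Scheme.Hom.comp_apply, ← Scheme.Hom.comp_apply, ← hsq, Scheme.Hom.comp_apply, Scheme.Hom.comp_apply]
    exact hW.fromSpec.isEmbedding.injective.eq_iff
  obtain ⟨b, hbc, O₂, hO₂, hcO₂, hO₂'⟩ := exists_parameters (R := Γ(S, W)) c n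
    (fun a ha hle => jV.isEmbedding.injective (hclosed _ ((hover a).mpr ha)
      (((PrimeSpectrum.le_iff_specializes c a).mp hle).map jV.continuous)))
    ⟨jV ⁻¹' O, hO.preimage jV.continuous, hxO, by
      let k : ↥(jV ⁻¹' O ∩ PrimeSpectrum.comap (algebraMap Γ(S, W) Γ(X, V)) ⁻¹'
          {PrimeSpectrum.comap (algebraMap Γ(S, W) Γ(X, V)) c}) → ↥(O ∩ f ⁻¹' {f (jV c)}) :=
        fun a => ⟨jV a.1, a.2.1, (hover a.1).mpr a.2.2⟩
      have hk : Topology.IsEmbedding k :=
        (Topology.IsEmbedding.of_comp_iff Topology.IsEmbedding.subtypeVal).mp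
          (jV.isEmbedding.comp Topology.IsEmbedding.subtypeVal)
      exact (hk.isInducing.topologicalKrullDim_le).trans hOd⟩
  -- the morphism to affine space
  let σ := ULift.{u} (Fin n)
  let u₀ : Spec Γ(X, V) ⟶ 𝔸(σ; S) :=
    AffineSpace.homOfVector (jV ≫ f) fun i => (Scheme.ΓSpecIso Γ(X, V)).inv (b i.down)
  let o : S ⟶ 𝔸(σ; S) := AffineSpace.homOfVector (𝟙 S) fun _ => 0
  have ho : o ≫ 𝔸(σ; S) ↘ S = 𝟙 S := AffineSpace.homOfVector_over _ _
  haveI : IsClosedImmersion (o ≫ 𝔸(σ; S) ↘ S) := by rw [ho]; infer_instance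
  haveI : IsClosedImmersion o := IsClosedImmersion.of_comp o (𝔸(σ; S) ↘ S)
  have hu₀ : u₀ ≫ 𝔸(σ; S) ↘ S = jV ≫ f := AffineSpace.homOfVector_over _ _
  haveI : LocallyOfFinitePresentation (jV ≫ f) := inferInstance
  haveI : LocallyOfFinitePresentation (u₀ ≫ 𝔸(σ; S) ↘ S) := by rw [hu₀]; infer_instance
  haveI : LocallyOfFinitePresentation u₀ := H12AlgSp.lfp_of_comp u₀ (𝔸(σ; S) ↘ S)
  have hu₀o : u₀ c = o (f (jV c)) := by
    let m : Γ(X, V) ⟶ CommRingCat.of (Γ(X, V) ⧸ c.asIdeal) := CommRingCat.ofHom (Ideal.Quotient.mk c.asIdeal)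
    have hm : Spec.map m ≫ u₀ = Spec.map m ≫ jV ≫ f ≫ o := by
      refine AffineSpace.hom_ext ?_ fun i => ?_
      · rw [Category.assoc, hu₀, Category.assoc, Category.assoc, Category.assoc, ho, Category.comp_id]
      · rw [Scheme.Hom.comp_appTop, CommRingCat.comp_apply, AffineSpace.homOfVector_appTop_coord,
          ← Category.assoc jV, ← Category.assoc (Spec.map m), Scheme.Hom.comp_appTop _ o, CommRingCat.comp_apply,
          AffineSpace.homOfVector_appTop_coord, map_zero, ← CommRingCat.comp_apply,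
          ← Scheme.ΓSpecIso_inv_naturality, CommRingCat.comp_apply]
        rw [show m.hom (b i.down) = 0 from Ideal.Quotient.eq_zero_iff_mem.mpr (hbc _), map_zero]
    haveI : c.asIdeal.IsPrime := c.2
    let c₁ : Spec (CommRingCat.of (Γ(X, V) ⧸ c.asIdeal)) := (⟨⊥, Ideal.isPrime_bot⟩ : PrimeSpectrum _)
    have hc₁ : Spec.map m c₁ = c := PrimeSpectrum.ext (by
      show Ideal.comap (Ideal.Quotient.mk c.asIdeal) ⊥ = c.asIdeal
      rw [← RingHom.ker_eq_comap_bot, Ideal.mk_ker])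
    have := congrArg (fun t : Spec (CommRingCat.of (Γ(X, V) ⧸ c.asIdeal)) ⟶ 𝔸(σ; S) => t c₁) hm
    simpa only [Scheme.Hom.comp_apply, hc₁] using this
  have hqf : u₀.QuasiFiniteAt c := by
    rw [Scheme.Hom.quasiFiniteAt_iff_isOpen_singleton_asFiber, ← (u₀.fiberHomeo (u₀ c)).isOpen_image,
      Set.image_singleton, Scheme.Hom.asFiber, Homeomorph.apply_symm_apply]
    refine ⟨O₂, hO₂, Set.ext fun a => ⟨fun ha => Subtype.ext (hO₂' a.1 ha ?_ fun i => ?_), fun ha => ?_⟩⟩
    · refine (hover a.1).mp ?_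
      have h2 : u₀ a.1 = u₀ c := a.2
      have h3 := congrArg (fun y => (𝔸(σ; S) ↘ S) y) h2
      simp only [← Scheme.Hom.comp_apply, hu₀] at h3
      exact h3
    · by_contra hbi
      have h1 : a.1 ∈ (Spec Γ(X, V)).basicOpen ((Scheme.ΓSpecIso Γ(X, V)).inv (b i)) := by
        rw [basicOpen_eq_of_affine]; exact hbi
      rw [show (Scheme.ΓSpecIso Γ(X, V)).inv (b i) = u₀.appTop (AffineSpace.coord S (ULift.up i)) from
        (AffineSpace.homOfVector_appTop_coord (jV ≫ f) (fun l : σ => (Scheme.ΓSpecIso Γ(X, V)).inv (b l.down))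
          (ULift.up i)).symm, ← Scheme.preimage_basicOpen_top] at h1
      have h2 : u₀ a.1 ∈ (𝔸(σ; S)).basicOpen (AffineSpace.coord S (ULift.up i)) := h1
      rw [show u₀ a.1 = o (f (jV c)) from (show u₀ a.1 = u₀ c from a.2).trans hu₀o] at h2
      have h3 : f (jV c) ∈ o ⁻¹ᵁ (𝔸(σ; S)).basicOpen (AffineSpace.coord S (ULift.up i)) := h2
      rw [Scheme.preimage_basicOpen_top, AffineSpace.homOfVector_appTop_coord, Scheme.basicOpen_zero] at h3
      exact h3
    · obtain rfl : a = _ := ha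
      exact hcO₂
  -- restrict to the quasi-finite locus
  let U₀ := u₀.quasiFiniteLocus
  let c₀ : U₀.toScheme := ⟨c, hqf⟩
  have hzV : z ∈ V := hzx.mem_open V.2 hxV
  obtain ⟨d, rfl⟩ : z ∈ Set.range jV := by rw [hV.range_fromSpec]; exact hzV
  have hdc : d ⤳ c := jV.isEmbedding.isInducing.specializes_iff.mp hzx
  let d₀ : U₀.toScheme := ⟨d, hdc.mem_open U₀.2 hqf⟩
  let j := U₀.ι ≫ jV
  let v := U₀.ι ≫ u₀
  haveI : LocallyOfFinitePresentation v := inferInstanceAs (LocallyOfFinitePresentation (U₀.ι ≫ u₀))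
  have hv : v ≫ 𝔸(σ; S) ↘ S = j ≫ f := by
    simp only [v, j, Category.assoc, hu₀]
  have hvo : EGA43.IsUnivOpenAt v c₀ := by
    refine isUnivOpenAt_to_affineSpace σ v (j ≫ f) hv c₀ d₀ (U₀.ι.isEmbedding.isInducing.specializes_iff.mp hdc) hfz
      (fun w hw hwd => j.isEmbedding.injective (hmax _ hw (hwd.map j.continuous))) ?_ ?_
    · exact isUnivOpenAt_comp (fun Y' g y _ => fun N hN => (pullback.snd j g).isOpenEmbedding.isOpenMap.image_mem_nhds hN) hopen
    · rw [H8Props.FieldDim.fibreDimAt_openImmersion_comp j f d₀, show j d₀ = jV d from rfl, hdz,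
        Fintype.card_ulift, Fintype.card_fin]
  obtain ⟨x₁, hx₁, hx₁s⟩ := Scheme.exists_preimage_of_isPullback (IsPullback.of_hasPullback v o) c₀ (f (jV c))
    (show u₀ c = o (f (jV c)) from hu₀o)
  have hopen₁ : EGA43.IsUnivOpenAt (pullback.snd v o) x₁ :=
    isUnivOpenAt_of_isPullback hvo (IsPullback.of_hasPullback v o) x₁ hx₁
  obtain ⟨S', S'', hS', w, π, h, hw, hπ, hπs, hπp, hh, s'', hs, hsc, hres⟩ :=
    hasEtaleQuasiSection_of_quasiFiniteAt (pullback.snd v o) x₁ ((pullback.snd v o).quasiFiniteAt x₁) hopen₁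
  refine ⟨S', S'', hS', w, π, h ≫ pullback.fst v o ≫ j, hw, hπ, hπs, hπp, ?_, s'', ?_, ?_, ?_⟩
  · rw [← hh, Category.assoc, Category.assoc, ← hv, pullback.condition_assoc, ho, Category.comp_id]
  · rwa [hx₁s] at hs
  · rw [Scheme.Hom.comp_apply, hsc, Scheme.Hom.comp_apply, hx₁]
    rfl
  · rw [Scheme.residueFieldMap_comp]
    haveI : IsIso ((pullback.fst v o ≫ j).residueFieldMap (h s'')) := H17.MonoField.isIso_residueFieldMap_of_mono _ _
    infer_instance

end Groth.Agent.H06EGA14
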