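import Groth.Agent.H06EGA14.EquidimStalk
import Groth.Agent.H17.ConsPropBasic
import Groth.Agent.H17.Fibre

/-!
# Quasi-sections through points closed in their fibres (EGA IV 14.5.3)
-/

set_option autoImplicit false
set_option linter.style.haveILetI false
set_option backward.isDefEq.respectTransparency false
universe u

open CategoryTheory CategoryTheory.Limits AlgebraicGeometry TopologicalSpace Topology

namespace Groth.Agent.H06EGA14

open H8Props.FieldDim

theorem exists_mem_notMem_minimalPrimes {R : Type u} [CommRing R] [IsNoetherianRing R] (I J : Ideal R)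
    (h : ∀ P ∈ I.minimalPrimes, ¬ J ≤ P) : ∃ a ∈ J, ∀ P ∈ I.minimalPrimes, a ∉ P := by
  classical
  have hfin : I.minimalPrimes.Finite := Ideal.finite_minimalPrimes_of_isNoetherianRing _ _
  by_contra hcon
  push Not at hcon
  obtain ⟨P₀, hP₀⟩ : I.minimalPrimes.Nonempty := by
    obtain ⟨P, hP, -⟩ := hcon 0 J.zero_mem
    exact ⟨P, hP⟩
  have hsub : (J : Set R) ⊆ ⋃ P ∈ (↑hfin.toFinset : Set (Ideal R)), (P : Set R) := fun a ha => by
    obtain ⟨P, hP, haP⟩ := hcon a ha
    exact Set.mem_iUnion₂.mpr ⟨P, hfin.mem_toFinset.mpr hP, haP⟩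
  obtain ⟨P, hP, hle⟩ := (Ideal.subset_union_prime (f := fun P : Ideal R => P) P₀ P₀
    (fun P hP _ _ => (hfin.mem_toFinset.mp hP).1.1)).mp hsub
  exact h P (hfin.mem_toFinset.mp hP) hle

/-- The local ring at a generization has dimension at most the height. -/
theorem ringKrullDim_stalk_fromSpecStalk_le {X : Scheme.{u}} (x : X) (p : PrimeSpectrum (X.presheaf.stalk x)) :
    ringKrullDim (X.presheaf.stalk (X.fromSpecStalk x p)) ≤
      ((haveI := p.2; p.asIdeal.height : ℕ∞) : WithBot ℕ∞) := by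
  set η := X.fromSpecStalk x p
  have hηx : η ⤳ x := by
    have : η ∈ Set.range (X.fromSpecStalk x) := ⟨p, rfl⟩
    rwa [Scheme.range_fromSpecStalk] at this
  have h : ∀ q : PrimeSpectrum (X.presheaf.stalk η), ∃ r : Set.Iic p,
      X.fromSpecStalk x r.1 = X.fromSpecStalk η q := fun q => by
    have h1 : X.fromSpecStalk η q ∈ Set.range (X.fromSpecStalk η) := ⟨q, rfl⟩
    rw [Scheme.range_fromSpecStalk] at h1
    have h1' : X.fromSpecStalk η q ⤳ η := h1
    obtain ⟨r, hr⟩ : X.fromSpecStalk η q ∈ Set.range (X.fromSpecStalk x) := by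
      rw [Scheme.range_fromSpecStalk]; exact h1'.trans hηx
    exact ⟨⟨r, (PrimeSpectrum.le_iff_specializes r p).mpr
      ((X.fromSpecStalk x).isEmbedding.isInducing.specializes_iff.mp (hr ▸ h1'))⟩, hr⟩
  choose r hr using h
  rw [PrimeSpectrum.height_eq_orderHeight, Order.height_eq_krullDim_Iic]
  refine Order.krullDim_le_of_strictMono r fun a b hab => ?_
  refine lt_of_le_of_ne ?_ fun e => hab.ne ((X.fromSpecStalk η).isEmbedding.injective
    ((hr a).symm.trans ((congrArg (fun r : Set.Iic p => X.fromSpecStalk x r.1) e).trans (hr b))))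
  refine (PrimeSpectrum.le_iff_specializes (r a).1 (r b).1).mpr
    ((X.fromSpecStalk x).isEmbedding.isInducing.specializes_iff.mp ?_)
  rw [hr a, hr b]
  exact ((PrimeSpectrum.le_iff_specializes a b).mp hab.le).map (X.fromSpecStalk η).continuous

theorem fibreDimAt_le_one_add {X Y : Scheme.{u}} (g : X ⟶ Y) [LocallyOfFiniteType g] (η : X)
    (h : ringKrullDim (X.presheaf.stalk η) ≤ 1) (t : ℕ) (ht : cdim (g.asFiber η) = t) (n : ℕ)
    (hn : (n : WithBot ℕ∞) ≤ FlatMor.fibreDimAt g η) : n ≤ 1 + t := by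
  obtain ⟨t', hfd, htr⟩ := fibreDimAt_eq g η
  obtain ⟨s, hs, hs'⟩ := H06Equidim.exists_trdeg_asFiber g η
  obtain rfl : t' = s := by exact_mod_cast htr.symm.trans hs'
  obtain rfl : t' = t := by exact_mod_cast hs.symm.trans ht
  have h1 : FlatMor.fibreDimAt g η ≤ 1 + (t' : ℕ) := by
    rw [hfd]
    exact add_le_add ((ringKrullDim_quotient_le _).trans h) le_rfl
  exact_mod_cast hn.trans h1

/-- One step: cutting by an element keeps a component dominating. -/
theorem exists_cut {Z Y : Scheme.{u}} [IsIntegral Z] [IsLocallyNoetherian Y] (g : Z ⟶ Y)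
    [LocallyOfFiniteType g] (x : Z) (hcl : ∀ x', g x' = g x → x ⤳ x' → x' = x) (e : ℕ)
    (hx : FlatMor.fibreDimAt g x ≤ (e + 1 : ℕ)) (hgen : ((e + 1 : ℕ) : WithBot ℕ∞) ≤ cdim (g.asFiber (genericPoint Z))) :
    ∃ (W : Scheme.{u}) (i : W ⟶ Z) (x' : W) (_ : IsIntegral W), IsClosedImmersion i ∧ i x' = x ∧
      g (i (genericPoint W)) = g (genericPoint Z) ∧ FlatMor.fibreDimAt (i ≫ g) x' ≤ (e : ℕ) ∧
      (e : WithBot ℕ∞) ≤ cdim ((i ≫ g).asFiber (genericPoint W)) := by
  haveI : IsLocallyNoetherian Z := LocallyOfFiniteType.isLocallyNoetherian g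
  let R := Z.presheaf.stalk x
  let φ := (g.stalkMap x).hom
  let I := (IsLocalRing.maximalIdeal (Y.presheaf.stalk (g x))).map φ
  have hgen' : ((e + 1 : ℕ) : WithBot ℕ∞) ≤ FlatMor.fibreDimAt g x :=
    hgen.trans ((H06Equidim.cdim_asFiber_le_fibreDimAt g _).trans
      (fibreDimAt_le_of_specializes g (genericPoint_specializes x)))
  have hnat : ∀ q, Y.fromSpecStalk (g x) (PrimeSpectrum.comap φ q) = g (Z.fromSpecStalk x q) := fun q =>
    congrArg (fun φ : Spec (Z.presheaf.stalk x) ⟶ Y => φ q) (Scheme.SpecMap_stalkMap_fromSpecStalk g)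
  have hfib : ∀ q : PrimeSpectrum R, g (Z.fromSpecStalk x q) = g x ↔ I ≤ q.asIdeal := by
    intro q
    rw [← hnat, Ideal.map_le_iff_le_comap]
    constructor
    · intro h
      exact (congrArg PrimeSpectrum.asIdeal ((Y.fromSpecStalk (g x)).isEmbedding.injective
        (h.trans Scheme.fromSpecStalk_closedPoint.symm))).ge
    · intro h
      have h1 : PrimeSpectrum.comap φ q = IsLocalRing.closedPoint _ :=
        (PrimeSpectrum.ext ((IsLocalRing.maximalIdeal.isMaximal _).eq_of_le
          (PrimeSpectrum.comap φ q).2.ne_top h)).symm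
      exact (congrArg (fun r => Y.fromSpecStalk (g x) r) h1).trans Scheme.fromSpecStalk_closedPoint
  obtain ⟨a, ham, ha⟩ := exists_mem_notMem_minimalPrimes I (IsLocalRing.maximalIdeal R) fun P hP hle => by
    have hPeq : P = IsLocalRing.maximalIdeal R :=
      ((IsLocalRing.maximalIdeal.isMaximal R).eq_of_le hP.1.1.ne_top hle).symm
    obtain ⟨ξ, hξ, hgξ, -, hξd⟩ := exists_maximal_generization g x
    obtain ⟨q, rfl⟩ : ξ ∈ Set.range (Z.fromSpecStalk x) := by rw [Scheme.range_fromSpecStalk]; exact hξ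
    have h1 : q = IsLocalRing.closedPoint R := by
      have h' : P ≤ q.asIdeal := hP.2 ⟨q.2, (hfib q).mp hgξ⟩
        (by rw [hPeq]; exact IsLocalRing.le_maximalIdeal q.2.ne_top)
      rw [hPeq] at h'
      exact PrimeSpectrum.ext (le_antisymm (IsLocalRing.le_maximalIdeal q.2.ne_top) h')
    rw [h1, Scheme.fromSpecStalk_closedPoint] at hξd
    have h2 : cdim (g.asFiber x) ≤ 0 := by
      show topologicalKrullDim (closure ({g.asFiber x} : Set (g.fiber (g x)))) ≤ 0
      rw [IsClosed.closure_eq]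
      · haveI : Subsingleton (IrreducibleCloseds ↥({g.asFiber x} : Set (g.fiber (g x)))) :=
          ⟨fun A B => IrreducibleCloseds.ext ((Subsingleton.eq_univ_of_nonempty A.2.nonempty).trans
            (Subsingleton.eq_univ_of_nonempty B.2.nonempty).symm)⟩
        exact Order.krullDim_nonpos_of_subsingleton
      · have h3 : ∀ w, g.asFiber x ⤳ w → w = g.asFiber x := fun w hw => by
          apply (g.fiberι (g x)).isEmbedding.injective
          rw [g.fiberι_asFiber]
          refine hcl _ ((g.range_fiberι (g x)).subset (Set.mem_range_self w)) ?_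
          have h4 := hw.map (g.fiberι (g x)).continuous
          rwa [g.fiberι_asFiber] at h4
        have : closure ({g.asFiber x} : Set (g.fiber (g x))) = {g.asFiber x} :=
          subset_antisymm (fun w hw => h3 w (specializes_iff_mem_closure.mpr hw)) subset_closure
        exact this ▸ isClosed_closure
    rw [← hξd] at hgen'
    have h5 : e + 1 ≤ 0 := by exact_mod_cast hgen'.trans h2
    omega
  obtain ⟨p', hp, -⟩ := Ideal.exists_minimalPrimes_le
    (show Ideal.span {a} ≤ IsLocalRing.maximalIdeal R from (Ideal.span_singleton_le_iff_mem _).mpr ham)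
  let p : PrimeSpectrum R := ⟨p', hp.1.1⟩
  have hap : a ∈ p.asIdeal := hp.1.2 (Ideal.mem_span_singleton_self a)
  have hht : p'.height ≤ 1 := by
    haveI : (Ideal.span {a}).IsPrincipal := ⟨a, rfl⟩
    exact Ideal.height_le_one_of_isPrincipal_of_mem_minimalPrimes _ _ hp
  obtain ⟨W, i, x', hi, hW, hr, hix, -⟩ := exists_integral_closure x p
  haveI := hi; haveI := hW
  set η := Z.fromSpecStalk x p
  have hηW : i (genericPoint W) = η := by
    obtain ⟨b, hb⟩ : η ∈ Set.range i := hr ▸ subset_closure rfl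
    have h1 : i (genericPoint W) ⤳ η := hb ▸ (genericPoint_specializes b).map i.continuous
    exact (h1.antisymm (specializes_iff_mem_closure.mpr (hr ▸ Set.mem_range_self _))).eq
  have hηx : η ⤳ x := by
    have : η ∈ Set.range (Z.fromSpecStalk x) := ⟨p, rfl⟩
    rwa [Scheme.range_fromSpecStalk] at this
  have hWx : FlatMor.fibreDimAt (i ≫ g) x' ≤ (e : ℕ) := by
    obtain ⟨ξ, hξ, hgξ, -, hξd⟩ := exists_maximal_generization (i ≫ g) x'
    rw [cdim_asFiber_comp_closedImmersion] at hξd
    rw [← hξd]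
    have hξx : i ξ ⤳ x := hix ▸ hξ.map i.continuous
    have hgξ' : g (i ξ) = g x := by
      rw [← hix, ← Scheme.Hom.comp_apply, hgξ, Scheme.Hom.comp_apply]
    obtain ⟨c, hc, -⟩ := H06Equidim.exists_trdeg_asFiber g (i ξ)
    rw [hc]
    by_contra hcon
    have hle : cdim (g.asFiber (i ξ)) ≤ ((e + 1 : ℕ) : WithBot ℕ∞) :=
      (H06Equidim.cdim_asFiber_le_fibreDimAt g _).trans ((fibreDimAt_le_of_specializes g hξx).trans hx)
    rw [hc] at hle
    have hce : c = e + 1 := by
      have h1 : c ≤ e + 1 := by exact_mod_cast hle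
      have h2 : ¬ c ≤ e := fun h => hcon (by exact_mod_cast h)
      omega
    obtain ⟨q, hq⟩ : i ξ ∈ Set.range (Z.fromSpecStalk x) := by rw [Scheme.range_fromSpecStalk]; exact hξx
    have hpq : p ≤ q := (PrimeSpectrum.le_iff_specializes p q).mpr
      ((Z.fromSpecStalk x).isEmbedding.isInducing.specializes_iff.mp (by
        rw [hq]; exact specializes_iff_mem_closure.mpr (hr ▸ Set.mem_range_self ξ)))
    have hIq : I ≤ q.asIdeal := (hfib q).mp (by rw [hq]; exact hgξ')
    haveI := q.2
    obtain ⟨P, hP, hPq⟩ := Ideal.exists_minimalPrimes_le hIq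
    let P' : PrimeSpectrum R := ⟨P, hP.1.1⟩
    have h4 : Z.fromSpecStalk x P' = i ξ := by
      refine H06Equidim.eq_of_specializes_of_cdim_eq g (i ξ) ?_ _ ?_ ?_
      · refine le_antisymm (H06Equidim.cdim_asFiber_le_fibreDimAt g _) ?_
        rw [hc, hce]
        exact (fibreDimAt_le_of_specializes g hξx).trans hx
      · rw [← hq]
        exact ((PrimeSpectrum.le_iff_specializes P' q).mp hPq).map (Z.fromSpecStalk x).continuous
      · rw [hgξ', (hfib P')]
        exact hP.1.2
    obtain rfl : P' = q := (Z.fromSpecStalk x).isEmbedding.injective (h4.trans hq.symm)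
    exact ha P hP (hpq hap)
  obtain ⟨t, ht, -⟩ := H06Equidim.exists_trdeg_asFiber g η
  have hte : e + 1 ≤ 1 + t := by
    refine fibreDimAt_le_one_add g η ((ringKrullDim_stalk_fromSpecStalk_le x p).trans ?_) t ht _ ?_
    · exact_mod_cast hht
    · exact hgen.trans ((H06Equidim.cdim_asFiber_le_fibreDimAt g _).trans
        (fibreDimAt_le_of_specializes g (genericPoint_specializes η)))
  refine ⟨W, i, x', hW, hi, hix, ?_, hWx, ?_⟩
  · rw [hηW]
    obtain ⟨ξ, hξ, hgξ, -, hξd⟩ := exists_maximal_generization g η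
    have hne : ξ ≠ η := fun h => by
      rw [h] at hξd
      have h1 : cdim (g.asFiber η) ≤ (e : ℕ) := by
        rw [← hηW, ← cdim_asFiber_comp_closedImmersion]
        exact (H06Equidim.cdim_asFiber_le_fibreDimAt _ _).trans
          ((fibreDimAt_le_of_specializes (i ≫ g) (genericPoint_specializes x')).trans hWx)
      have h2 : ((e + 1 : ℕ) : WithBot ℕ∞) ≤ (e : ℕ) := (hgen.trans
        ((H06Equidim.cdim_asFiber_le_fibreDimAt g _).trans
          ((fibreDimAt_le_of_specializes g (genericPoint_specializes η)).trans hξd.ge))).trans h1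
      have h3 : e + 1 ≤ e := by exact_mod_cast h2
      omega
    obtain ⟨q, rfl⟩ : ξ ∈ Set.range (Z.fromSpecStalk x) := by
      rw [Scheme.range_fromSpecStalk]; exact hξ.trans hηx
    have hqp : q.asIdeal < p.asIdeal := lt_of_le_of_ne ((PrimeSpectrum.le_iff_specializes q p).mpr
      ((Z.fromSpecStalk x).isEmbedding.isInducing.specializes_iff.mp hξ))
      fun h => hne (congrArg (fun r => Z.fromSpecStalk x r) (PrimeSpectrum.ext h))
    haveI := q.2; haveI := p.2
    have hq0 : q.asIdeal.height = 0 := by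
      have h1 := (Ideal.height_add_one_le_of_lt_of_isPrime hqp).trans hht
      exact nonpos_iff_eq_zero.mp ((ENat.add_le_add_iff_right ENat.one_ne_top).mp (h1.trans_eq (zero_add 1).symm))
    rw [← hgξ]
    refine congrArg g (fromSpecStalk_maximal x q (Ideal.height_eq_zero_iff.mp hq0) _ ?_).symm
    exact genericPoint_specializes _
  · rw [cdim_asFiber_comp_closedImmersion, hηW, ht]
    exact_mod_cast (by omega : e ≤ t)

/-- An integral closed subscheme quasi-finite at `x` dominating the same point. -/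
theorem exists_quasiSection_closed {Y : Scheme.{u}} [IsLocallyNoetherian Y] :
    ∀ (e : ℕ) {Z : Scheme.{u}} [IsIntegral Z] (g : Z ⟶ Y) [LocallyOfFiniteType g] (x : Z),
      (∀ x', g x' = g x → x ⤳ x' → x' = x) → FlatMor.fibreDimAt g x ≤ (e : ℕ) →
      (e : WithBot ℕ∞) ≤ cdim (g.asFiber (genericPoint Z)) →
      ∃ (T : Scheme.{u}) (i : T ⟶ Z) (x' : T) (_ : IsIntegral T), IsClosedImmersion i ∧ i x' = x ∧
        g (i (genericPoint T)) = g (genericPoint Z) ∧ FlatMor.fibreDimAt (i ≫ g) x' ≤ (0 : ℕ) := by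
  intro e
  induction e with
  | zero =>
    intro Z _ g _ x _ hx _
    exact ⟨Z, 𝟙 Z, x, inferInstance, inferInstance, rfl, rfl, by rwa [Category.id_comp]⟩
  | succ e ih =>
    intro Z _ g _ x hcl hx hgen
    obtain ⟨W, i, x', hW, hi, hix, hdom, hWx, hWgen⟩ := exists_cut g x hcl e hx hgen
    haveI := hi; haveI := hW
    obtain ⟨T, j, x'', hT, hj, hjx, hjdom, hT0⟩ := ih (i ≫ g) x' (fun w hw hxw => by
      refine i.isEmbedding.injective ((hcl (i w) ?_ ?_).trans hix.symm)
      · rw [Scheme.Hom.comp_apply, Scheme.Hom.comp_apply, hix] at hw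
        exact hw
      · exact hix ▸ hxw.map i.continuous) hWx hWgen
    haveI := hj; haveI := hT
    refine ⟨T, j ≫ i, x'', hT, inferInstance, ?_, ?_, ?_⟩
    · rw [Scheme.Hom.comp_apply, hjx, hix]
    · rw [Scheme.Hom.comp_apply] at hjdom ⊢
      rw [Scheme.Hom.comp_apply] at hjdom
      exact hjdom.trans hdom
    · rw [Category.assoc]
      exact hT0

/-- Quasi-sections. -/
theorem exists_quasiSection {X Y : Scheme.{u}} [IsLocallyNoetherian Y] [IrreducibleSpace Y] (f : X ⟶ Y)
    [LocallyOfFiniteType f] (x η : X) (hη : η ⤳ x) (hfη : f η = genericPoint Y)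
    (hcl : ∀ x', f x' = f x → x ⤳ x' → x' = x)
    (hdim : FlatMor.fibreDimAt f x ≤ cdim (f.asFiber η)) :
    ∃ (T : Scheme.{u}) (i : T ⟶ X), IsImmersion i ∧ IrreducibleSpace ↥T ∧ IsReduced T ∧ x ∈ Set.range i.base ∧
      LocallyOfFiniteType (i ≫ f) ∧ LocallyQuasiFinite (i ≫ f) ∧ QuasiCompact (i ≫ f) ∧ IsDominant (i ≫ f) := by
  obtain ⟨p, rfl⟩ : η ∈ Set.range (X.fromSpecStalk x) := by rw [Scheme.range_fromSpecStalk]; exact hη
  obtain ⟨Z, i, x', hi, hZ, hr, hix, -⟩ := exists_integral_closure x p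
  haveI := hi; haveI := hZ
  obtain ⟨e, he⟩ := H22Alg.exists_nat_fibreDimAt f x
  have hgen : i (genericPoint Z) = X.fromSpecStalk x p := by
    obtain ⟨b, hb⟩ : X.fromSpecStalk x p ∈ Set.range i := hr ▸ subset_closure rfl
    have h1 : i (genericPoint Z) ⤳ X.fromSpecStalk x p := hb ▸ (genericPoint_specializes b).map i.continuous
    exact (h1.antisymm (specializes_iff_mem_closure.mpr (hr ▸ Set.mem_range_self _))).eq
  obtain ⟨T, j, x'', hT, hj, hjx, hjdom, hT0⟩ := exists_quasiSection_closed e (i ≫ f) x' (fun w hw hxw => by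
      refine i.isEmbedding.injective ((hcl (i w) ?_ ?_).trans hix.symm)
      · rw [Scheme.Hom.comp_apply, Scheme.Hom.comp_apply, hix] at hw
        exact hw
      · exact hix ▸ hxw.map i.continuous)
    ((fibreDimAt_comp_closedImmersion_le i f x').trans (by rw [hix, he]))
    (by rw [cdim_asFiber_comp_closedImmersion, hgen]; exact he ▸ hdim)
  haveI := hj; haveI := hT
  let g := (j ≫ i) ≫ f
  have hg0 : FlatMor.fibreDimAt g x'' ≤ (0 : ℕ) := by
    show FlatMor.fibreDimAt ((j ≫ i) ≫ f) x'' ≤ _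
    rw [Category.assoc]
    exact hT0
  obtain ⟨(W : T.Opens), (hW : IsAffineOpen W), hxW, hWle⟩ := Opens.isBasis_iff_nbhd.mp T.isBasis_affineOpens
    (show x'' ∈ (⟨{z | FlatMor.fibreDimAt g z ≤ (0 : ℕ)}, H7Flat.isOpen_fibreDimAt_le' g _⟩ : T.Opens) from hg0)
  haveI : IsAffine W.toScheme := hW
  haveI : Nonempty W.toScheme := ⟨⟨x'', hxW⟩⟩
  haveI : IrreducibleSpace W.toScheme := inferInstance
  refine ⟨W.toScheme, W.ι ≫ j ≫ i, inferInstance, inferInstance, inferInstance, ⟨⟨x'', hxW⟩, ?_⟩,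
    inferInstance, ?_, inferInstance, ?_⟩
  · show i (j x'') = x
    rw [hjx, hix]
  · rw [H17.ConsProp.lqf_iff_fibreDimAt]
    intro w
    rw [Category.assoc, fibreDimAt_openImmersion_comp W.ι ((j ≫ i) ≫ f) w]
    exact (hWle w.2).trans (by simp)
  · constructor
    have hgenW : genericPoint T ∈ W := (genericPoint_specializes x'').mem_open W.2 hxW
    have h1 : genericPoint Y ∈ Set.range (((W.ι ≫ j ≫ i) ≫ f) : W.toScheme ⟶ Y) := by
      refine ⟨⟨_, hgenW⟩, ?_⟩
      show f (i (j (genericPoint T))) = _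
      rw [Scheme.Hom.comp_apply, Scheme.Hom.comp_apply] at hjdom
      rw [hjdom, hgen, hfη]
    intro y
    exact closure_mono (Set.singleton_subset_iff.mpr h1) ((genericPoint_specializes y).mem_closure)

end Groth.Agent.H06EGA14
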