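import Groth.Agent.H06EGA14.UnivOpen
import Groth.Agent.H22Alg.SpecResidue
import Mathlib

/-!
Étale quasi-sections through an isolated point of a universally open morphism (EGA IV 14.5.4).
-/

set_option autoImplicit false
set_option backward.isDefEq.respectTransparency false
set_option linter.style.haveILetI false
universe u

open CategoryTheory CategoryTheory.Limits AlgebraicGeometry TopologicalSpace TensorProduct

namespace Groth.Agent.H06EGA14

/-- The conclusion of EGA IV 14.5.4 for a point `x` over `s`. -/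
def HasEtaleQuasiSection {X S : Scheme.{u}} (f : X ⟶ S) (s : S) (x : X) : Prop :=
  ∃ (S' S'' : Scheme.{u}) (_ : IsAffine S') (w : S' ⟶ S) (π : S'' ⟶ S') (h : S'' ⟶ X),
    Etale w ∧ IsFinite π ∧ Surjective π ∧ LocallyOfFinitePresentation π ∧ h ≫ f = π ≫ w ∧
    ∃ s'' : S'', (π ≫ w).base ⁻¹' {s} = {s''} ∧ h.base s'' = x ∧ IsIso (h.residueFieldMap s'')

/-- A point of a base change over a point with trivial residue extension has trivial residue extension. -/
theorem surjective_residueFieldMap_includeRight {R A R' : Type u} [CommRing R] [CommRing A] [CommRing R']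
    [Algebra R A] [Algebra R R'] (p : Ideal R) [p.IsPrime] (P : Ideal R') [P.IsPrime] [P.LiesOver p]
    (hb : Function.Bijective (Ideal.ResidueField.mapₐ p P (Algebra.ofId _ _) (P.over_def p)))
    (z : Spec (CommRingCat.of (R' ⊗[R] A)))
    (hz : z.asIdeal.comap (algebraMap R' (R' ⊗[R] A)) = P) :
    Function.Surjective ((Spec.map (CommRingCat.ofHom
      (Algebra.TensorProduct.includeRight : A →ₐ[R] R' ⊗[R] A).toRingHom)).residueFieldMap z).hom := by
  let ι := (Algebra.TensorProduct.includeRight : A →ₐ[R] R' ⊗[R] A).toRingHom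
  haveI := z.2
  refine H22Alg.surjective_residueFieldMap (CommRingCat.ofHom ι) z fun y => ?_
  show ∃ a c : A, ι a ∉ z.asIdeal ∧ ι a * y - ι c ∈ z.asIdeal
  have hR : ∀ r' : R', ∃ d c : R, d ∉ p ∧ algebraMap R R' d * r' - algebraMap R R' c ∈ P := by
    intro r'
    obtain ⟨k, hk⟩ := hb.2 (algebraMap R' P.ResidueField r')
    obtain ⟨c, d, hd, rfl⟩ := IsFractionRing.div_surjective (R ⧸ p) k
    obtain ⟨c, rfl⟩ := Ideal.Quotient.mk_surjective c
    obtain ⟨d, rfl⟩ := Ideal.Quotient.mk_surjective d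
    have hdp : d ∉ p := fun h => mem_nonZeroDivisors_iff_ne_zero.mp hd (Ideal.Quotient.eq_zero_iff_mem.mpr h)
    refine ⟨d, c, hdp, ?_⟩
    have hm : ∀ a : R, Ideal.ResidueField.mapₐ p P (Algebra.ofId R R') (P.over_def p)
        (algebraMap (R ⧸ p) p.ResidueField (Ideal.Quotient.mk p a)) = algebraMap R' P.ResidueField (algebraMap R R' a) :=
      fun a => Ideal.ResidueField.map_algebraMap _ _ _ _ a
    rw [map_div₀, hm, hm, div_eq_iff] at hk
    · rw [← Ideal.algebraMap_residueField_eq_zero (I := P), map_sub, map_mul, sub_eq_zero, hk, mul_comm]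
    · rw [ne_eq, Ideal.algebraMap_residueField_eq_zero]
      exact fun h => hdp (Ideal.over_def P p ▸ h)
  induction y using TensorProduct.induction_on with
  | zero => exact ⟨1, 0, by rw [map_one]; exact z.2.one_notMem, by simp⟩
  | tmul r' a =>
    obtain ⟨d, c, hd, h⟩ := hR r'
    have hι : ∀ b : R, ι (algebraMap R A b) = algebraMap R' (R' ⊗[R] A) (algebraMap R R' b) := fun b => by
      show (1 : R') ⊗ₜ[R] algebraMap R A b = algebraMap R R' b ⊗ₜ[R] (1 : A)
      rw [Algebra.algebraMap_eq_smul_one, Algebra.algebraMap_eq_smul_one, TensorProduct.tmul_smul,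
        TensorProduct.smul_tmul']
    refine ⟨algebraMap R A d, algebraMap R A c * a, fun hm => hd ?_, ?_⟩
    · rw [hι, ← Ideal.mem_comap, hz] at hm
      rw [Ideal.over_def P p]; exact hm
    · have e : ι (algebraMap R A d) * (r' ⊗ₜ[R] a) - ι (algebraMap R A c * a) =
          algebraMap R' (R' ⊗[R] A) (algebraMap R R' d * r' - algebraMap R R' c) * ι a := by
        rw [map_mul, hι, hι, map_sub, map_mul, sub_mul, mul_assoc]
        congr 2
        show r' ⊗ₜ[R] a = (r' ⊗ₜ[R] (1 : A)) * ((1 : R') ⊗ₜ[R] a)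
        simp
      rw [e]
      exact Ideal.mul_mem_right _ _ (show _ ∈ z.asIdeal.comap (algebraMap R' (R' ⊗[R] A)) by rw [hz]; exact h)
  | add y₁ y₂ h₁ h₂ =>
    obtain ⟨a₁, c₁, ha₁, hc₁⟩ := h₁
    obtain ⟨a₂, c₂, ha₂, hc₂⟩ := h₂
    refine ⟨a₁ * a₂, c₁ * a₂ + c₂ * a₁, fun hm => ?_, ?_⟩
    · rw [map_mul] at hm
      exact (z.2.mem_or_mem hm).elim ha₁ ha₂
    · have e : ι (a₁ * a₂) * (y₁ + y₂) - ι (c₁ * a₂ + c₂ * a₁) =
          ι a₂ * (ι a₁ * y₁ - ι c₁) + ι a₁ * (ι a₂ * y₂ - ι c₂) := by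
        simp only [map_mul, map_add]; ring
      rw [e]
      exact add_mem (Ideal.mul_mem_left _ _ hc₁) (Ideal.mul_mem_left _ _ hc₂)

/-- Étale quasi-sections through an isolated point: the affine case. -/
theorem hasEtaleQuasiSection_affine {R A : Type u} [CommRing R] [CommRing A] [Algebra R A]
    [Algebra.FinitePresentation R A] (q : Spec (CommRingCat.of A))
    (hqf : haveI := q.2; Algebra.QuasiFiniteAt R q.asIdeal)
    (hopen : EGA43.IsUnivOpenAt (Spec.map (CommRingCat.ofHom (algebraMap R A))) q) :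
    HasEtaleQuasiSection (Spec.map (CommRingCat.ofHom (algebraMap R A)))
      (Spec.map (CommRingCat.ofHom (algebraMap R A)) q) q := by
  haveI := q.2
  let f := Spec.map (CommRingCat.ofHom (algebraMap R A))
  let p : Ideal R := q.asIdeal.under R
  obtain ⟨R', _, _, _, P, _, _, e, he, P', _, _, hP'q, heP', hb, hfin, huniq⟩ :=
    Algebra.exists_etale_isIdempotentElem_forall_liesOver_eq p q.asIdeal
  let T := R' ⊗[R] A
  let φ : CommRingCat.of R ⟶ CommRingCat.of R' := CommRingCat.ofHom (algebraMap R R')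
  let w₀ := Spec.map φ
  haveI : Etale w₀ := HasRingHomProperty.Spec_iff.mpr (RingHom.etale_algebraMap.mpr ‹_›)
  let ψ := Spec.map (CommRingCat.ofHom (algebraMap R' T))
  let h₀ := Spec.map (CommRingCat.ofHom (Algebra.TensorProduct.includeRight : A →ₐ[R] R' ⊗[R] A).toRingHom)
  have hsq : IsPullback h₀ ψ f w₀ :=
    (isPullback_SpecMap_of_isPushout _ _ _ _ (CommRingCat.isPushout_tensorProduct R R' A)).flip
  let p' : Spec (CommRingCat.of R') := ⟨P, ‹_›⟩
  let z : Spec (CommRingCat.of T) := ⟨P', ‹_›⟩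
  have hψz : ψ z = p' := PrimeSpectrum.ext (Ideal.over_def P' P).symm
  have hh₀z : h₀ z = q := PrimeSpectrum.ext hP'q
  have hwp : w₀ p' = f q := by
    rw [← hψz, ← hh₀z, ← Scheme.Hom.comp_apply, ← Scheme.Hom.comp_apply, hsq.w]
  -- the image of the piece is a neighbourhood of the point
  have hN := isOpenAt_of_isPullback hopen hsq z hh₀z (PrimeSpectrum.basicOpen e : Set (PrimeSpectrum T))
    ((PrimeSpectrum.basicOpen e).2.mem_nhds heP')
  rw [hψz] at hN
  -- the point is isolated in its fibre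
  haveI : LocallyQuasiFinite w₀ := by
    rw [HasRingHomProperty.Spec_iff (P := @LocallyQuasiFinite)]
    exact RingHom.quasiFinite_algebraMap.mpr inferInstance
  obtain ⟨O, hO, hOp⟩ := isDiscrete_iff_forall_exists_isOpen.mp (w₀.isDiscrete_preimage_singleton (f q)) p' hwp
  obtain ⟨_, ⟨g, rfl⟩, hgp, hgsub⟩ := PrimeSpectrum.isTopologicalBasis_basic_opens.mem_nhds_iff.mp
    (Filter.inter_mem hN (hO.mem_nhds (show p' ∈ O from (hOp.ge (Set.mem_singleton p')).1)))
  -- the construction
  let j := Spec.map (CommRingCat.ofHom (algebraMap R' (Localization.Away g)))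
  haveI : IsOpenImmersion j := IsOpenImmersion.of_isLocalization g
  let k := Spec.map (CommRingCat.ofHom (algebraMap T (Localization.Away e)))
  haveI : IsOpenImmersion k := IsOpenImmersion.of_isLocalization e
  haveI : Algebra.FinitePresentation T (Localization.Away e) := IsLocalization.Away.finitePresentation e
  haveI : Algebra.FinitePresentation R' (Localization.Away e) := Algebra.FinitePresentation.trans R' T _
  have hkψ : k ≫ ψ = Spec.map (CommRingCat.ofHom (algebraMap R' (Localization.Away e))) := by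
    rw [← Spec.map_comp, ← CommRingCat.ofHom_comp, ← IsScalarTower.algebraMap_eq]
  haveI : IsFinite (k ≫ ψ) := by
    rw [hkψ, IsFinite.SpecMap_iff]
    exact RingHom.finite_algebraMap.mpr hfin
  haveI : LocallyOfFinitePresentation (k ≫ ψ) := by
    rw [hkψ, HasRingHomProperty.Spec_iff (P := @LocallyOfFinitePresentation)]
    exact RingHom.finitePresentation_algebraMap.mpr inferInstance
  let π := pullback.snd (k ≫ ψ) j
  have hjr : Set.range j = (PrimeSpectrum.basicOpen g : Set (PrimeSpectrum R')) :=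
    PrimeSpectrum.localization_away_comap_range _ g
  obtain ⟨p₁, hp₁⟩ : p' ∈ Set.range j := hjr ▸ hgp
  obtain ⟨z₁, hz₁⟩ : z ∈ Set.range k := by
    show z ∈ Set.range (PrimeSpectrum.comap (algebraMap T (Localization.Away e)))
    rw [PrimeSpectrum.localization_away_comap_range _ e]; exact heP'
  obtain ⟨s'', hs1, hs2⟩ := Scheme.exists_preimage_of_isPullback (IsPullback.of_hasPullback (k ≫ ψ) j) z₁ p₁
    (by rw [Scheme.Hom.comp_apply, hz₁, hψz, hp₁])
  refine ⟨_, _, inferInstanceAs (IsAffine (Spec (CommRingCat.of (Localization.Away g)))), j ≫ w₀, π,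
    pullback.fst (k ≫ ψ) j ≫ k ≫ h₀, inferInstance, inferInstance, ⟨fun a => ?_⟩, inferInstance, ?_, s'', ?_, ?_, ?_⟩
  · obtain ⟨t, ht, hta⟩ := (hgsub (hjr.le ⟨a, rfl⟩)).1
    obtain ⟨t₁, rfl⟩ : t ∈ Set.range k := by
      show t ∈ Set.range (PrimeSpectrum.comap (algebraMap T (Localization.Away e)))
      rw [PrimeSpectrum.localization_away_comap_range _ e]; exact ht
    obtain ⟨u, -, hu⟩ := Scheme.exists_preimage_of_isPullback (IsPullback.of_hasPullback (k ≫ ψ) j) t₁ a
      (by rw [Scheme.Hom.comp_apply]; exact hta)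
    exact ⟨u, hu⟩
  · rw [Category.assoc, Category.assoc, hsq.w, ← Category.assoc k, ← Category.assoc, pullback.condition,
      Category.assoc]
  · refine Set.eq_singleton_iff_unique_mem.mpr ⟨?_, fun b hb => ?_⟩
    · show (π ≫ j ≫ w₀) s'' = f q
      rw [Scheme.Hom.comp_apply, hs2, Scheme.Hom.comp_apply, hp₁, hwp]
    · have hb' : w₀ (j (π b)) = f q := by
        rw [← Scheme.Hom.comp_apply, ← Scheme.Hom.comp_apply]; exact hb
      have hjb : j (π b) = p' := hOp.le ⟨(hgsub (hjr.le ⟨π b, rfl⟩)).2, hb'⟩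
      refine (pullback.fst (k ≫ ψ) j).isEmbedding.injective (hs1.symm ▸ k.isEmbedding.injective (hz₁.symm ▸ ?_))
      set t := k (pullback.fst (k ≫ ψ) j b)
      have hψt : ψ t = p' := by
        show ψ (k (pullback.fst (k ≫ ψ) j b)) = _
        rw [← hjb, ← Scheme.Hom.comp_apply π, ← pullback.condition, Scheme.Hom.comp_apply,
          Scheme.Hom.comp_apply]
      have het : e ∉ t.asIdeal := (PrimeSpectrum.localization_away_comap_range (Localization.Away e) e).le ⟨_, rfl⟩
      exact PrimeSpectrum.ext (huniq t.asIdeal t.2 ⟨(congrArg PrimeSpectrum.asIdeal hψt).symm⟩ het)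
  · rw [Scheme.Hom.comp_apply, hs1, Scheme.Hom.comp_apply, hz₁, hh₀z]
  · haveI : IsIso (h₀.residueFieldMap (k (pullback.fst (k ≫ ψ) j s''))) :=
      (ConcreteCategory.isIso_iff_bijective _).mpr ⟨RingHom.injective _, surjective_residueFieldMap_includeRight p P hb _
        (by rw [hs1, hz₁]; exact (Ideal.over_def P' P).symm)⟩
    rw [Scheme.residueFieldMap_comp, Scheme.residueFieldMap_comp]
    infer_instance

/-- Étale quasi-sections through an isolated point of a universally open morphism. -/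
theorem hasEtaleQuasiSection_of_quasiFiniteAt {X S : Scheme.{u}} (f : X ⟶ S) [LocallyOfFinitePresentation f]
    (x : X) (hqf : f.QuasiFiniteAt x) (hopen : EGA43.IsUnivOpenAt f x) :
    HasEtaleQuasiSection f (f x) x := by
  obtain ⟨(W : S.Opens), (hW : IsAffineOpen W), hxW, -⟩ := Opens.isBasis_iff_nbhd.mp S.isBasis_affineOpens
    (show f x ∈ (⊤ : S.Opens) from trivial)
  obtain ⟨(V : X.Opens), (hV : IsAffineOpen V), hxV, hVW⟩ := Opens.isBasis_iff_nbhd.mp X.isBasis_affineOpens
    (show x ∈ f ⁻¹ᵁ W from hxW)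
  obtain ⟨c, rfl⟩ : x ∈ Set.range hV.fromSpec := by rw [hV.range_fromSpec]; exact hxV
  let φ := f.appLE W V hVW
  letI := φ.hom.toAlgebra
  haveI : Algebra.FinitePresentation Γ(S, W) Γ(X, V) := f.finitePresentation_appLE hW hV hVW
  have hsq : Spec.map φ ≫ hW.fromSpec = hV.fromSpec ≫ f := IsAffineOpen.SpecMap_appLE_fromSpec f hW hV hVW
  haveI : c.asIdeal.IsPrime := c.2
  have hc : hV.primeIdealOf ⟨hV.fromSpec c, hxV⟩ = c :=
    hV.fromSpec.isOpenEmbedding.injective (hV.fromSpec_primeIdealOf _)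
  have hq : Algebra.QuasiFiniteAt Γ(S, W) c.asIdeal := by
    have := hqf.quasiFiniteAt hV hW hVW hxV
    simp only [hc] at this
    exact this
  have hopen' : EGA43.IsUnivOpenAt (Spec.map φ) c := by
    have h1 : EGA43.IsUnivOpenAt (hV.fromSpec ≫ f) c :=
      isUnivOpenAt_comp (fun Y' g y _ => fun N hN => (pullback.snd hV.fromSpec g).isOpenEmbedding.isOpenMap.image_mem_nhds hN) hopen
    exact isUnivOpenAt_of_isPullback h1 (IsPullback.of_horiz_isIso_mono (fst := 𝟙 _) (snd := Spec.map φ)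
      (f := hV.fromSpec ≫ f) (g := hW.fromSpec) ⟨by rw [Category.id_comp, hsq]⟩) c rfl
  obtain ⟨S', S'', hS', w, π, h, hw, hπ, hπs, hπp, hh, s'', hs, hsc, hres⟩ :=
    hasEtaleQuasiSection_affine (R := Γ(S, W)) (A := Γ(X, V)) c hq hopen'
  refine ⟨S', S'', hS', w ≫ hW.fromSpec, π, h ≫ hV.fromSpec, inferInstance, hπ, hπs, hπp, ?_, s'', ?_, ?_, ?_⟩
  · rw [Category.assoc, ← hsq, ← Category.assoc h]
    exact (congrArg (· ≫ hW.fromSpec) hh).trans (Category.assoc _ _ _)
  · rw [← hs]
    ext a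
    show (π ≫ w ≫ hW.fromSpec) a = f (hV.fromSpec c) ↔ (π ≫ w) a = Spec.map φ c
    rw [← Scheme.Hom.comp_apply hV.fromSpec f, ← hsq, Scheme.Hom.comp_apply _ hW.fromSpec, ← Category.assoc,
      Scheme.Hom.comp_apply _ hW.fromSpec]
    exact hW.fromSpec.isEmbedding.injective.eq_iff
  · rw [Scheme.Hom.comp_apply]; exact congrArg hV.fromSpec hsc
  · rw [Scheme.residueFieldMap_comp]; infer_instance

end Groth.Agent.H06EGA14
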